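import Cfsg.Agent.H56.OutPSL

/-!
# Elements of `PSL(2, q)` and of its automorphism group
-/

namespace Cfsg.Agent.H84.Partition.PSL

open Matrix
open Cfsg.Agent.H56 (SLn PSLn toP toP_eq_iff semiAut semiAut_toP smat smat_semiSL semiAut_mul glMap)

variable {F : Type*} [Field F]

/-- An element of `SL(2, F)` given by its entries. -/
def sl (a b c d : F) (h : a * d - b * c = 1) : SLn 2 F :=
  ⟨!![a, b; c, d], by rw [det_fin_two_of]; exact h⟩

@[simp] theorem smat_sl (a b c d : F) (h : a * d - b * c = 1) :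
    smat (sl a b c d h) = !![a, b; c, d] := rfl

/-- An element of `PSL(2, F)` given by its entries. -/
def el (a b c d : F) (h : a * d - b * c = 1) : PSLn 2 F := toP (sl a b c d h)

theorem el_congr {a b c d a' b' c' d' : F} {h : a * d - b * c = 1} {h' : a' * d' - b' * c' = 1}
    (ha : a = a') (hb : b = b') (hc : c = c') (hd : d = d') : el a b c d h = el a' b' c' d' h' := by
  subst ha hb hc hd; rfl

theorem el_neg {a b c d : F} (h : a * d - b * c = 1) :
    el a b c d h = el (-a) (-b) (-c) (-d) (by linear_combination h) := by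
  refine toP_eq_iff.2 ⟨-1, neg_one_sq, ?_⟩
  show (!![-a, -b; -c, -d] : Matrix (Fin 2) (Fin 2) F) = (-1 : F) • !![a, b; c, d]
  ext i j
  fin_cases i <;> fin_cases j <;> simp

theorem el_mul {a b c d a' b' c' d' : F} {h : a * d - b * c = 1} {h' : a' * d' - b' * c' = 1} :
    el a b c d h * el a' b' c' d' h' =
      el (a * a' + b * c') (a * b' + b * d') (c * a' + d * c') (c * b' + d * d')
        (by linear_combination (a' * d' - b' * c') * h + h') := by
  rw [el, el, el, ← map_mul]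
  refine congrArg toP (Subtype.ext ?_)
  show !![a, b; c, d] * !![a', b'; c', d'] = _
  rw [Matrix.mul_fin_two]
  rfl

theorem el_one : el (1 : F) 0 0 1 (by ring) = 1 := by
  rw [el, ← map_one toP]
  exact congrArg toP (Subtype.ext (by
    show (!![1, 0; 0, 1] : Matrix (Fin 2) (Fin 2) F) = 1
    rw [Matrix.one_fin_two]))

theorem el_eq_iff {a b c d a' b' c' d' : F} {h : a * d - b * c = 1} {h' : a' * d' - b' * c' = 1} :
    el a b c d h = el a' b' c' d' h' ↔
      (a = a' ∧ b = b' ∧ c = c' ∧ d = d') ∨ (a = -a' ∧ b = -b' ∧ c = -c' ∧ d = -d') := by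
  constructor
  · intro e
    obtain ⟨k, hk, hk'⟩ := toP_eq_iff.1 e
    have e00 := congrFun (congrFun hk' 0) 0
    have e01 := congrFun (congrFun hk' 0) 1
    have e10 := congrFun (congrFun hk' 1) 0
    have e11 := congrFun (congrFun hk' 1) 1
    simp at e00 e01 e10 e11
    rcases sq_eq_one_iff.1 hk with rfl | rfl
    · exact Or.inl ⟨by simp [e00], by simp [e01], by simp [e10], by simp [e11]⟩
    · exact Or.inr ⟨by simp [e00], by simp [e01], by simp [e10], by simp [e11]⟩
  · rintro (⟨rfl, rfl, rfl, rfl⟩ | ⟨rfl, rfl, rfl, rfl⟩)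
    · rfl
    · exact (el_neg h').symm

/-- Upper unitriangular element. -/
def U (x : F) : PSLn 2 F := el 1 x 0 1 (by ring)

/-- The Weyl element. -/
def W : PSLn 2 F := el 0 1 (-1) 0 (by ring)

/-- Diagonal element. -/
def D (c : Fˣ) : PSLn 2 F := el (c : F) 0 0 (c⁻¹ : Fˣ) (by simp)

theorem U_mul (x y : F) : U x * U y = U (x + y) := by
  rw [U, U, el_mul]
  exact el_congr (by ring) (by ring) (by ring) (by ring)

theorem U_zero : U (0 : F) = 1 := el_one

theorem U_eq_one {x : F} : U x = 1 ↔ x = 0 := by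
  refine ⟨fun h => ?_, fun h => h ▸ U_zero⟩
  rw [U, ← el_one, el_eq_iff] at h
  rcases h with ⟨-, h, -, -⟩ | ⟨-, h, -, -⟩ <;> simpa using h

theorem U_pow (x : F) (n : ℕ) : U x ^ n = U (n * x) := by
  induction n with
  | zero => simp [U_zero]
  | succ n ih => rw [pow_succ, ih, U_mul]; push_cast; ring_nf

theorem W_sq : (W : PSLn 2 F) * W = 1 := by
  rw [W, el_mul, ← el_one, el_eq_iff]
  exact Or.inr ⟨by ring, by ring, by ring, by ring⟩

theorem W_ne_one : (W : PSLn 2 F) ≠ 1 := by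
  intro h
  rw [W, ← el_one, el_eq_iff] at h
  rcases h with ⟨h, -⟩ | ⟨h, -⟩ <;> simp at h

theorem UW_cube : ((U 1 : PSLn 2 F) * W) ^ 3 = 1 := by
  rw [pow_succ, sq, U, W, el_mul, el_mul, el_mul, ← el_one, el_eq_iff]
  exact Or.inl ⟨by ring, by ring, by ring, by ring⟩

theorem not_commute_UW : ¬ Commute (U 1 : PSLn 2 F) W := by
  intro h
  have h' := h.eq
  rw [U, W, el_mul, el_mul, el_eq_iff] at h'
  rcases h' with ⟨h', -⟩ | ⟨h', -⟩ <;> simp at h'

theorem D_mul (c d : Fˣ) : D c * D d = D (c * d) := by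
  rw [D, D, el_mul]
  exact el_congr (by simp) (by simp) (by simp) (by simp [mul_comm])

/-- The diagonal homomorphism. -/
def DHom : Fˣ →* PSLn 2 F := MonoidHom.mk' D fun a b => (D_mul a b).symm

theorem D_eq_iff {c d : Fˣ} : D c = D d ↔ (c : F) = d ∨ (c : F) = -d := by
  refine ⟨fun h => ?_, fun h => el_eq_iff.2 ?_⟩
  · rw [D, D, el_eq_iff] at h
    exact h.imp (fun h => h.1) fun h => h.1
  · rcases h with h | h
    · exact Or.inl ⟨h, rfl, rfl, by rw [Units.val_inv_eq_inv_val, Units.val_inv_eq_inv_val, h]⟩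
    · exact Or.inr ⟨h, by simp, by simp, by
        rw [Units.val_inv_eq_inv_val, Units.val_inv_eq_inv_val, h, inv_neg]⟩

theorem D_eq_one {c : Fˣ} : D c = 1 ↔ (c : F) = 1 ∨ (c : F) = -1 := by
  have h1 : D (1 : Fˣ) = 1 := map_one DHom
  rw [← h1, D_eq_iff, Units.val_one]

theorem W_D (c : Fˣ) : W * D c * W⁻¹ = (D c)⁻¹ := by
  rw [inv_eq_of_mul_eq_one_left W_sq, show (D c)⁻¹ = D c⁻¹ from (map_inv DHom c).symm, W, D, D,
    el_mul, el_mul, el_eq_iff]
  exact Or.inr ⟨by simp, by simp, by simp, by simp⟩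

theorem semiAut_el (σ : F ≃+* F) {a b c d : F} (h : a * d - b * c = 1) :
    semiAut (1 : GL (Fin 2) F) σ (el a b c d h) =
      el (σ a) (σ b) (σ c) (σ d) (by rw [← map_mul, ← map_mul, ← map_sub, h, map_one]) := by
  rw [el, semiAut_toP]
  refine congrArg toP (Subtype.ext ?_)
  show smat (H56.semiSL 1 σ _) = _
  rw [smat_semiSL]
  ext i j
  fin_cases i <;> fin_cases j <;> simp [smat]

theorem semiAut_U (σ : F ≃+* F) (x : F) : semiAut (1 : GL (Fin 2) F) σ (U x) = U (σ x) :=
  (semiAut_el σ _).trans (el_congr (map_one σ) rfl (map_zero σ) (map_one σ))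

theorem semiAut_W (σ : F ≃+* F) : semiAut (1 : GL (Fin 2) F) σ W = W :=
  (semiAut_el σ _).trans (el_congr (map_zero σ) (map_one σ) (by simp) (map_zero σ))

/-- Pure field automorphisms, as a homomorphism. -/
def pureHom : RingAut F →* MulAut (PSLn 2 F) :=
  MonoidHom.mk' (fun σ => semiAut 1 σ) fun σ τ => by
    rw [semiAut_mul, map_one, one_mul]
    rfl

/-- The diagonal matrix with entries `ν, 1`. -/
def dia (ν : Fˣ) : GL (Fin 2) F :=
  Matrix.GeneralLinearGroup.mkOfDetNeZero !![(ν : F), 0; 0, 1] (by simp [det_fin_two_of])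

theorem dia_coe (ν : Fˣ) : (dia ν : Matrix (Fin 2) (Fin 2) F) = !![(ν : F), 0; 0, 1] := rfl

theorem dia_mul (ν μ : Fˣ) : dia ν * dia μ = dia (ν * μ) := by
  refine Units.ext ?_
  rw [Units.val_mul, dia_coe, dia_coe, dia_coe, Matrix.mul_fin_two]
  simp

theorem glMap_dia (σ : F ≃+* F) (ν : Fˣ) : glMap σ (dia ν) = dia (Units.map σ.toMonoidHom ν) := by
  refine Units.ext ?_
  rw [H56.glMap_coe, dia_coe, dia_coe]
  ext i j
  fin_cases i <;> fin_cases j <;> simp

theorem dia_det (ν : Fˣ) : (dia ν : Matrix (Fin 2) (Fin 2) F).det = (ν : F) := by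
  simp [dia_coe, det_fin_two_of]

/-- A matrix with square determinant induces an inner automorphism. -/
theorem semiAut_inner {g : GL (Fin 2) F} (hsq : IsSquare (g : Matrix (Fin 2) (Fin 2) F).det) :
    ∃ x : PSLn 2 F, semiAut g (RingEquiv.refl F) = MulAut.conj x := by
  obtain ⟨c, hc⟩ := hsq
  have hdet : (g : Matrix (Fin 2) (Fin 2) F).det ≠ 0 := (Matrix.isUnit_iff_isUnit_det _).1 g.isUnit |>.ne_zero
  have hc0 : c ≠ 0 := fun e => hdet (by rw [hc, e, mul_zero])
  let s : SLn 2 F := ⟨c⁻¹ • (g : Matrix (Fin 2) (Fin 2) F), by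
    rw [det_smul, Fintype.card_fin, hc]; field_simp⟩
  have hg : g = Matrix.GeneralLinearGroup.scalar (Fin 2) (Units.mk0 c hc0) *
      Matrix.SpecialLinearGroup.toGL s := by
    refine Units.ext ?_
    rw [Units.val_mul, Matrix.GeneralLinearGroup.coe_scalar]
    ext i j
    simp [Matrix.SpecialLinearGroup.toGL, s, Matrix.diagonal_mul, hc0]
  refine ⟨toP s, ?_⟩
  rw [hg, show semiAut (Matrix.GeneralLinearGroup.scalar (Fin 2) (Units.mk0 c hc0) *
      Matrix.SpecialLinearGroup.toGL s) (RingEquiv.refl F) =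
    semiAut (Matrix.GeneralLinearGroup.scalar (Fin 2) (Units.mk0 c hc0)) (RingEquiv.refl F) *
      semiAut (Matrix.SpecialLinearGroup.toGL s) (RingEquiv.refl F) from by
      rw [semiAut_mul]; congr 1,
    H56.semiAut_scalar, one_mul, H56.semiAut_eq_conj]

/-- Splitting off the matrix part. -/
theorem semiAut_split (g h : GL (Fin 2) F) (σ : F ≃+* F) :
    semiAut (g * h) σ = semiAut g (RingEquiv.refl F) * semiAut h σ := by
  rw [semiAut_mul]
  congr 1

theorem semiAut_dia_D (c : Fˣ) :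
    semiAut (dia (c * c)) (RingEquiv.refl F) = MulAut.conj (D c) := by
  have hg : dia (c * c) = Matrix.GeneralLinearGroup.scalar (Fin 2) c *
      Matrix.SpecialLinearGroup.toGL
        (sl (c : F) 0 0 ((c⁻¹ : Fˣ) : F) (by simp)) := by
    refine Units.ext ?_
    rw [Units.val_mul, dia_coe, Matrix.GeneralLinearGroup.coe_scalar]
    ext i j
    fin_cases i <;> fin_cases j <;>
      simp [Matrix.SpecialLinearGroup.toGL, Matrix.diagonal_mul, sl]
  rw [hg, semiAut_split, H56.semiAut_scalar, one_mul, H56.semiAut_eq_conj]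
  rfl

theorem semiAut_dia_D_apply (σ : F ≃+* F) (ν c : Fˣ) :
    semiAut (dia ν) σ (D c) = D (Units.map σ.toMonoidHom c) := by
  rw [D, el, semiAut_toP]
  refine congrArg toP (Subtype.ext ?_)
  show smat (H56.semiSL _ σ _) = _
  rw [smat_semiSL]
  have hinv : ((dia ν)⁻¹ : GL (Fin 2) F) = dia ν⁻¹ :=
    inv_eq_of_mul_eq_one_right (by rw [dia_mul, mul_inv_cancel]; exact Units.ext (by simp [dia_coe, Matrix.one_fin_two]))
  rw [hinv, dia_coe, dia_coe]
  ext i j
  fin_cases i <;> fin_cases j <;> simp [smat, sl, Matrix.mul_apply, Matrix.vecMul, dotProduct, Fin.sum_univ_two] <;> field_simp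

end Cfsg.Agent.H84.Partition.PSL
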