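import Cfsg.Agent.H84.Partition.AlmostBase
import Cfsg.Agent.H65.CIT.CN
import Cfsg.Agent.H84.Partition.AlmostElems

/-!
# Almost simple groups with a partition: no product of a diagonal and a field involution
-/

namespace Cfsg.Agent.H84.Partition

open Subgroup PSL
open Cfsg.Agent.H56 (PSLn semiAut)

universe u

theorem eq_three_of_two_pow {q s : ℕ} (hq : 2 ≤ q) (h : q * q - 1 = 2 ^ s) : q = 3 := by
  have hmul : (q - 1) * (q + 1) = 2 ^ s := by
    rw [← h, mul_comm, ← Nat.sq_sub_sq, one_pow, sq]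
  obtain ⟨a, -, ha⟩ := (Nat.dvd_prime_pow Nat.prime_two).1 (Dvd.intro _ hmul)
  obtain ⟨b, -, hb⟩ := (Nat.dvd_prime_pow Nat.prime_two).1 (Dvd.intro_left _ hmul)
  have h2 : 2 ^ b = 2 ^ a + 2 := by omega
  have hpa := Nat.one_le_two_pow (n := a)
  rcases Nat.lt_or_ge b 2 with hb2 | hb2
  · interval_cases b <;> omega
  · rcases Nat.lt_or_ge a 2 with ha2 | ha2
    · interval_cases a
      · obtain ⟨c, rfl⟩ : ∃ c, b = c + 2 := ⟨b - 2, by omega⟩
        rw [pow_add] at h2
        omega
      · omega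
    · obtain ⟨c, rfl⟩ : ∃ c, b = c + 2 := ⟨b - 2, by omega⟩
      obtain ⟨d, rfl⟩ : ∃ d, a = d + 2 := ⟨a - 2, by omega⟩
      rw [pow_add, pow_add] at h2
      omega

theorem el_cube {F : Type*} [Field F] {a b c d : F} (h : a * d - b * c = 1)
    (hT : (a + d) * (a + d) = 1) : el a b c d h ^ 3 = 1 := by
  rw [pow_succ, sq, el_mul, el_mul, ← el_one, el_eq_iff]
  rcases mul_self_eq_one_iff.1 hT with hT' | hT'
  · refine Or.inr ⟨?_, ?_, ?_, ?_⟩
    · linear_combination a * hT - hT' - (2 * a + d) * h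
    · linear_combination b * hT - b * h
    · linear_combination c * hT - c * h
    · linear_combination d * hT - hT' - (2 * d + a) * h
  · refine Or.inl ⟨?_, ?_, ?_, ?_⟩
    · linear_combination a * hT - hT' - (2 * a + d) * h
    · linear_combination b * hT - b * h
    · linear_combination c * hT - c * h
    · linear_combination d * hT - hT' - (2 * d + a) * h

namespace Part

variable {G : Type u} [Group G] [Finite G] (P : Part G)

/-- No element induces the product of a nonsquare diagonal and a field involution. -/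
theorem no_mixed (hnil : P.Nil) {F : Type} [Field F] [Fintype F] {p : ℕ} [CharP F p] [Fact p.Prime]
    (hp2 : p ≠ 2) (E : Emb G (PSLn 2 F)) {ν : Fˣ} (hgen : ∀ x : Fˣ, x ∈ zpowers ν) {g : G}
    {σ : F ≃+* F} (hσ1 : σ ≠ RingEquiv.refl F) (hσσ : ∀ x, σ (σ x) = x)
    (hg : E.act g = semiAut (dia ν) σ) : False := by
  classical
  set s : Fˣ →* Fˣ := Units.map σ.toMonoidHom with hs
  have hsc : ∀ x : Fˣ, ((s x : Fˣ) : F) = σ x := fun x => rfl
  have h20 : (2 : F) ≠ 0 := by
    intro h
    have h2 := (CharP.cast_eq_zero_iff F p 2).1 (by exact_mod_cast h)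
    exact hp2 ((Nat.prime_dvd_prime_iff_eq Fact.out Nat.prime_two).1 h2)
  -- `σ` cannot send the generator to itself or its negative
  have hkey : σ (ν : F) ≠ ν ∧ σ (ν : F) ≠ -ν := by
    have key : ¬ ∀ x : Fˣ, σ (x : F) ^ 2 = (x : F) ^ 2 := by
      intro h
      refine hσ1 (RingEquiv.ext fun x => ?_)
      have hsq : ∀ y : F, σ (y ^ 2) = y ^ 2 := by
        intro y
        rcases eq_or_ne y 0 with rfl | hy
        · simp
        · rw [map_pow]; exact h (Units.mk0 y hy)
      have h1 := hsq (x + 1)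
      rw [map_pow, map_add, map_one] at h1
      have h2 := hsq x
      rw [map_pow] at h2
      show σ x = x
      apply mul_left_cancel₀ h20
      linear_combination h1 - h2
    have : ∀ e : F, (e = 1 ∨ e = -1) → σ (ν : F) ≠ e * ν := by
      intro e he hν
      refine key fun x => ?_
      obtain ⟨i, rfl⟩ := mem_zpowers_iff.1 (hgen x)
      have hu : (s ν) ^ 2 = ν ^ 2 := Units.ext (by
        rw [Units.val_pow_eq_pow_val, Units.val_pow_eq_pow_val, hsc, hν, mul_pow]
        rcases he with rfl | rfl <;> simp)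
      rw [← hsc, ← Units.val_pow_eq_pow_val, ← Units.val_pow_eq_pow_val]
      congr 1
      rw [map_zpow, ← zpow_natCast, zpow_comm, zpow_natCast, hu, ← zpow_natCast, zpow_comm,
        zpow_natCast]
    exact ⟨by simpa using this 1 (Or.inl rfl), by simpa using this (-1) (Or.inr rfl)⟩
  -- the norm of the generator is a square
  obtain ⟨c, hc⟩ : ∃ c : Fˣ, ν * s ν = c * c := by
    obtain ⟨k, hk⟩ := mem_zpowers_iff.1 (hgen (s ν))
    rcases Int.even_or_odd k with ⟨l, rfl⟩ | ⟨l, rfl⟩
    · exfalso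
      have hν : ν = ((s ν) ^ l * (s ν) ^ l) := by
        have h := congrArg s hk
        rw [map_zpow, zpow_add] at h
        rw [h]
        exact Units.ext (hσσ _).symm
      have hsν : (s ν) = ν ^ l * ν ^ l := by rw [← zpow_add, hk]
      -- then every unit is a square
      have hsq : ∀ x : F, IsSquare x := by
        intro x
        rcases eq_or_ne x 0 with rfl | hx
        · exact ⟨0, by simp⟩
        obtain ⟨i, hi⟩ := mem_zpowers_iff.1 (hgen (Units.mk0 x hx))
        refine ⟨(((s ν) ^ l) ^ i : Fˣ), ?_⟩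
        rw [← Units.val_mul, ← mul_zpow, ← hν, hi, Units.val_mk0]
      obtain ⟨x, hx⟩ := FiniteField.exists_nonsquare (F := F) (by
        rw [ringChar.eq F p]; exact hp2)
      exact hx (hsq x)
    · exact ⟨ν ^ (l + 1), by rw [← hk, ← zpow_add, ← zpow_one_add]; ring_nf⟩

  have hg2 : g ^ 2 = E.j (D c) := by
    refine E.eq_j ?_
    rw [map_pow, sq, hg, H56.semiAut_mul, glMap_dia, dia_mul, ← semiAut_dia_D, ← hc,
      show σ.trans σ = RingEquiv.refl F from RingEquiv.ext hσσ]
  set d := E.j (D c) with hd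
  have hd1 : d ≠ 1 := by
    intro e
    have h := D_eq_one.1 (E.inj (e.trans (map_one E.j).symm))
    have hN : (ν : F) * σ ν = 1 := by
      have h' := congrArg Units.val hc
      rw [Units.val_mul, Units.val_mul, hsc] at h'
      rw [h']
      rcases h with h | h <;> rw [h] <;> ring
    have hinv : ∀ x : F, x ≠ 0 → x * σ x = 1 := by
      intro x hx
      obtain ⟨i, hi⟩ := mem_zpowers_iff.1 (hgen (Units.mk0 x hx))
      have hu : ν * s ν = 1 := Units.ext (by rw [Units.val_mul, hsc, hN, Units.val_one])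
      have := congrArg (fun z : Fˣ => ((z ^ i : Fˣ) : F)) hu
      simp only [mul_zpow, one_zpow, Units.val_mul, Units.val_one, ← map_zpow, hi, hsc,
        Units.val_mk0] at this
      exact this
    have h2 := hinv 2 h20
    rw [map_ofNat] at h2
    have h3 : (3 : F) = 0 := by linear_combination h2
    have hν1 : (ν : F) + 1 ≠ 0 := by
      intro e
      have hν : (ν : F) = -1 := eq_neg_of_add_eq_zero_left e
      exact hkey.1 (by rw [hν, map_neg, map_one])
    have h4 := hinv _ hν1
    rw [map_add, map_one] at h4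
    have h5 : ((ν : F) - 1) * ((ν : F) - 1) = 0 := by
      linear_combination (ν : F) * h4 - ((ν : F) + 1) * hN - (ν : F) * h3
    have hν : (ν : F) = 1 := sub_eq_zero.1 (mul_self_eq_zero.1 h5)
    exact hkey.1 (by rw [hν, map_one])
  have hg1 : g ≠ 1 := fun e => hd1 (by rw [← hg2, e, one_pow])
  have hcompd : P.comp d = P.comp g := by rw [← hg2]; exact P.comp_pow (hg2.symm ▸ hd1)
  set X := P.comp d with hX
  have hgX : g ∈ X := hcompd ▸ P.mem g
  set h0 := E.j (D ν) with hh0
  have hcomm : Commute d h0 := by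
    show E.j (D c) * E.j (D ν) = E.j (D ν) * E.j (D c)
    rw [← map_mul, ← map_mul, D_mul, D_mul, mul_comm]
  have hh0X : h0 ∈ X := by
    by_contra hnot
    have ho : orderOf h0 = orderOf d := by
      by_contra hne
      exact hnot (P.mem_of_commute hd1 hd1 (P.mem d) hcomm hne)
    rw [hh0, hd, E.orderOf_j, E.orderOf_j] at ho
    have hle : zpowers (D c) ≤ zpowers (D ν) := by
      rw [zpowers_le]
      obtain ⟨i, hi⟩ := mem_zpowers_iff.1 (hgen c)
      exact ⟨i, by rw [← hi]; exact (map_zpow DHom ν i).symm⟩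
    have heq := eq_of_le_of_card_ge hle (by rw [Nat.card_zpowers, Nat.card_zpowers, ho])
    obtain ⟨i, hi⟩ := mem_zpowers_iff.1 (heq ▸ mem_zpowers (D ν) : D ν ∈ zpowers (D c))
    rw [show D c ^ i = D (c ^ i) from (map_zpow DHom c i).symm, D_eq_iff] at hi
    have hsc' : σ (c : F) = c ∨ σ (c : F) = -c := by
      have h' := congrArg Units.val hc
      rw [Units.val_mul, Units.val_mul, hsc] at h'
      refine mul_self_eq_mul_self_iff.1 ?_
      rw [← map_mul, ← h', map_mul, hσσ, mul_comm]
    have hsc2 : σ ((c ^ i : Fˣ) : F) = ((c ^ i : Fˣ) : F) ∨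
        σ ((c ^ i : Fˣ) : F) = -((c ^ i : Fˣ) : F) := by
      rw [← hsc, map_zpow]
      rcases hsc' with h | h
      · left
        rw [show s c = c from Units.ext h]
      · rw [show s c = -c from Units.ext (by rw [hsc, h, Units.val_neg])]
        rcases Int.even_or_odd i with he | ho
        · left; rw [he.neg_zpow]
        · right; rw [ho.neg_zpow, Units.val_neg]
    rcases hi with h | h <;> rcases hsc2 with h' | h'
    · exact hkey.1 (by rw [← h, h'])
    · exact hkey.2 (by rw [← h, h'])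
    · exact hkey.1 (by rw [show (ν : F) = -((c ^ i : Fˣ) : F) by rw [h, neg_neg], map_neg, h'])
    · exact hkey.2 (by rw [show (ν : F) = -((c ^ i : Fˣ) : F) by rw [h, neg_neg], map_neg, h'])
  set w := E.j (W : PSLn 2 F) with hw
  have hwo : orderOf w = 2 := orderOf_two (by rw [hw, ← map_mul, W_sq, map_one])
    fun e => W_ne_one (E.inj (e.trans (map_one E.j).symm))
  have hwD : ∀ x : Fˣ, w * E.j (D x) * w⁻¹ = (E.j (D x))⁻¹ := fun x => by
    rw [hw, ← map_inv, ← map_mul, ← map_mul, W_D, map_inv]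
  have hwN : w ∈ normalizer (X : Set G) :=
    P.mem_normalizer_of_conj hd1 hd1 (P.mem d) (by rw [hd, hwD]; exact inv_mem (P.mem _))
  by_cases hwX : w ∈ X
  swap
  · have hab := P.commutative_of_inverts (P.inverts_of_out hd1 hwo hwX hwN) hgX hh0X
    have h := E.conj_j g (D ν)
    rw [hg, semiAut_dia_D_apply, show g * E.j (D ν) * g⁻¹ = E.j (D ν) from
      mul_inv_eq_iff_eq_mul.2 hab.eq] at h
    rcases D_eq_iff.1 (E.inj h) with h' | h'
    · exact hkey.1 h'.symm
    · exact hkey.2 (show σ (ν : F) = -(ν : F) from (neg_eq_iff_eq_neg.2 h').symm)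
  -- the order of the generator is a power of two
  obtain ⟨a, b, hab, ha, hb, ⟨k, hk⟩, hbo⟩ := H65.CIT.exists_two_split h0
  have hbX : b ∈ X := by
    obtain ⟨i, rfl⟩ := mem_zpowers_iff.1 hb
    exact zpow_mem hh0X i
  have hwb : Commute w b := P.commute_of_coprime hnil hd1 hwX hbX
    (by rw [hwo]; exact Nat.coprime_two_left.2 hbo)
  have hb1 : b = 1 := by
    obtain ⟨i, hi⟩ := mem_zpowers_iff.1 hb
    have e : w * b * w⁻¹ = b⁻¹ := by
      rw [← hi, hh0, ← map_zpow, show D ν ^ i = D (ν ^ i) from (map_zpow DHom ν i).symm, hwD]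
    rw [mul_inv_eq_iff_eq_mul.2 hwb.eq] at e
    have h2 : b ^ 2 = 1 := by rw [sq]; exact mul_eq_one_iff_eq_inv.2 e
    exact orderOf_eq_one_iff.1 (Nat.eq_one_of_dvd_coprimes (Nat.coprime_two_left.2 hbo)
      (orderOf_dvd_of_pow_eq_one h2) dvd_rfl)
  rw [hb1, mul_one] at hab
  have hνo : ∃ t, orderOf ν = 2 ^ t := by
    have h : D (ν ^ 2 ^ k) = 1 := E.inj (by
      rw [map_one, show D (ν ^ 2 ^ k) = D ν ^ 2 ^ k from map_pow DHom ν _, map_pow, ← hh0, hab, hk])
    have hν : ν ^ 2 ^ (k + 1) = 1 := Units.ext (by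
      rw [pow_succ, pow_mul, Units.val_pow_eq_pow_val, Units.val_one]
      rcases D_eq_one.1 h with h | h <;> rw [h] <;> simp)
    obtain ⟨t, -, ht⟩ := (Nat.dvd_prime_pow Nat.prime_two).1 (orderOf_dvd_of_pow_eq_one hν)
    exact ⟨t, ht⟩
  obtain ⟨t, ht⟩ := hνo
  rw [orderOf_eq_card_of_forall_mem_zpowers hgen, Nat.card_units, Nat.card_eq_fintype_card] at ht
  -- the fixed field
  obtain ⟨q0, hq2, hq⟩ : ∃ q0, 2 ≤ q0 ∧ Fintype.card F = q0 * q0 := by
    let K := {x : F // σ x = x}
    refine ⟨Fintype.card K, Fintype.one_lt_card_iff.2 ⟨⟨0, map_zero σ⟩, ⟨1, map_one σ⟩,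
      fun e => zero_ne_one (congrArg Subtype.val e)⟩, ?_⟩
    have hden : (ν : F) - σ ν ≠ 0 := sub_ne_zero.2 (Ne.symm hkey.1)
    rw [← Fintype.card_prod]
    refine (Fintype.card_of_bijective (f := fun z : K × K => (z.1 : F) + (z.2 : F) * ν) ⟨?_, ?_⟩).symm
    · rintro ⟨⟨x, hx⟩, ⟨y, hy⟩⟩ ⟨⟨x', hx'⟩, ⟨y', hy'⟩⟩ h
      simp only at h
      have h' := congrArg σ h
      rw [map_add, map_add, map_mul, map_mul, hx, hy, hx', hy'] at h'
      have hy2 : y = y' := mul_right_cancel₀ hden (by linear_combination h - h')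
      subst hy2
      have hx2 : x = x' := add_right_cancel h
      subst hx2
      rfl
    · intro x
      have hyfix : σ ((x - σ x) / ((ν : F) - σ ν)) = (x - σ x) / ((ν : F) - σ ν) := by
        rw [map_div₀, map_sub, map_sub, hσσ, hσσ, ← neg_sub x, ← neg_sub (ν : F), neg_div_neg_eq]
      refine ⟨⟨⟨x - (x - σ x) / ((ν : F) - σ ν) * ν, ?_⟩, ⟨_, hyfix⟩⟩, sub_add_cancel _ _⟩
      rw [map_sub, map_mul, hyfix]
      field_simp
      ring
  rw [hq] at ht
  obtain rfl := eq_three_of_two_pow hq2 ht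
  norm_num at hq
  -- nine elements
  have h3 : (3 : F) = 0 := by
    have h9 : (Fintype.card F : F) = 0 := FiniteField.cast_card_eq_zero F
    rw [hq] at h9
    have : (3 : F) * 3 = 0 := by
      push_cast at h9
      linear_combination h9
    exact mul_self_eq_zero.1 this
  have hν8 : orderOf ν = 8 := by
    rw [orderOf_eq_card_of_forall_mem_zpowers hgen, Nat.card_units, Nat.card_eq_fintype_card, hq]
  have hν4 : (ν : F) ^ 4 = -1 := by
    have h1 : (ν : F) ^ 8 = 1 := by
      rw [← Units.val_pow_eq_pow_val, ← hν8, pow_orderOf_eq_one, Units.val_one]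
    have h' : ((ν : F) ^ 4) ^ 2 = 1 := by rw [← pow_mul]; exact h1
    refine (sq_eq_one_iff.1 h').resolve_left fun h => ?_
    have := orderOf_dvd_of_pow_eq_one (n := 4) (x := ν) (Units.ext (by
      rw [Units.val_pow_eq_pow_val, h, Units.val_one]))
    rw [hν8] at this
    norm_num at this
  set i : F := (ν : F) ^ 2 with hi
  have hii : i * i = -1 := by rw [hi, ← hν4]; ring
  have hdet : i * i - i * (-i) = 1 := by linear_combination 2 * hii - h3
  set h1 := E.j (el i i (-i) i hdet) with hh1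
  have h1sq : el i i (-i) i hdet * el i i (-i) i hdet = W := by
    rw [el_mul, W]
    exact el_congr (by ring) (by linear_combination 2 * hii - h3)
      (by linear_combination -2 * hii + h3) (by ring)
  have h14 : h1 ^ 4 = 1 := by
    rw [show h1 ^ 4 = (h1 * h1) * (h1 * h1) by simp only [pow_succ, pow_zero, one_mul, mul_assoc], hh1, ← map_mul, h1sq, ← map_mul, W_sq, map_one]
  have hd4 : h0 ^ 4 = 1 := by
    rw [hh0, ← map_pow, show D ν ^ 4 = D (ν ^ 4) from (map_pow DHom ν 4).symm,
      D_eq_one.2 (Or.inr (by rw [Units.val_pow_eq_pow_val, hν4])), map_one]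
  have h1X : h1 ∈ X := by
    refine P.mem_of_commute hd1 (fun e => W_ne_one (E.inj (e.trans (map_one E.j).symm))) hwX ?_ ?_
    · show Commute (E.j W) h1
      rw [← h1sq, map_mul, ← hh1]
      exact ((Commute.refl h1).mul_left (Commute.refl h1))
    · rw [hwo]
      intro e
      exact W_ne_one (E.inj (by
        rw [map_one, ← h1sq, map_mul, ← hh1, ← sq, ← e, pow_orderOf_eq_one]))
  have h30 : (h0 * h1) ^ 3 = 1 := by
    rw [hh0, hh1, ← map_mul, ← map_pow]
    refine (congrArg E.j ?_).trans (map_one E.j)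
    have hνν : (ν : F) * ((ν⁻¹ : Fˣ) : F) = 1 := by
      rw [← Units.val_mul, mul_inv_cancel, Units.val_one]
    have hii' : i = (ν : F) * (ν : F) := by rw [hi, sq]
    set ν' : F := ((ν⁻¹ : Fˣ) : F) with hν'
    have hT2 : ((i * ν + i * ν')) * (i * ν + i * ν') = 1 := by
      have e : ν' * ν' = -i := by
        have : i * (ν' * ν') = 1 := by
          rw [hii']; linear_combination ((ν : F) * ν' + 1) * hνν
        linear_combination (ν' * ν') * hii - i * this
      have e2 : (ν : F) * ν = i := hii'.symm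
      linear_combination ((ν : F) * ν + 2 * (ν : F) * ν' + ν' * ν') * hii - e2 - e - 2 * hνν - h3
    rw [D, el_mul]
    refine el_cube _ ?_
    linear_combination hT2
  have hcomm3 : Commute (h0 * h1) h0 := P.commute_of_coprime hnil hd1 (mul_mem hh0X h1X) hh0X
    (Nat.Coprime.coprime_dvd_left (orderOf_dvd_of_pow_eq_one h30)
      (Nat.Coprime.coprime_dvd_right (orderOf_dvd_of_pow_eq_one hd4) (by norm_num)))
  have hc01 : Commute h0 h1 := by
    have e : h0 * h1 * h0 = h0 * (h0 * h1) := hcomm3.eq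
    rw [mul_assoc] at e
    exact (mul_left_cancel e).symm
  have hone : h0 * h1 = 1 := by
    have h4 : (h0 * h1) ^ 4 = 1 := by rw [hc01.mul_pow, hd4, h14, one_mul]
    rwa [pow_succ, h30, one_mul] at h4
  rw [hh0, hh1, ← map_mul] at hone
  have h := E.inj (hone.trans (map_one E.j).symm)
  rw [D, el_mul, ← el_one, el_eq_iff] at h
  have hne : (ν : F) * i + 0 * i ≠ 0 := by
    rw [zero_mul, add_zero]
    exact mul_ne_zero ν.ne_zero (pow_ne_zero _ ν.ne_zero)
  rcases h with ⟨-, h, -⟩ | ⟨-, h, -⟩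
  · exact hne h
  · exact hne (by rw [h, neg_zero])

end Part

end Cfsg.Agent.H84.Partition
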