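import Cfsg.Agent.H84.Partition.AlmostBase
import Cfsg.Agent.Suzuki.Aut

/-!
# Almost simple groups with a partition: the Suzuki groups
-/

namespace Cfsg.Agent.H84.Partition

open Subgroup Matrix

universe u

section elems

variable {F : Type*} [Field F] [Fintype F] (m : ℕ) [Suzuki.SzField F m]

theorem u_sq_one : Suzuki.u m (0 : F) 1 * Suzuki.u m 0 1 = 1 := by
  rw [Suzuki.u_mul, add_zero, Suzuki.th_zero, zero_mul, add_zero, Suzuki.add_self m, Suzuki.u_zero]

theorem w_sq_one : Suzuki.w (F := F) m * Suzuki.w m = 1 := by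
  refine Subtype.ext (Subtype.ext ?_)
  show (Suzuki.wSL (F := F) : Matrix (Fin 4) (Fin 4) F) * (Suzuki.wSL (F := F) : Matrix (Fin 4) (Fin 4) F) = 1
  rw [Suzuki.coe_wSL]
  ext i j
  fin_cases i <;> fin_cases j <;> simp [Matrix.mul_apply, Fin.sum_univ_four]

theorem uw_pow_five : (Suzuki.u m (0 : F) 1 * Suzuki.w m) ^ 5 = 1 := by
  haveI := Suzuki.charTwo (F := F) m
  let f : ZMod 2 →+* F := ZMod.castHom dvd_rfl F
  let M : Matrix (Fin 4) (Fin 4) (ZMod 2) :=
    !![1, 0, 1, 1; 0, 1, 0, 1; 0, 0, 1, 0; 0, 0, 0, 1] * !![0, 0, 0, 1; 0, 0, 1, 0; 0, 1, 0, 0; 1, 0, 0, 0]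
  have hM : M ^ 5 = 1 := by decide
  have key : ((Suzuki.u m (0 : F) 1).1 * (Suzuki.w (F := F) m).1 : Matrix.SpecialLinearGroup (Fin 4) F).1 =
      f.mapMatrix M := by
    rw [show f.mapMatrix M = f.mapMatrix _ * f.mapMatrix _ from map_mul _ _ _]
    show (Suzuki.uSL m (0 : F) 1).1 * (Suzuki.wSL (F := F)).1 = _
    rw [show (Suzuki.uSL m (0 : F) 1).1 = Suzuki.uMat m (0 : F) 1 from rfl,
      show (Suzuki.wSL (F := F)).1 = _ from Suzuki.coe_wSL]
    congr 1
    · ext i j
      fin_cases i <;> fin_cases j <;> simp [Suzuki.uMat, Suzuki.ovf]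
    · ext i j
      fin_cases i <;> fin_cases j <;> simp
  refine Subtype.ext (Subtype.ext ?_)
  show (((Suzuki.u m (0 : F) 1).1 * (Suzuki.w (F := F) m).1) ^ 5 : Matrix.SpecialLinearGroup (Fin 4) F).1 = 1
  rw [Matrix.SpecialLinearGroup.coe_pow, key, ← map_pow, hM, map_one]

theorem uw_ne_one : Suzuki.u m (0 : F) 1 * Suzuki.w m ≠ 1 := by
  intro h
  have h1 := congrArg (fun g : Cfsg.Sz F m => g.1.1 3 3) h
  have : (Suzuki.uMat m (0 : F) 1 * (Suzuki.wSL (F := F)).1) 3 3 = (1 : F) := by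
    exact h1.trans (by simp)
  rw [show (Suzuki.wSL (F := F)).1 = _ from Suzuki.coe_wSL] at this
  simp [Suzuki.uMat, Matrix.mul_apply, Fin.sum_univ_four] at this

end elems

namespace Part

variable {G : Type u} [Group G] [Finite G] (P : Part G)

theorem suzuki_equiv (hnil : P.Nil) {F : Type} [Field F] [Fintype F] (m : ℕ) [Suzuki.SzField F m]
    (E : Emb G (Cfsg.Sz F m)) : Nonempty (G ≃* Cfsg.Sz F m) := by
  classical
  refine E.equiv_of_inner fun g => ?_
  obtain ⟨φ, k, hk⟩ := Suzuki.aut_decomp m (E.act g)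
  by_cases hφ : φ = 1
  · exact ⟨k, by rw [hk, hφ, map_one, mul_one]⟩
  exfalso
  haveI : Finite (F ≃+* F) := Finite.of_injective (fun e : F ≃+* F => (e : F → F)) DFunLike.coe_injective
  have hcard := Suzuki.card_ringAut (F := F) m
  obtain ⟨r, hr, hrd⟩ := Nat.exists_prime_and_dvd (n := orderOf φ)
    (fun e => hφ (orderOf_eq_one_iff.1 e))
  have hr2 : r ≠ 2 := by
    rintro rfl
    have := hrd.trans ((orderOf_dvd_natCard φ).trans (dvd_of_eq hcard))
    omega
  set i := orderOf φ / r with hi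
  have hψ : orderOf (φ ^ i) = r := orderOf_pow_eq_of_dvd hrd
  set a := ((E.j k)⁻¹ * g) ^ i with ha
  have hact : E.act a = Suzuki.fieldAut m (φ ^ i) := by
    rw [ha, map_pow, map_mul, map_inv, E.act_j, hk, inv_mul_cancel_left, map_pow]
  have har : a ^ r = 1 := E.act_inj (by
    rw [map_pow, hact, ← map_pow, ← hψ, pow_orderOf_eq_one, map_one, map_one])
  have ha1 : a ≠ 1 := by
    intro e
    rw [e, map_one] at hact
    haveI := Fact.mk hr
    have h1 : φ ^ i ≠ 1 := fun e => by rw [e, orderOf_one] at hψ; exact hr.ne_one hψ.symm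
    refine h1 (RingEquiv.ext fun x => ?_)
    have h2 := congrArg (fun f : MulAut (Cfsg.Sz F m) => (f (Suzuki.u m x 0)).1.1 0 1) hact
    simp only [MulAut.one_apply, Suzuki.fieldAut_u] at h2
    simpa [Suzuki.u, Suzuki.uSL, Suzuki.uMat] using h2.symm
  have hao : orderOf a = r := by
    haveI := Fact.mk hr
    exact orderOf_eq_prime har ha1
  set u := E.j (Suzuki.u m (0 : F) 1) with hu
  set w := E.j (Suzuki.w (F := F) m) with hw
  have huX : u ∈ P.comp a := by
    refine P.mem_of_commute ha1 ha1 (P.mem a) (E.commute ?_) ?_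
    · rw [hact, Suzuki.fieldAut_u, map_zero, map_one]
    · rw [hao]
      intro e
      exact hr2 ((Nat.prime_dvd_prime_iff_eq hr Nat.prime_two).1 (e ▸ orderOf_dvd_of_pow_eq_one (by
        rw [hu, sq, ← map_mul, u_sq_one, map_one])))
  have hwX : w ∈ P.comp a := by
    refine P.mem_of_commute ha1 ha1 (P.mem a) (E.commute ?_) ?_
    · rw [hact]
      exact Subtype.ext (Suzuki.slMap_w _)
    · rw [hao]
      intro e
      exact hr2 ((Nat.prime_dvd_prime_iff_eq hr Nat.prime_two).1 (e ▸ orderOf_dvd_of_pow_eq_one (by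
        rw [hw, sq, ← map_mul, w_sq_one, map_one])))
  set z := u * w with hz
  have hz5 : z ^ 5 = 1 := by rw [hz, hu, hw, ← map_mul, ← map_pow, uw_pow_five, map_one]
  have hc : Commute u z := P.commute_of_coprime hnil ha1 huX (mul_mem huX hwX)
    (Nat.Coprime.coprime_dvd_left (orderOf_dvd_of_pow_eq_one (n := 2) (by
      rw [hu, sq, ← map_mul, u_sq_one, map_one]))
      (Nat.Coprime.coprime_dvd_right (orderOf_dvd_of_pow_eq_one hz5) (by norm_num)))
  have huw : Commute u w := by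
    have := (hc.inv_left.mul_left hc)
    have e : u * (u * w) = (u * w) * u := hc.eq
    rw [mul_assoc u w u] at e
    exact mul_left_cancel e
  have hz2 : z ^ 2 = 1 := by
    rw [hz, huw.mul_pow, sq, sq, hu, hw, ← map_mul, ← map_mul, u_sq_one, w_sq_one, map_one,
      one_mul]
  have hz1 : z = 1 := by
    have : z ^ 5 = z := by
      rw [show z ^ 5 = z ^ 2 * z ^ 2 * z by group, hz2, one_mul, one_mul]
    rw [← this, hz5]
  rw [hz, hu, hw, ← map_mul] at hz1
  exact uw_ne_one m (E.inj (hz1.trans (map_one E.j).symm))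

end Part

end Cfsg.Agent.H84.Partition
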