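import Cfsg.Agent.H84.Partition.AlmostPure
import Cfsg.Agent.H84.Partition.AlmostMixed
import Cfsg.Agent.H84.Partition.AlmostSuzuki
import Cfsg.Agent.H27.ProjLine
import Cfsg.Agent.S0253
import Cfsg.Prelude.Def_Sz

/-!
# Almost simple groups with a partition
-/

namespace Cfsg.Agent.H84.Partition

open Subgroup PSL
open Cfsg.Agent.H56 (PSLn semiAut)

universe u

namespace Part

variable {G : Type u} [Group G] [Finite G] (P : Part G)

/-- The field part of every induced automorphism is trivial. -/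
theorem field_trivial (hnil : P.Nil) {F : Type} [Field F] [Fintype F] (h4 : 4 ≤ Fintype.card F)
    (hne4 : Fintype.card F ≠ 4) (E : Emb G (PSLn 2 F)) (g : G) :
    H56.fieldHom le_rfl (E.act g) = 1 := by
  classical
  by_contra hne
  haveI : Finite (RingAut F) :=
    Finite.of_injective (fun e : F ≃+* F => (e : F → F)) DFunLike.coe_injective
  set θ := H56.fieldHom (F := F) (n := 2) le_rfl (E.act g) with hθ
  obtain ⟨r, hr, hrd⟩ := Nat.exists_prime_and_dvd (n := orderOf θ)
    (fun e => hne (orderOf_eq_one_iff.1 e))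
  haveI := Fact.mk hr
  set g' := g ^ (orderOf θ / r) with hg'
  have hθ' : H56.fieldHom le_rfl (E.act g') = θ ^ (orderOf θ / r) := by rw [hg', map_pow, map_pow]
  have hord : orderOf (θ ^ (orderOf θ / r)) = r := orderOf_pow_eq_of_dvd hrd
  obtain ⟨m, σ, hm | ⟨h3, -⟩⟩ := H56.exists_decomp le_rfl (E.act g')
  swap
  · omega
  rw [hm, H56.fieldHom_semiAut] at hθ'
  have hσr : (σ : RingAut F) ^ r = 1 := by
    rw [hθ']
    exact orderOf_dvd_iff_pow_eq_one.1 (dvd_of_eq hord)
  have hσ1 : σ ≠ RingEquiv.refl F := fun e => by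
    rw [← hθ', e, show (RingEquiv.refl F : RingAut F) = 1 from rfl, orderOf_one] at hord
    exact hr.ne_one hord.symm
  have hpure : ∀ (τ : F ≃+* F) (M : GL (Fin 2) F), IsSquare (M : Matrix (Fin 2) (Fin 2) F).det →
      ∀ a : G, E.act a = semiAut M τ → ∃ b, E.act b = semiAut 1 τ := by
    intro τ M hM a ha
    obtain ⟨x, hx⟩ := semiAut_inner hM
    refine ⟨(E.j x)⁻¹ * a, ?_⟩
    rw [map_mul, map_inv, E.act_j, ha, show semiAut M τ = semiAut (M * 1) τ by rw [mul_one],
      semiAut_split, hx, inv_mul_cancel_left]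
  by_cases hsq : IsSquare (m : Matrix (Fin 2) (Fin 2) F).det
  · obtain ⟨b, hb⟩ := hpure σ m hsq g' hm
    exact P.no_pure hnil h4 hne4 E hr hσ1 hσr hb
  obtain ⟨p, hchar⟩ := CharP.exists F
  haveI := hchar
  haveI : Fact p.Prime := ⟨CharP.char_is_prime F p⟩
  have hp2 : p ≠ 2 := by
    rintro rfl
    exact hsq (FiniteField.isSquare_of_char_two (ringChar.eq F 2) _)
  obtain ⟨ν, hgen⟩ := IsCyclic.exists_generator (α := Fˣ)
  have hdet0 : (m : Matrix (Fin 2) (Fin 2) F).det ≠ 0 :=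
    ((Matrix.isUnit_iff_isUnit_det _).1 m.isUnit).ne_zero
  have hodd : ∀ (M : GL (Fin 2) F), ¬ IsSquare (M : Matrix (Fin 2) (Fin 2) F).det →
      IsSquare ((M : Matrix (Fin 2) (Fin 2) F).det * (((ν⁻¹ : Fˣ)) : F)) := by
    intro M hM
    have h0 : (M : Matrix (Fin 2) (Fin 2) F).det ≠ 0 :=
      ((Matrix.isUnit_iff_isUnit_det _).1 M.isUnit).ne_zero
    obtain ⟨i, hi⟩ := mem_zpowers_iff.1 (hgen (Units.mk0 _ h0))
    rcases Int.even_or_odd i with ⟨l, rfl⟩ | ⟨l, rfl⟩
    · exact absurd ⟨((ν ^ l : Fˣ) : F), by rw [← Units.val_mul, ← zpow_add, hi, Units.val_mk0]⟩ hM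
    · refine ⟨((ν ^ l : Fˣ) : F), ?_⟩
      rw [← Units.val_mk0 h0, ← hi, ← Units.val_mul, ← Units.val_mul, ← zpow_neg_one, ← zpow_add,
        ← zpow_add]
      congr 2
      ring
  by_cases hr2 : r = 2
  · subst hr2
    obtain ⟨x, hx⟩ := semiAut_inner (g := m * dia ν⁻¹) (by
      rw [Units.val_mul, Matrix.det_mul, dia_det]; exact hodd m hsq)
    have hb : E.act ((E.j x)⁻¹ * g') = semiAut (dia ν) σ := by
      rw [map_mul, map_inv, E.act_j, hm,
        show semiAut m σ = semiAut (m * dia ν⁻¹ * dia ν) σ by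
          congr 1
          rw [mul_assoc, dia_mul, inv_mul_cancel]
          exact (mul_one m).symm.trans (congrArg (m * ·) (Units.ext (by
            simp [dia_coe, Matrix.one_fin_two]))),
        semiAut_split, hx, inv_mul_cancel_left]
    exact P.no_mixed hnil hp2 E hgen hσ1
      (fun y => RingEquiv.congr_fun ((sq (σ : RingAut F)).symm.trans hσr) y) hb
  · -- a power of odd prime order has square determinant
    have hro : Odd r := hr.odd_of_ne_two hr2
    obtain ⟨j, hj⟩ : ∃ j, r + 1 = 2 * j := ⟨(r + 1) / 2, by obtain ⟨k, hk⟩ := hro; omega⟩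
    obtain ⟨M, hM, hMsq⟩ : ∃ M : GL (Fin 2) F, E.act (g' * g') = semiAut M ((σ : RingAut F) * σ) ∧
        IsSquare (M : Matrix (Fin 2) (Fin 2) F).det := by
      refine ⟨m * H56.glMap σ m, ?_, ?_⟩
      · rw [map_mul, hm, H56.semiAut_mul]; rfl
      · rw [Units.val_mul, Matrix.det_mul, H56.glMap_coe]
        have e : ((m : Matrix (Fin 2) (Fin 2) F).map σ).det = σ ((m : Matrix (Fin 2) (Fin 2) F).det) :=
          (σ.map_det _).symm
        rw [e]
        have hns : ¬ IsSquare (σ ((m : Matrix (Fin 2) (Fin 2) F).det)) := fun ⟨c, hc⟩ =>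
          hsq ⟨σ.symm c, by rw [← map_mul, ← hc, σ.symm_apply_apply]⟩
        obtain ⟨c, hc⟩ := hodd m hsq
        obtain ⟨c', hc'⟩ : IsSquare (σ ((m : Matrix (Fin 2) (Fin 2) F).det) * (((ν⁻¹ : Fˣ)) : F)) := by
          have := hodd (H56.glMap σ m) (by rwa [H56.glMap_coe, e])
          rwa [H56.glMap_coe, e] at this
        refine ⟨c * c' * (ν : F), ?_⟩
        have hνν : (ν : F) * ((ν⁻¹ : Fˣ) : F) = 1 := by
          rw [← Units.val_mul, mul_inv_cancel, Units.val_one]
        set d := (m : Matrix (Fin 2) (Fin 2) F).det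
        set d' := σ d
        linear_combination (c' * c' * (ν : F) * ν) * hc + (d * ((ν⁻¹ : Fˣ) : F) * (ν : F) * ν) * hc' -
          d * d' * ((ν : F) * ((ν⁻¹ : Fˣ) : F) + 1) * hνν
    obtain ⟨b, hb⟩ := hpure _ M hMsq _ hM
    refine P.no_pure hnil h4 hne4 E hr (a := b ^ j) hσ1 hσr ?_
    rw [map_pow, hb]
    show (pureHom ((σ : RingAut F) * σ)) ^ j = semiAut 1 σ
    rw [← map_pow, ← sq, ← pow_mul, ← hj, pow_succ, hσr, one_mul]
    rfl

/-- Almost simple groups over `PSL(2, q)` with a partition, `q ≠ 4`. -/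
theorem psl_equiv (hnil : P.Nil) {F : Type} [Field F] [Fintype F] (h4 : 4 ≤ Fintype.card F)
    (hne4 : Fintype.card F ≠ 4) (E : Emb G (PSLn 2 F)) :
    Nonempty (G ≃* Matrix.ProjectiveSpecialLinearGroup (Fin 2) F) ∨
      (5 ≤ Fintype.card F ∧ Odd (Fintype.card F) ∧
        Nonempty (G ≃* (GL (Fin 2) F ⧸ Subgroup.center (GL (Fin 2) F)))) := by
  classical
  have hdec : ∀ g, ∃ m : GL (Fin 2) F, E.act g = semiAut m (RingEquiv.refl F) := by
    intro g
    obtain ⟨m, σ, h | ⟨h3, -⟩⟩ := H56.exists_decomp le_rfl (E.act g)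
    · refine ⟨m, ?_⟩
      have h' := P.field_trivial hnil h4 hne4 E g
      rw [h, H56.fieldHom_semiAut] at h'
      rw [h, h']
      rfl
    · omega
  by_cases hall : ∀ g, ∃ x, E.act g = MulAut.conj x
  · exact Or.inl (E.equiv_of_inner hall)
  push Not at hall
  obtain ⟨g, hg⟩ := hall
  obtain ⟨m, hm⟩ := hdec g
  have hns : ¬ IsSquare (m : Matrix (Fin 2) (Fin 2) F).det := fun h => by
    obtain ⟨x, hx⟩ := semiAut_inner h
    exact hg x (hm.trans hx)
  have hchar : ringChar F ≠ 2 := fun h => hns (FiniteField.isSquare_of_char_two h _)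
  have hodd : Odd (Fintype.card F) :=
    Nat.odd_iff.2 (FiniteField.odd_card_of_char_ne_two hchar)
  refine Or.inr ⟨by omega, hodd, ?_⟩
  let Ψ : GL (Fin 2) F →* MulAut (PSLn 2 F) :=
    MonoidHom.mk' (fun M => semiAut M (RingEquiv.refl F)) fun a b => semiAut_split a b _
  have hker : Ψ.ker = Subgroup.center (GL (Fin 2) F) := by
    ext M
    rw [MonoidHom.mem_ker]
    show semiAut M (RingEquiv.refl F) = 1 ↔ _
    constructor
    · intro h
      obtain ⟨-, c, rfl⟩ := H56.eq_of_semiAut_eq_one le_rfl h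
      exact Subgroup.mem_center_iff.2 fun N => Units.ext (by
        rw [Units.val_mul, Units.val_mul, Matrix.GeneralLinearGroup.coe_scalar]
        ext i j
        simp [Matrix.mul_diagonal, Matrix.diagonal_mul, mul_comm])
    · intro h
      rw [Matrix.GeneralLinearGroup.center_eq_range_scalar] at h
      obtain ⟨c, rfl⟩ := h
      exact H56.semiAut_scalar c
  have hrange : E.act.range = Ψ.range := by
    refine le_antisymm ?_ ?_
    · rintro _ ⟨a, rfl⟩
      obtain ⟨M, hM⟩ := hdec a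
      exact ⟨M, hM.symm⟩
    · rintro _ ⟨M, rfl⟩
      show semiAut M (RingEquiv.refl F) ∈ E.act.range
      have hinner : ∀ N : GL (Fin 2) F, IsSquare (N : Matrix (Fin 2) (Fin 2) F).det →
          semiAut N (RingEquiv.refl F) ∈ E.act.range := fun N hN => by
        obtain ⟨x, hx⟩ := semiAut_inner hN
        exact ⟨E.j x, (E.act_j x).trans hx.symm⟩
      by_cases hM : IsSquare (M : Matrix (Fin 2) (Fin 2) F).det
      · exact hinner M hM
      · rw [show M = M * m⁻¹ * m by group, semiAut_split, ← hm]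
        refine mul_mem (hinner _ ?_) ⟨g, rfl⟩
        obtain ⟨ν, hgen⟩ := IsCyclic.exists_generator (α := Fˣ)
        have hdet : (((M * m⁻¹ : GL (Fin 2) F)) : Matrix (Fin 2) (Fin 2) F).det =
            ((Matrix.GeneralLinearGroup.det M * (Matrix.GeneralLinearGroup.det m)⁻¹ : Fˣ) : F) := by
          rw [← map_inv, ← map_mul]
          rfl
        rw [hdet]
        obtain ⟨i, hi⟩ := mem_zpowers_iff.1 (hgen (Matrix.GeneralLinearGroup.det M))
        obtain ⟨k, hk⟩ := mem_zpowers_iff.1 (hgen (Matrix.GeneralLinearGroup.det m))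
        have key : ∀ (N : GL (Fin 2) F) (i : ℤ), ν ^ i = Matrix.GeneralLinearGroup.det N →
            ¬ IsSquare (N : Matrix (Fin 2) (Fin 2) F).det → Odd i := by
          intro N i hi hN
          refine (Int.even_or_odd i).resolve_left fun ⟨l, hl⟩ => hN ⟨((ν ^ l : Fˣ) : F), ?_⟩
          rw [← Units.val_mul, ← zpow_add, ← hl, hi]
          rfl
        obtain ⟨l, hl⟩ := (key M i hi hM).sub_odd (key m k hk hns)
        refine ⟨((ν ^ l : Fˣ) : F), ?_⟩
        rw [← Units.val_mul, ← zpow_add, ← hl, ← hi, ← hk, zpow_sub]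
  exact ⟨((MonoidHom.ofInjective E.act_inj).trans (MulEquiv.subgroupCongr hrange)).trans
    ((QuotientGroup.quotientKerEquivRange Ψ).symm.trans (QuotientGroup.quotientMulEquivOfEq hker))⟩

/-- Almost simple groups over `PSL(2, q)` or Suzuki groups with a partition. -/
theorem almost_simple (hnil : P.Nil) {T : Subgroup G} [T.Normal]
    (hC : centralizer (T : Set G) = ⊥)
    (hT : (∃ (F : Type) (_ : Field F) (_ : Fintype F), 4 ≤ Fintype.card F ∧
        Nonempty (↥T ≃* Matrix.ProjectiveSpecialLinearGroup (Fin 2) F)) ∨ Cfsg.Lie.IsoSuzuki ↥T) :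
    (∃ (F : Type) (_ : Field F) (_ : Fintype F), 4 ≤ Fintype.card F ∧
        Nonempty (G ≃* Matrix.ProjectiveSpecialLinearGroup (Fin 2) F)) ∨
    (∃ (F : Type) (_ : Field F) (_ : Fintype F), 5 ≤ Fintype.card F ∧ Odd (Fintype.card F) ∧
        Nonempty (G ≃* (GL (Fin 2) F ⧸ Subgroup.center (GL (Fin 2) F)))) ∨
    Cfsg.Lie.IsoSuzuki G := by
  classical
  rcases hT with ⟨F, iF, iFt, h4, ⟨e⟩⟩ | ⟨F, iF, iFt, m, hm, hF, ⟨e⟩⟩
  · obtain ⟨F', iF', iFt', h4', hne', ⟨e'⟩⟩ : ∃ (F' : Type) (_ : Field F') (_ : Fintype F'),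
        4 ≤ Fintype.card F' ∧ Fintype.card F' ≠ 4 ∧
        Nonempty (↥T ≃* Matrix.ProjectiveSpecialLinearGroup (Fin 2) F') := by
      by_cases h : Fintype.card F = 4
      · haveI : Fact (Nat.Prime 5) := ⟨by norm_num⟩
        have h5 : Fintype.card (ZMod 5) = 5 := ZMod.card 5
        obtain ⟨a5⟩ := S0253.result h5
        have hc := Linear.card_PSL_two_mul (F := F)
        rw [h] at hc
        norm_num at hc
        obtain ⟨a4⟩ : Nonempty (Matrix.ProjectiveSpecialLinearGroup (Fin 2) F ≃* alternatingGroup (Fin 5)) :=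
          H27.ProjLine.psl_two_equiv_alternating (n := 5) (by rw [h]) (by rw [Nat.card_eq_fintype_card, hc]; rfl)
        exact ⟨ZMod 5, inferInstance, inferInstance, by rw [h5]; norm_num, by rw [h5]; norm_num,
          ⟨(e.trans a4).trans a5.symm⟩⟩
      · exact ⟨F, iF, iFt, h4, h, ⟨e⟩⟩
    rcases P.psl_equiv hnil h4' hne' (Emb.ofNormal hC e') with h | ⟨h5, ho, h⟩
    · exact Or.inl ⟨F', iF', iFt', h4', h⟩
    · exact Or.inr (Or.inl ⟨F', iF', iFt', h5, ho, h⟩)
  · haveI : Suzuki.SzField F m := ⟨hF, hm⟩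
    obtain ⟨e'⟩ := P.suzuki_equiv hnil m (Emb.ofNormal hC (e.trans (Suzuki.lieEquiv m).symm))
    exact Or.inr (Or.inr ⟨F, iF, iFt, m, hm, hF, ⟨e'.trans (Suzuki.lieEquiv m)⟩⟩)

end Part

end Cfsg.Agent.H84.Partition
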