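import Cfsg.Agent.H84.Partition.Semisimple
import Cfsg.Agent.H65.BSW.DihedralPSL
import Cfsg.Agent.H25.InvolutionTransfer

/-!
# Simple groups with a partition: a centraliser of an involution outside its part
-/

namespace Cfsg.Agent.H84.Partition

open Subgroup

universe u

variable {G : Type u} [Group G] [Finite G] (P : Part G)

theorem zpowers_two_isPGroup {x : G} {k : ℕ} (hx : x ^ 2 ^ k = 1) : IsPGroup 2 ↥(zpowers x) := by
  rintro ⟨w, hw⟩
  obtain ⟨i, rfl⟩ := mem_zpowers_iff.1 hw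
  exact ⟨k, Subtype.ext (by
    show (x ^ i) ^ 2 ^ k = 1
    rw [← zpow_natCast, zpow_comm, zpow_natCast, hx, one_zpow])⟩

theorem orderOf_two {x : G} (h : x * x = 1) (h1 : x ≠ 1) : orderOf x = 2 := by
  haveI := Fact.mk Nat.prime_two
  exact orderOf_eq_prime (by rw [sq]; exact h) h1

theorem mul_self_of_two {x : G} (h : orderOf x = 2) : x * x = 1 := by
  rw [← sq, ← h, pow_orderOf_eq_one]

theorem eq_sylow_of_normalizer {D : Subgroup G} {S0 : Subgroup G} (hS0D : S0 ≤ D)
    (hmax : ∀ Q : Subgroup G, IsPGroup 2 ↥Q → S0 ≤ Q → Q ≤ D → Q = S0) (hp : IsPGroup 2 ↥S0)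
    {g : G} {k : ℕ} (hg : g ^ 2 ^ k = 1) (hgN : g ∈ normalizer (S0 : Set G)) (hgD : g ∈ D) :
    g ∈ S0 := by
  have hle : zpowers g ≤ normalizer (S0 : Set G) := zpowers_le.2 hgN
  have h := hmax _ (hp.to_sup_of_normal_left' (zpowers_two_isPGroup hg) hle) le_sup_left
    (sup_le hS0D (zpowers_le.2 hgD))
  exact h ▸ le_sup_right (α := Subgroup G) (mem_zpowers g)

namespace Part

theorem inverts_of_out {a : G} (ha : a ≠ 1) {v : G} (hv : orderOf v = 2) (hvX : v ∉ P.comp a)
    (hvN : v ∈ normalizer (P.comp a : Set G)) :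
    ∀ x ∈ P.comp a, v * x * v⁻¹ = x⁻¹ := by
  intro x hx
  have hv2 := mul_self_of_two hv
  have hinv : v⁻¹ = v := (eq_inv_of_mul_eq_one_left hv2).symm
  have h : (x * v) ^ 2 = 1 := by
    refine P.pow_out ha (fun e => hvX (by simpa using mul_mem (inv_mem hx) e)) ?_
    have e : (x * v) ^ 2 = x * (v * x * v⁻¹) := by rw [sq, hinv]; group
    rw [e]
    exact mul_mem hx ((mem_normalizer_iff.1 hvN x).1 hx)
  refine eq_inv_of_mul_eq_one_right (a := x) ?_
  rw [← h, sq, hinv]; group

/-- An involution whose centraliser is not a 2-group and is not inside its part gives `PSL(2, q)`. -/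
theorem psl_of_dihedral [IsSimpleGroup G] (hna : ¬ IsMulCommutative G) (hnil : P.Nil)
    {t u z : G} (ht : orderOf t = 2) (hu : Commute u t) (huX : u ∉ P.comp t) (hz : Commute z t)
    (hzo : ∀ k : ℕ, z ^ 2 ^ k ≠ 1) :
    ∃ (F : Type) (_ : Field F) (_ : Fintype F), Odd (Fintype.card F) ∧
      Nonempty (G ≃* Matrix.ProjectiveSpecialLinearGroup (Fin 2) F) := by
  classical
  haveI := Fact.mk Nat.prime_two
  have ht1 := ne_one_of_orderOf_prime Nat.prime_two ht
  set X := P.comp t with hXdef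
  have htX : t ∈ X := P.mem t
  have hu1 : u ≠ 1 := fun e => huX (e ▸ one_mem _)
  have hu2 : orderOf u = 2 := by
    by_contra hne
    exact huX (P.mem_of_commute ht1 ht1 htX hu.symm (by rw [ht]; exact hne))
  have huu := mul_self_of_two hu2
  have huinv : u⁻¹ = u := (eq_inv_of_mul_eq_one_left huu).symm
  have huN : u ∈ normalizer (X : Set G) := P.mem_normalizer_of_commute ht1 ht1 htX hu
  have hinv : ∀ x ∈ X, u * x * u⁻¹ = x⁻¹ := P.inverts_of_out ht1 hu2 huX huN
  have hXc : ∀ x ∈ X, ∀ y ∈ X, Commute x y := by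
    intro x hx y hy
    have h := hinv _ (mul_mem hx hy)
    rw [show u * (x * y) * u⁻¹ = (u * x * u⁻¹) * (u * y * u⁻¹) by group, hinv x hx, hinv y hy,
      mul_inv_rev] at h
    have h' := congrArg (fun a => a⁻¹) h
    simp only [mul_inv_rev, inv_inv] at h'
    exact h'.symm
  have hzX : z ∈ X := P.mem_of_commute ht1 ht1 htX hz.symm fun e => hzo 1 (by
    rw [pow_one, ← ht, ← e, pow_orderOf_eq_one])
  have hz2 : z⁻¹ ≠ z := fun e => hzo 1 (by
    rw [pow_one, sq]
    nth_rw 1 [← e]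
    exact inv_mul_cancel z)
  have hshape : ∀ w ∈ X, orderOf w = 2 → ∀ g, Commute g w → g ∈ X ∨ u * g ∈ X := by
    intro w hw hw2 g hg
    have hw1 := ne_one_of_orderOf_prime Nat.prime_two hw2
    by_cases hgX : g ∈ X
    · exact Or.inl hgX
    right
    have hg2 : orderOf g = 2 := by
      by_contra hne
      exact hgX (P.mem_of_commute ht1 hw1 hw hg.symm (by rw [hw2]; exact hne))
    have hginv := P.inverts_of_out ht1 hg2 hgX (P.mem_normalizer_of_commute ht1 hw1 hw hg)
    by_contra hug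
    have hc : u * g * z * (u * g)⁻¹ = z := by
      rw [show u * g * z * (u * g)⁻¹ = u * (g * z * g⁻¹) * u⁻¹ by group, hginv z hzX,
        hinv _ (inv_mem hzX), inv_inv]
    have hz1 : z ≠ 1 := fun e => hz2 (by rw [e, inv_one])
    have hcw : Commute (u * g) w := (show Commute u w from mul_inv_eq_iff_eq_mul.1 (by
      rw [hinv w hw]
      exact (eq_inv_of_mul_eq_one_left (mul_self_of_two hw2)).symm)).mul_left hg
    have hugo : orderOf (u * g) = 2 := by
      by_contra hne
      exact hug (P.mem_of_commute ht1 hw1 hw hcw.symm (by rw [hw2]; exact hne))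
    refine hug (P.mem_of_commute ht1 hz1 hzX (mul_inv_eq_iff_eq_mul.1 hc).symm ?_)
    rw [hugo]
    intro e
    exact hzo 1 (by rw [pow_one, e, pow_orderOf_eq_one])
  set D := centralizer ({t} : Set G) with hDdef
  have hmemD : ∀ g, g ∈ D ↔ Commute g t := fun g => mem_centralizer_singleton_iff
  have hXD : X ≤ D := fun x hx => (hmemD x).2 (hXc x hx t htX)
  have huD : u ∈ D := (hmemD u).2 hu
  have hDshape : ∀ g ∈ D, g ∈ X ∨ u * g ∈ X := fun g hg => hshape t htX ht g ((hmemD g).1 hg)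
  have hcD : ∀ w ∈ X, orderOf w = 2 → ∀ g, Commute g w → g ∈ D := by
    intro w hw hw2 g hg
    rcases hshape w hw hw2 g hg with h | h
    · exact hXD h
    · simpa using mul_mem (inv_mem huD) (hXD h)
  -- a Sylow 2-subgroup of the centraliser
  obtain ⟨Q⟩ : Nonempty (Sylow 2 ↥D) := inferInstance
  set S0 : Subgroup G := (Q : Subgroup ↥D).map D.subtype with hS0
  have hS0p : IsPGroup 2 ↥S0 := Q.2.map D.subtype
  have hS0D : S0 ≤ D := map_subtype_le _
  have hmax : ∀ R : Subgroup G, IsPGroup 2 ↥R → S0 ≤ R → R ≤ D → R = S0 := by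
    intro R hR hle hRD
    have h2 : R.subgroupOf D = (Q : Subgroup ↥D) := Q.3 (hR.comap_of_injective _ D.subtype_injective)
      fun q hq => hle ⟨q, hq, rfl⟩
    rw [hS0, ← h2, subgroupOf_map_subtype, inf_of_le_left hRD]
  have hXmem : ∀ x ∈ X, (∃ k, x ^ 2 ^ k = 1) → x ∈ S0 := by
    rintro x hx ⟨k, hk⟩
    have hN : D ≤ normalizer (zpowers x : Set G) := by
      intro g hg
      apply mem_normalizer_of_map_eq
      rw [MonoidHom.map_zpowers]
      show zpowers (g * x * g⁻¹) = _
      rcases hDshape g hg with h | h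
      · rw [(hXc g h x hx).eq, mul_inv_cancel_right]
      · have h1 := hinv _ hx
        obtain ⟨c, hc, rfl⟩ : ∃ c ∈ X, g = u⁻¹ * c := ⟨u * g, h, by group⟩
        rw [show u⁻¹ * c * x * (u⁻¹ * c)⁻¹ = u⁻¹ * (c * x * c⁻¹) * u by group,
          (hXc c hc x hx).eq, mul_inv_cancel_right, huinv]
        rw [huinv] at h1
        rw [h1, zpowers_inv]
    have hp := hS0p.to_sup_of_normal_right' (zpowers_two_isPGroup hk) (hS0D.trans hN)
    exact (hmax _ hp le_sup_left (sup_le hS0D (zpowers_le.2 (hXD hx)))) ▸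
      le_sup_right (α := Subgroup G) (mem_zpowers x)
  obtain ⟨S, hS0S⟩ := hS0p.exists_le_sylow
  have htS0 : t ∈ S0 := hXmem t htX ⟨1, by rw [pow_one, ← ht, pow_orderOf_eq_one]⟩
  have hpow : ∀ g ∈ (S : Subgroup G), ∃ k, g ^ 2 ^ k = 1 := fun g hg => by
    obtain ⟨k, hk⟩ := S.2 ⟨g, hg⟩
    exact ⟨k, congrArg Subtype.val hk⟩
  have hord : ∀ g ∈ D, g ∉ X → orderOf g = 2 := fun g hg hgX => by
    by_contra hne
    exact hgX (P.mem_of_commute ht1 ht1 htX ((hmemD g).1 hg).symm (by rw [ht]; exact hne))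
  have hS0out : ∀ a ∈ D, ∀ b ∈ D, a ∉ X → b ∉ X → a * b ∈ X := by
    intro a ha b hb haX hbX
    have e : a * b = (u * a)⁻¹ * (u * b) := by
      rw [mul_inv_rev, mul_assoc, inv_mul_cancel_left]
      exact congrArg (· * b) (eq_inv_of_mul_eq_one_left (mul_self_of_two (hord a ha haX)))
    rw [e]
    exact mul_mem (inv_mem ((hDshape a ha).resolve_left haX)) ((hDshape b hb).resolve_left hbX)
  have hinD : ∀ g ∈ (S : Subgroup G), g ∈ normalizer (S0 : Set G) → g ∈ D → g ∈ S0 := fun g hg hgN hgD => by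
    obtain ⟨k, hk⟩ := hpow g hg
    exact eq_sylow_of_normalizer hS0D hmax hS0p hk hgN hgD
  -- a 2-element normalising `X` centralises `t`-like involutions
  have hfixN : ∀ g, g ∈ normalizer (X : Set G) → (∃ k, g ^ 2 ^ k = 1) → g ∈ D := by
    rintro g hg ⟨k, hk⟩
    obtain ⟨Z, hZ, -, hZX, hZo, -, hZN⟩ := exists_central_prime (hnil t ht1) Nat.prime_two
      (ht ▸ Subgroup.orderOf_dvd_natCard X htX)
    obtain ⟨w, hw, hw1, hgw⟩ := exists_fixed (q := 2) hZ (fun x => ⟨1, by
      rcases eq_or_ne (x : G) 1 with e | e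
      · exact Subtype.ext (by simp [e])
      · exact Subtype.ext (by rw [pow_one, SubgroupClass.coe_pow, ← hZo x x.2 e, pow_orderOf_eq_one]; rfl)⟩)
      (hZN g hg) hk
    exact hcD w (hZX hw) (hZo w hw hw1) g hgw
  obtain ⟨u0, hu0S, hu0X⟩ : ∃ u0 ∈ S0, u0 ∉ X := by
    by_contra hcon
    push Not at hcon
    obtain ⟨Q', hQ'⟩ := (zpowers_two_isPGroup (x := (⟨u, huD⟩ : ↥D)) (k := 1)
      (Subtype.ext (by rw [SubgroupClass.coe_pow, pow_one, sq]; exact huu))).exists_le_sylow
    obtain ⟨c, hc⟩ := MulAction.exists_smul_eq ↥D Q Q'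
    have h := hQ' (mem_zpowers _)
    rw [← hc, Sylow.coe_subgroup_smul, mem_pointwise_smul_iff_inv_smul_mem] at h
    have h' : (c : G)⁻¹ * u * (c : G) ∈ X := hcon _ ⟨_, h, by simp [MulAut.smul_def, MulAut.conj_symm_apply]⟩
    have hcN : (c : G) ∈ normalizer (X : Set G) := by
      rcases hDshape c c.2 with e | e
      · exact le_normalizer e
      · have := mul_mem (inv_mem huN) (le_normalizer (H := X) e)
        simpa using this
    exact huX (by simpa [mul_assoc] using (mem_normalizer_iff.1 hcN _).1 h')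
  have hu0o : orderOf u0 = 2 := hord u0 (hS0D hu0S) hu0X
  have hu0inv : ∀ x ∈ X, u0 * x * u0⁻¹ = x⁻¹ := P.inverts_of_out ht1 hu0o hu0X
    (P.mem_normalizer_of_commute ht1 ht1 htX ((hmemD u0).1 (hS0D hu0S)))
  set R := S0 ⊓ X with hR
  have hRidx : ∀ g ∈ S0, g ∈ X ∨ g * u0 ∈ X := fun g hg => by
    by_cases h : g ∈ X
    · exact Or.inl h
    · exact Or.inr (hS0out g (hS0D hg) u0 (hS0D hu0S) h hu0X)
  -- the Sylow subgroup of the centraliser is a Sylow subgroup
  have hSeq : (S : Subgroup G) = S0 := by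
    by_contra hne
    have hlt : S0 < (S : Subgroup G) := lt_of_le_of_ne hS0S (Ne.symm hne)
    haveI : Group.IsNilpotent ↥(S : Subgroup G) := S.2.isNilpotent
    have hlt' : S0.subgroupOf (S : Subgroup G) < ⊤ := lt_top_iff_ne_top.2 fun e =>
      hne (le_antisymm (subgroupOf_eq_top.1 e) hS0S)
    obtain ⟨g₁, hg₁, hg₁0⟩ := SetLike.exists_of_lt (normalizerCondition_of_isNilpotent _ hlt')
    set g : G := (g₁ : G) with hgdef
    have hgS : g ∈ (S : Subgroup G) := g₁.2
    have hgN : g ∈ normalizer (S0 : Set G) := by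
      apply mem_normalizer_of_map_eq
      have h := map_eq_of_mem_normalizer hg₁
      have h' := congrArg (Subgroup.map (S : Subgroup G).subtype) h
      rw [map_map, subgroupOf_map_subtype, inf_of_le_left hS0S] at h'
      have e : ((S : Subgroup G).subtype).comp (MulAut.conj g₁).toMonoidHom =
          (MulAut.conj g).toMonoidHom.comp (S : Subgroup G).subtype := by
        ext x; simp [hgdef]
      rw [e, ← map_map, subgroupOf_map_subtype, inf_of_le_left hS0S] at h'
      exact h'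
    have hgD : g ∉ D := fun e => hg₁0 (hinD g hgS hgN e)
    have hgX : g ∉ normalizer (X : Set G) := fun e => hgD (hfixN g e (hpow g hgS))
    -- then the part of `S0` in `X` has order two
    have hR2 : ∀ r ∈ R, r = 1 ∨ r = t := by
      intro r hr
      by_contra hcon
      push Not at hcon
      obtain ⟨hr0, hrX⟩ := mem_inf.1 hr
      have hcj : ∀ c ∈ S0, c ∈ X → c ≠ 1 → g * c * g⁻¹ ∈ X → False := fun c _ hc hc1 h =>
        hgX (P.mem_normalizer_of_conj ht1 hc1 hc h)
      have himg : ∀ c ∈ S0, g * c * g⁻¹ ∈ S0 := fun c hc => (mem_normalizer_iff.1 hgN c).1 hc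
      have h1 : g * t * g⁻¹ ∉ X := hcj t htS0 htX ht1
      have h2 : g * r * g⁻¹ ∉ X := hcj r hr0 hrX hcon.1
      have h3 := hS0out _ (hS0D (himg _ (inv_mem htS0))) _ (hS0D (himg _ hr0))
        (fun e => h1 (by simpa [mul_assoc] using inv_mem e)) h2
      refine hcj (t⁻¹ * r) (mul_mem (inv_mem htS0) hr0) (mul_mem (inv_mem htX) hrX)
        (fun e => hcon.2 ?_) (by simpa [mul_assoc] using h3)
      rwa [inv_mul_eq_one, eq_comm] at e
    have hu0t : Commute u0 t := (hmemD u0).1 (hS0D hu0S)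
    have hS0elts : ∀ c ∈ S0, c = 1 ∨ c = t ∨ c = u0 ∨ c = t * u0 := by
      intro c hc
      rcases hRidx c hc with h | h
      · rcases hR2 c (mem_inf.2 ⟨hc, h⟩) with e | e
        · exact Or.inl e
        · exact Or.inr (Or.inl e)
      · rcases hR2 _ (mem_inf.2 ⟨mul_mem hc hu0S, h⟩) with e | e
        · exact Or.inr (Or.inr (Or.inl (by
            rw [eq_inv_of_mul_eq_one_left e, eq_comm]
            exact eq_inv_of_mul_eq_one_left (mul_self_of_two hu0o))))
        · exact Or.inr (Or.inr (Or.inr (by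
            rw [← e, mul_assoc, mul_self_of_two hu0o, mul_one])))
    have hS0sq : ∀ c ∈ S0, c * c = 1 := by
      intro c hc
      rcases hS0elts c hc with rfl | rfl | rfl | rfl
      · exact one_mul 1
      · exact mul_self_of_two ht
      · exact mul_self_of_two hu0o
      · rw [mul_assoc, ← mul_assoc u0, hu0t.eq, mul_assoc, mul_self_of_two hu0o, mul_one,
          mul_self_of_two ht]
    -- a central involution
    haveI : Nontrivial ↥(S : Subgroup G) := ⟨⟨⟨t, hS0S htS0⟩, 1, fun e => ht1 (congrArg Subtype.val e)⟩⟩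
    obtain ⟨z₀, -, hz₀c, hz₀⟩ := PGroups.exists_mem_center_orderOf_eq S.2
      (⊤ : Subgroup ↥(S : Subgroup G)) top_ne_bot
    set c : G := (z₀ : G) with hcdef
    have hco : orderOf c = 2 := by rw [hcdef, Subgroup.orderOf_coe, hz₀]
    have hc1 := ne_one_of_orderOf_prime Nat.prime_two hco
    have hSc : ∀ s ∈ (S : Subgroup G), Commute s c := fun s hs =>
      congrArg Subtype.val (mem_center_iff.mp hz₀c ⟨s, hs⟩)
    have htc : Commute t c := hSc t (hS0S htS0)
    have hcD' : c ∈ D := (hmemD c).2 htc.symm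
    have hcX : c ∉ X := fun e => hgD (hcD c e hco g (hSc g hgS))
    set Y := P.comp c with hYdef
    have htY : t ∉ Y := fun e => hcX (by rw [hXdef, P.eq_of_mem hc1 ht1 e]; exact P.mem c)
    have hSN : ∀ s ∈ (S : Subgroup G), s ∈ normalizer (Y : Set G) := fun s hs =>
      P.mem_normalizer_of_commute hc1 hc1 (P.mem c) (hSc s hs)
    have hSout : ∀ s ∈ (S : Subgroup G), s ∉ Y → orderOf s = 2 := fun s hs hsY => by
      by_contra hne
      exact hsY (P.mem_of_commute hc1 hc1 (P.mem c) (hSc s hs).symm (by rw [hco]; exact hne))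
    obtain ⟨w, hwS, hw⟩ : ∃ w ∈ (S : Subgroup G), w * w ≠ 1 := by
      by_contra hcon
      push Not at hcon
      refine hgD ((hmemD g).2 ?_)
      have hab : ∀ a ∈ (S : Subgroup G), a⁻¹ = a := fun a ha =>
        (eq_inv_of_mul_eq_one_left (hcon a ha)).symm
      show g * t = t * g
      rw [← hab _ (mul_mem hgS (hS0S htS0)), mul_inv_rev, hab g hgS, hab t (hS0S htS0)]
    have hwY : w ∈ Y := by
      by_contra h
      exact hw (mul_self_of_two (hSout w hwS h))
    have hYout : ∀ a ∈ (S : Subgroup G), ∀ b ∈ (S : Subgroup G), a ∉ Y → b ∉ Y → a * b ∈ Y := by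
      intro a ha b hb haY hbY
      by_contra hab
      have e := P.inverts_of_out hc1 (hSout _ (mul_mem ha hb) hab) hab (hSN _ (mul_mem ha hb)) w hwY
      rw [show a * b * w * (a * b)⁻¹ = a * (b * w * b⁻¹) * a⁻¹ by group,
        P.inverts_of_out hc1 (hSout b hb hbY) hbY (hSN b hb) w hwY,
        P.inverts_of_out hc1 (hSout a ha haY) haY (hSN a ha) _ (inv_mem hwY), inv_inv] at e
      exact hw (by nth_rw 1 [e]; exact inv_mul_cancel w)
    have hYidx : ((S : Subgroup G) ⊓ Y).relIndex (S : Subgroup G) = 2 := by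
      rw [relIndex, index_eq_two_iff]
      refine ⟨⟨t, hS0S htS0⟩, fun s => ?_⟩
      simp only [mem_subgroupOf, Subgroup.coe_mul, mem_inf, s.2, mul_mem s.2 (hS0S htS0), true_and]
      by_cases hs : (s : G) ∈ Y
      · exact Or.inr ⟨hs, fun e => htY (by simpa using mul_mem (inv_mem hs) e)⟩
      · exact Or.inl ⟨hYout _ s.2 t (hS0S htS0) hs htY, hs⟩
    rcases H25.thompson_transfer S ((S : Subgroup G) ⊓ Y) inf_le_left hYidx t ht (hS0S htS0)
      (fun e => htY (mem_inf.1 e).2) with ⟨M, hMn, hMi, -⟩ | ⟨h, hh⟩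
    · rcases hMn.eq_bot_or_eq_top with e | e
      · subst e
        rw [index_bot] at hMi
        haveI : Fact (Nat.card G).Prime := ⟨hMi ▸ Nat.prime_two⟩
        haveI : IsCyclic G := isCyclic_of_prime_card rfl
        exact hna inferInstance
      · rw [e, index_top] at hMi; omega
    set v := h * t * h⁻¹ with hv
    obtain ⟨hvS, hvY⟩ := mem_inf.1 hh
    have hYc : ∀ a ∈ Y, ∀ b ∈ Y, Commute a b := by
      intro a ha b hb
      have hi := P.inverts_of_out hc1 (hSout t (hS0S htS0) htY) htY (hSN t (hS0S htS0))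
      have h := hi _ (mul_mem ha hb)
      rw [show t * (a * b) * t⁻¹ = (t * a * t⁻¹) * (t * b * t⁻¹) by group, hi a ha, hi b hb,
        mul_inv_rev] at h
      have h' := congrArg (fun a => a⁻¹) h
      simp only [mul_inv_rev, inv_inv] at h'
      exact h'.symm
    -- `w` is conjugate into the centraliser of `t`
    set w' := h⁻¹ * w * h with hw'
    have hw'D : w' ∈ D := (hmemD w').2 (by
      have := (hYc w hwY v hvY).map (MulAut.conj h⁻¹).toMonoidHom
      simpa [hw', hv, mul_assoc] using this)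
    obtain ⟨k, hk⟩ := hpow w hwS
    have hw'k : (⟨w', hw'D⟩ : ↥D) ^ 2 ^ k = 1 := Subtype.ext (by
      show w' ^ 2 ^ k = 1
      have := conj_pow (a := h⁻¹) (b := w) (i := 2 ^ k)
      rw [inv_inv] at this
      rw [hw', this, hk]; group)
    obtain ⟨Q', hQ'⟩ := (zpowers_two_isPGroup hw'k).exists_le_sylow
    obtain ⟨c', hc'⟩ := MulAction.exists_smul_eq ↥D Q Q'
    have hm := hQ' (mem_zpowers _)
    rw [← hc', Sylow.coe_subgroup_smul, mem_pointwise_smul_iff_inv_smul_mem] at hm
    have hm' : (c' : G)⁻¹ * w' * (c' : G) ∈ S0 := ⟨_, hm, by simp [MulAut.smul_def, MulAut.conj_symm_apply]⟩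
    have h1 := hS0sq _ hm'
    refine hw ?_
    calc w * w = h * (c' : G) * (((c' : G)⁻¹ * w' * c') * ((c' : G)⁻¹ * w' * c')) *
          (h * (c' : G))⁻¹ := by rw [hw']; group
      _ = 1 := by rw [h1]; group
  have hS0syl : ∀ x : G, orderOf x = 2 → ∃ g : G, g * x * g⁻¹ ∈ S0 := by
    intro x hx
    obtain ⟨Q', hQ'⟩ := (zpowers_two_isPGroup (x := x) (k := 1)
      (by rw [pow_one, ← hx, pow_orderOf_eq_one])).exists_le_sylow
    obtain ⟨c, hc⟩ := MulAction.exists_smul_eq G Q' S
    refine ⟨c, ?_⟩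
    rw [← hSeq, ← hc, Sylow.coe_subgroup_smul]
    exact ⟨x, hQ' (mem_zpowers x), rfl⟩
  have hRle : R ≤ (S : Subgroup G) := inf_le_left.trans hS0S
  have hRidx2 : R.relIndex (S : Subgroup G) = 2 := by
    rw [hSeq, relIndex, index_eq_two_iff]
    refine ⟨⟨u0, hu0S⟩, fun s => ?_⟩
    simp only [hR, mem_subgroupOf, Subgroup.coe_mul, mem_inf, s.2, mul_mem s.2 hu0S, true_and]
    by_cases hs : (s : G) ∈ X
    · exact Or.inr ⟨hs, fun e => hu0X (by simpa using mul_mem (inv_mem hs) e)⟩
    · exact Or.inl ⟨hS0out _ (hS0D s.2) u0 (hS0D hu0S) hs hu0X, hs⟩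
  have hfuse : ∀ v ∈ (S : Subgroup G), orderOf v = 2 → v ∉ X → ∃ g, g * v * g⁻¹ ∈ R := by
    intro v hv hvo hvX
    rcases H25.thompson_transfer S R hRle hRidx2 v hvo hv (fun e => hvX (mem_inf.1 e).2) with
      ⟨M, hMn, hMi, -⟩ | h
    · rcases hMn.eq_bot_or_eq_top with e | e
      · subst e
        rw [index_bot] at hMi
        haveI : Fact (Nat.card G).Prime := ⟨hMi ▸ Nat.prime_two⟩
        haveI : IsCyclic G := isCyclic_of_prime_card rfl
        exact (hna (inferInstance : IsMulCommutative G)).elim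
      · rw [e, index_top] at hMi; omega
    · exact h
  -- a unique involution in `X`
  have huniq : ∀ w ∈ X, orderOf w = 2 → w = t := by
    intro w hw hw2
    by_contra hwt
    obtain ⟨g, hg⟩ := hfuse u0 (hS0S hu0S) hu0o hu0X
    set v := g * u0 * g⁻¹ with hv
    have hvX : v ∈ X := (mem_inf.1 hg).2
    have hvo : orderOf v = 2 := by
      rw [hv, ← hu0o]; exact (MulEquiv.orderOf_eq (MulAut.conj g) u0)
    have hc : ∀ a ∈ X, a * a = 1 → g * a * g⁻¹ ∈ D := fun a ha ha2 => hcD v hvX hvo _ (by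
      have hcomm : Commute a u0 := (show Commute u0 a from mul_inv_eq_iff_eq_mul.1 (by
        rw [hu0inv a ha]; exact (eq_inv_of_mul_eq_one_left ha2).symm)).symm
      simpa [hv] using hcomm.map (MulAut.conj g).toMonoidHom)
    have key : ∀ a ∈ X, a * a = 1 → a ≠ 1 → g * a * g⁻¹ ∈ X → False := by
      intro a ha _ ha1 hga
      have hgN := P.mem_normalizer_of_conj ht1 ha1 ha hga
      exact hu0X ((mem_normalizer_iff.1 hgN u0).2 hvX)
    have hw1 := ne_one_of_orderOf_prime Nat.prime_two hw2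
    have htt := mul_self_of_two ht
    have hww := mul_self_of_two hw2
    by_cases h1 : g * t * g⁻¹ ∈ X
    · exact key t htX htt ht1 h1
    by_cases h2 : g * w * g⁻¹ ∈ X
    · exact key w hw hww hw1 h2
    have h3 := hS0out _ (hc t htX htt) _ (hc w hw hww) h1 h2
    refine key (t * w) (mul_mem htX hw) ?_ (fun e => hwt ?_) (by simpa [mul_assoc] using h3)
    · rw [mul_assoc, ← mul_assoc w, (hXc w hw t htX).eq, mul_assoc, hww, mul_one, htt]
    · exact (eq_inv_of_mul_eq_one_right e).trans (eq_inv_of_mul_eq_one_left htt).symm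
  have hone : ∀ x : G, orderOf x = 2 → IsConj x t := by
    intro x hx
    obtain ⟨g, hg⟩ := hS0syl x hx
    set v := g * x * g⁻¹ with hv
    have hvo : orderOf v = 2 := by rw [hv, ← hx]; exact MulEquiv.orderOf_eq (MulAut.conj g) x
    by_cases hvX : v ∈ X
    · exact isConj_iff.2 ⟨g, huniq v hvX hvo⟩
    · obtain ⟨c, hc⟩ := hfuse v (hS0S hg) hvo hvX
      refine (isConj_iff.2 ⟨g, rfl⟩ : IsConj x v).trans (isConj_iff.2 ⟨c, huniq _ (mem_inf.1 hc).2 ?_⟩)
      rw [← hvo]; exact MulEquiv.orderOf_eq (MulAut.conj c) v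
  let Dat : H65.BSW.Data G :=
    { t := t, s := u, K := X, ht := ht, hs := hu2, comm := hXc, htK := htX, hst := hu, hsK := huX
      hH := fun g hg => hshape t htX ht g hg
      hCK := fun x hx hxu => by
        have h := hinv x hx
        rw [hxu.symm.eq, mul_inv_cancel_right] at h
        rcases eq_or_ne x 1 with e | e
        · exact Or.inl e
        · exact Or.inr (huniq x hx (orderOf_two (by nth_rw 1 [h]; exact inv_mul_cancel x) e))
      hinv := hinv
      hTI := fun g x hx hx1 hgx => by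
        have hgN := P.mem_normalizer_of_conj ht1 hx1 hx hgx
        exact mul_inv_eq_iff_eq_mul.1 (huniq _ ((mem_normalizer_iff.1 hgN t).1 htX)
          (by rw [← ht]; exact MulEquiv.orderOf_eq (MulAut.conj g) t))
      hone := fun x y hx hy => (hone x hx).trans (hone y hy).symm }
  exact H65.BSW.concl_psl (H65.BSW.main Dat)

end Part

end Cfsg.Agent.H84.Partition
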