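import Cfsg.Agent.H84.Partition.Semisimple
import Cfsg.Agent.H84.Partition.SimpleDihedral

/-!
# Almost simple groups with a partition: general set-up
-/

namespace Cfsg.Agent.H84.Partition

open Subgroup

universe u v

/-- A simple group `L` embedded as a normal subgroup with trivial centraliser. -/
structure Emb (G : Type u) [Group G] (L : Type v) [Group L] where
  /-- The embedding. -/
  j : L →* G
  inj : Function.Injective j
  /-- The action by conjugation. -/
  act : G →* MulAut L
  act_inj : Function.Injective act
  conj_j : ∀ g x, g * j x * g⁻¹ = j (act g x)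

namespace Emb

variable {G : Type u} [Group G] {L : Type v} [Group L] (E : Emb G L)

/-- The embedding attached to a normal subgroup with trivial centraliser. -/
def ofNormal {T : Subgroup G} [T.Normal] (hC : centralizer (T : Set G) = ⊥) (e : ↥T ≃* L) :
    Emb G L where
  j := T.subtype.comp e.symm.toMonoidHom
  inj := T.subtype_injective.comp e.symm.injective
  act := (MulAut.congr e).toMonoidHom.comp (MulAut.conjNormal (H := T))
  act_inj := by
    refine (MulAut.congr e).injective.comp ((injective_iff_map_eq_one _).2 fun g hg => ?_)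
    have hmem : g ∈ centralizer (T : Set G) := mem_centralizer_iff.2 fun t ht => by
      have h := congrArg (fun f : MulAut ↥T => ((f ⟨t, ht⟩ : ↥T) : G)) hg
      simp only [MulAut.conjNormal_apply, MulAut.one_apply] at h
      exact (mul_inv_eq_iff_eq_mul.1 h).symm
    rw [hC] at hmem
    exact mem_bot.1 hmem
  conj_j g x := by
    simp [MulAut.congr, MulAut.conjNormal_apply]

theorem act_j (x : L) : E.act (E.j x) = MulAut.conj x := by
  refine MulEquiv.ext fun y => E.inj ?_
  rw [← E.conj_j, MulAut.conj_apply, map_mul, map_mul, map_inv]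

theorem eq_j {g : G} {x : L} (h : E.act g = MulAut.conj x) : g = E.j x :=
  E.act_inj (h.trans (E.act_j x).symm)

theorem commute {g : G} {x : L} (h : E.act g x = x) : Commute g (E.j x) := by
  have e := E.conj_j g x
  rw [h] at e
  exact mul_inv_eq_iff_eq_mul.1 e

theorem orderOf_j (x : L) : orderOf (E.j x) = orderOf x := orderOf_injective E.j E.inj x

/-- If all induced automorphisms are inner then the group is the simple group. -/
theorem equiv_of_inner (h : ∀ g, ∃ x, E.act g = MulAut.conj x) : Nonempty (G ≃* L) :=
  ⟨(MulEquiv.ofBijective E.j ⟨E.inj, fun g => by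
    obtain ⟨x, hx⟩ := h g
    exact ⟨x, (E.eq_j hx).symm⟩⟩).symm⟩

end Emb

namespace Part

variable {G : Type u} [Group G] [Finite G] (P : Part G)

/-- Two elements of coprime orders in one part commute. -/
theorem commute_of_coprime (hnil : P.Nil) {a x y : G} (ha : a ≠ 1) (hx : x ∈ P.comp a)
    (hy : y ∈ P.comp a) (h : (orderOf x).Coprime (orderOf y)) : Commute x y :=
  H41.commute_of_coprime_of_isNilpotent (hnil a ha) hx hy h

theorem commutative_of_inverts {a v : G} (hinv : ∀ x ∈ P.comp a, v * x * v⁻¹ = x⁻¹) {x y : G}
    (hx : x ∈ P.comp a) (hy : y ∈ P.comp a) : Commute x y := by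
  have h := hinv _ (mul_mem hx hy)
  rw [show v * (x * y) * v⁻¹ = (v * x * v⁻¹) * (v * y * v⁻¹) by group, hinv x hx, hinv y hy,
    mul_inv_rev] at h
  have h' := congrArg (fun a => a⁻¹) h
  simp only [mul_inv_rev, inv_inv] at h'
  exact h'.symm

end Part

end Cfsg.Agent.H84.Partition
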