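import Cfsg.Agent.H84.Partition.AlmostBase
import Cfsg.Agent.H84.Partition.AlmostElems

/-!
# Almost simple groups with a partition: no pure field automorphisms
-/

namespace Cfsg.Agent.H84.Partition

open Subgroup PSL
open Cfsg.Agent.H56 (PSLn semiAut)

universe u

namespace Part

variable {G : Type u} [Group G] [Finite G] (P : Part G)

/-- An element inducing a field automorphism of prime order does not exist. -/
theorem no_pure (hnil : P.Nil) {F : Type} [Field F] [Fintype F] (h4 : 4 ≤ Fintype.card F)
    (hne4 : Fintype.card F ≠ 4) (E : Emb G (PSLn 2 F)) {a : G} {σ : F ≃+* F} {r : ℕ}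
    (hr : r.Prime) (hσ1 : σ ≠ RingEquiv.refl F) (hσr : (σ : RingAut F) ^ r = 1)
    (ha : E.act a = semiAut 1 σ) : False := by
  classical
  haveI := Fact.mk hr
  obtain ⟨p, hchar⟩ := CharP.exists F
  haveI := hchar
  haveI : Fact p.Prime := ⟨CharP.char_is_prime F p⟩
  have hp : p.Prime := Fact.out
  have har : a ^ r = 1 := E.act_inj (by
    rw [map_pow, ha, map_one]
    show (pureHom σ) ^ r = 1
    rw [← map_pow, hσr, map_one])
  have ha1 : a ≠ 1 := fun e => hσ1 (by
    rw [e, map_one] at ha
    exact (H56.eq_of_semiAut_eq_one le_rfl ha.symm).1)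
  have hao : orderOf a = r := orderOf_eq_prime har ha1
  set u := E.j (U (1 : F)) with hu
  set w := E.j (W : PSLn 2 F) with hw
  have huc : Commute a u := E.commute (by rw [ha, semiAut_U, map_one])
  have hwc : Commute a w := E.commute (by rw [ha, semiAut_W])
  have hu1 : u ≠ 1 := fun e => one_ne_zero (α := F) (U_eq_one.1 (E.inj (e.trans (map_one E.j).symm)))
  have huo : orderOf u = p := orderOf_eq_prime (by
    rw [hu, ← map_pow, U_pow, CharP.cast_eq_zero, zero_mul, U_zero, map_one]) hu1
  have hwo : orderOf w = 2 := orderOf_two (by rw [hw, ← map_mul, W_sq, map_one])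
    fun e => W_ne_one (E.inj (e.trans (map_one E.j).symm))
  have hzo : orderOf (u * w) = 3 := by
    haveI := Fact.mk Nat.prime_three
    refine orderOf_eq_prime (by rw [hu, hw, ← map_mul, ← map_pow, UW_cube, map_one]) fun e => ?_
    have h := eq_inv_of_mul_eq_one_left e
    exact not_commute_UW (by
      have h' : (U (1 : F)) = W⁻¹ := E.inj (by rw [map_inv]; exact h)
      rw [h']; exact (Commute.refl W).inv_left)
  -- one part cannot contain `u` and `w`
  have hfalse : ∀ b : G, b ≠ 1 → u ∈ P.comp b → w ∈ P.comp b → False := by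
    intro b hb h1 h2
    by_cases hp2 : p = 2
    · have hc := P.commute_of_coprime hnil hb h1 (mul_mem h1 h2)
        (by rw [huo, hp2, hzo]; norm_num)
      have : Commute u w := by
        have e : u * (u * w) = (u * w) * u := hc.eq
        rw [mul_assoc u w u] at e
        exact mul_left_cancel e
      exact not_commute_UW (E.inj (by rw [map_mul, map_mul]; exact this.eq))
    · have hc := P.commute_of_coprime hnil hb h1 h2
        (by rw [huo, hwo]; exact (Nat.coprime_primes hp Nat.prime_two).2 hp2)
      exact not_commute_UW (E.inj (by rw [map_mul, map_mul]; exact hc.eq))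
  have hin : ∀ {z : G}, Commute a z → orderOf z ≠ r → z ∈ P.comp a := fun {z} hz hzr =>
    P.mem_of_commute ha1 ha1 (P.mem a) hz (hao.symm ▸ hzr)
  by_cases hspec : p = r
  swap
  · have huX : u ∈ P.comp a := hin huc (huo.symm ▸ hspec)
    by_cases hr2 : r = 2
    · have hzX : u * w ∈ P.comp a := hin (huc.mul_right hwc) (by rw [hzo, hr2]; norm_num)
      exact hfalse a ha1 huX (by simpa using mul_mem (inv_mem huX) hzX)
    · exact hfalse a ha1 huX (hin hwc (by rw [hwo]; exact Ne.symm hr2))
  subst hspec
  by_cases hp23 : p ≠ 2 ∧ p ≠ 3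
  · have hwX : w ∈ P.comp a := hin hwc (by rw [hwo]; exact Ne.symm hp23.1)
    have hzX : u * w ∈ P.comp a := hin (huc.mul_right hwc) (by rw [hzo]; exact Ne.symm hp23.2)
    exact hfalse a ha1 (by simpa using mul_mem hzX (inv_mem hwX)) hwX
  -- a scalar fixed by `σ`
  obtain ⟨μ, hμ, hμ0, hμ1⟩ : ∃ μ : F, σ μ = μ ∧ μ ≠ 0 ∧ μ ≠ 1 := by
    rcases (show p = 2 ∨ p = 3 by omega) with rfl | rfl
    swap
    · refine ⟨-1, by simp, by simp, fun h => ?_⟩
      have h2 : ((2 : ℕ) : F) = 0 := by push_cast; linear_combination -h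
      have := (CharP.cast_eq_zero_iff F 3 2).1 h2
      omega
    by_contra hcon
    push Not at hcon
    obtain ⟨x, hx⟩ : ∃ x, σ x ≠ x := by
      by_contra h
      push Not at h
      exact hσ1 (RingEquiv.ext h)
    have hσσ : ∀ y, σ (σ y) = y := fun y => RingEquiv.congr_fun ((sq σ).symm.trans hσr) y
    have hfix : ∀ y, σ y = y → y = 0 ∨ y = 1 := fun y hy =>
      or_iff_not_imp_left.2 fun h0 => hcon y hy h0
    have hshift : ∀ y, σ y ≠ y → σ y = y + 1 := by
      intro y hy
      rcases hfix (y + σ y) (by rw [map_add, hσσ, add_comm]) with h | h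
      · exact absurd (CharTwo.add_eq_zero.1 h).symm hy
      · calc σ y = y + (y + σ y) := by rw [← add_assoc, CharTwo.add_self_eq_zero, zero_add]
          _ = y + 1 := by rw [h]
    have hall : ∀ y : F, y ∈ ({0, 1, x, x + 1} : Finset F) := by
      intro y
      simp only [Finset.mem_insert, Finset.mem_singleton]
      by_cases hy : σ y = y
      · rcases hfix y hy with h | h <;> simp [h]
      · rcases hfix (y + x) (by
            rw [map_add, hshift y hy, hshift x hx,
              show y + 1 + (x + 1) = y + x + (1 + 1) by ring, CharTwo.add_self_eq_zero, add_zero])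
          with h | h
        · exact Or.inr (Or.inr (Or.inl (CharTwo.add_eq_zero.1 h)))
        · refine Or.inr (Or.inr (Or.inr ?_))
          rw [← h, show x + (y + x) = y + (x + x) by ring, CharTwo.add_self_eq_zero, add_zero]
    have hle : Fintype.card F ≤ 4 := by
      rw [← Finset.card_univ]
      refine le_trans (Finset.card_le_card fun y _ => hall y) ?_
      refine (Finset.card_insert_le _ _).trans (Nat.succ_le_succ ?_)
      refine (Finset.card_insert_le _ _).trans (Nat.succ_le_succ ?_)
      refine (Finset.card_insert_le _ _).trans ?_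
      rw [Finset.card_singleton]
    omega
  -- an element of order `p ^ 2`
  let tr : F → F := fun x => ∑ i ∈ Finset.range p, ((σ : RingAut F) ^ i) x
  have hpow : ∀ (x : F) (n : ℕ), (E.j (U x) * a) ^ n =
      E.j (U (∑ i ∈ Finset.range n, ((σ : RingAut F) ^ i) x)) * a ^ n := by
    intro x n
    induction n with
    | zero => simp [U_zero]
    | succ n ih =>
      have hm : a ^ n * E.j (U x) = E.j (U (((σ : RingAut F) ^ n) x)) * a ^ n := by
        have h := E.conj_j (a ^ n) (U x)
        rw [map_pow, ha, show semiAut (1 : GL (Fin 2) F) σ = pureHom σ from rfl, ← map_pow] at h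
        rw [mul_inv_eq_iff_eq_mul] at h
        rw [h]
        congr 2
        exact semiAut_U _ _
      rw [pow_succ, ih, mul_assoc, ← mul_assoc (a ^ n) (E.j (U x)) a, hm, mul_assoc, ← pow_succ,
        ← mul_assoc, ← map_mul, U_mul, Finset.sum_range_succ]
  have hyp : ∀ x, (E.j (U x) * a) ^ p = E.j (U (tr x)) := fun x => by rw [hpow, har, mul_one]
  have hUne : ∀ {c : F}, c ≠ 0 → E.j (U c) ≠ 1 := fun hc e =>
    hc (U_eq_one.1 (E.inj (e.trans (map_one E.j).symm)))
  obtain ⟨x, hx⟩ : ∃ x, tr x ≠ 0 := by
    by_contra hcon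
    push Not at hcon
    obtain ⟨z, hz⟩ : ∃ z, σ z ≠ z := by
      by_contra h
      push Not at h
      exact hσ1 (RingEquiv.ext h)
    rcases (show p = 2 ∨ p = 3 by omega) with rfl | rfl
    · have h := hcon z
      simp only [tr, Finset.sum_range_succ, Finset.sum_range_zero, zero_add, pow_zero, pow_one] at h
      exact hz (CharTwo.add_eq_zero.1 h).symm
    · have h3 : (3 : F) = 0 := by exact_mod_cast CharP.cast_eq_zero F 3
      have hE : ∀ x : F, σ (σ x) = -x - σ x := fun x => by
        have h := hcon x
        simp only [tr, Finset.sum_range_succ, Finset.sum_range_zero, zero_add, pow_zero, pow_one] at h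
        have e : ((σ : RingAut F) ^ 2) x = σ (σ x) := by rw [sq]; rfl
        rw [e] at h
        have e1 : (1 : RingAut F) x = x := rfl
        rw [e1] at h
        linear_combination h
      have h1 := hE (z * z)
      rw [map_mul, map_mul, hE] at h1
      have h2 : (σ z - z) * (σ z - z) = 0 := by
        linear_combination (-1 : F) * h1 + (σ z * σ z + z * z) * h3
      exact hz (sub_eq_zero.1 (mul_self_eq_zero.1 h2))
  set y := E.j (U x) * a with hy
  have hyp' := hyp x
  have hy1 : y ≠ 1 := fun e => hUne hx (by rw [← hyp', ← hy, e, one_pow])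
  have hyne : ∀ z : G, z ^ p = 1 → orderOf z ≠ orderOf y := fun z hz e => hUne hx (by
    rw [← hyp', ← hy]
    exact orderOf_dvd_iff_pow_eq_one.1 (e ▸ orderOf_dvd_of_pow_eq_one hz))
  have hfixU : ∀ b : F, σ b = b → E.j (U b) ∈ P.comp y := by
    intro b hb
    refine P.mem_of_commute hy1 hy1 (P.mem y) ?_ (hyne _ ?_)
    · refine Commute.mul_left ?_ (E.commute (by rw [ha, semiAut_U, hb]))
      show E.j (U x) * E.j (U b) = E.j (U b) * E.j (U x)
      rw [← map_mul, ← map_mul, U_mul, U_mul, add_comm]
    · rw [← map_pow, U_pow, CharP.cast_eq_zero, zero_mul, U_zero, map_one]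
  have htrfix : σ (tr x) = tr x := by
    simp only [tr, map_sum]
    have e : ∀ i, σ (((σ : RingAut F) ^ i) x) = ((σ : RingAut F) ^ (i + 1)) x := fun i => by
      rw [pow_succ']; rfl
    simp only [e]
    have h1 := Finset.sum_range_succ' (fun i => ((σ : RingAut F) ^ i) x) p
    have h2 := Finset.sum_range_succ (fun i => ((σ : RingAut F) ^ i) x) p
    rw [h2, hσr, pow_zero] at h1
    exact add_right_cancel h1.symm
  have htrmul : ∀ c : F, σ c = c → tr (c * x) = c * tr x := by
    intro c hc
    simp only [tr, Finset.mul_sum]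
    refine Finset.sum_congr rfl fun i _ => ?_
    have : ∀ i : ℕ, ((σ : RingAut F) ^ i) c = c := by
      intro i
      induction i with
      | zero => rfl
      | succ n ih =>
        rw [pow_succ']
        show σ (((σ : RingAut F) ^ n) c) = c
        rw [ih, hc]
    rw [map_mul, this]
  have hscal : ∀ c : F, σ c = c → c ≠ 0 → E.j (U (c * x)) * a ∈ P.comp y := by
    intro c hc hc0
    have h1 : (E.j (U (c * x)) * a) ^ p ∈ P.comp y := by
      rw [hyp, htrmul c hc]
      exact hfixU _ (by rw [map_mul, hc, htrfix])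
    have h2 : (E.j (U (c * x)) * a) ^ p ≠ 1 := by
      rw [hyp, htrmul c hc]
      exact hUne (mul_ne_zero hc0 hx)
    rw [← P.eq_of_mem hy1 h2 h1, P.comp_pow h2]
    exact P.mem _
  have hUx : E.j (U ((μ - 1) * x)) ∈ P.comp y := by
    have h := mul_mem (hscal μ hμ hμ0) (inv_mem (P.mem y))
    rw [hy, mul_inv_rev, ← mul_assoc, mul_assoc (E.j (U (μ * x))), mul_inv_cancel, mul_one,
      ← map_inv, ← map_mul] at h
    convert h using 3
    rw [eq_mul_inv_iff_mul_eq, U_mul]
    congr 1
    ring
  have hay : a ∈ P.comp y := by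
    have h := mul_mem (inv_mem hUx) (hscal (μ - 1) (by rw [map_sub, hμ, map_one]) (sub_ne_zero.2 hμ1))
    simpa using h
  have hXY : P.comp a = P.comp y := P.eq_of_mem hy1 ha1 hay
  have huY : u ∈ P.comp y := hfixU 1 (map_one σ)
  rcases (show p = 2 ∨ p = 3 by omega) with rfl | rfl
  · have hzX : u * w ∈ P.comp y := hXY ▸ hin (huc.mul_right hwc) (by rw [hzo]; norm_num)
    exact hfalse y hy1 huY (by simpa using mul_mem (inv_mem huY) hzX)
  · exact hfalse y hy1 huY (hXY ▸ hin hwc (by rw [hwo]; norm_num))

end Part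

end Cfsg.Agent.H84.Partition
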