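import Cfsg.Agent.H77.GT
import Cfsg.Agent.H77.HughesIndex
import Cfsg.Agent.H41.Nilpotent
import Cfsg.Prelude.Def_Solvable

/-!
# Groups with a partition: basic facts

A conjugation-invariant partition of a group is recorded by the map sending an element to its part.
-/

namespace Cfsg.Agent.H84.Partition

open Subgroup

universe u

/-- A conjugation-invariant partition. -/
structure Part (G : Type u) [Group G] where
  /-- The part containing an element. -/
  comp : G → Subgroup G
  mem : ∀ x, x ∈ comp x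
  eq_of_mem : ∀ {x y}, x ≠ 1 → y ≠ 1 → y ∈ comp x → comp y = comp x
  conj : ∀ g x, comp (g * x * g⁻¹) = (comp x).map (MulAut.conj g).toMonoidHom
  ne_top : ∀ {x}, x ≠ 1 → comp x ≠ ⊤

/-- No Hughes subgroup is proper. -/
def NoHughes (G : Type u) [Group G] : Prop :=
  ∀ p : ℕ, p.Prime → Subgroup.closure {g : G | g ^ p ≠ 1} = ⊤

variable {G : Type u} [Group G]

theorem NoHughes.false_of_subgroup (hNH : NoHughes G) {p : ℕ} (hp : p.Prime) {M : Subgroup G}
    (hM : M ≠ ⊤) (hout : ∀ g, g ∉ M → g ^ p = 1) : False := by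
  refine hM (top_le_iff.1 (hNH p hp ▸ (closure_le M).2 fun g hg => ?_))
  by_contra hgM
  exact hg (hout g hgM)

/-- A normal subgroup with elements of prime order outside and a normal overgroup of prime index. -/
theorem NoHughes.false_of_prime_orders (hNH : NoHughes G) {M M' : Subgroup G} [M'.Normal]
    (hle : M ≤ M') (hidx : M'.index.Prime) (hout : ∀ g, g ∉ M → (orderOf g).Prime) : False := by
  refine NoHughes.false_of_subgroup (M := M') hNH hidx (fun h => ?_) fun g hg => ?_
  · rw [h, index_top] at hidx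
    exact Nat.not_prime_one hidx
  · have hr := hout g fun h => hg (hle h)
    have hq : g ^ M'.index ∈ M' := M'.pow_index_mem g
    rcases Nat.coprime_or_dvd_of_prime hr M'.index with hc | hd
    · exfalso
      obtain ⟨i, hi⟩ := exists_pow_eq_self_of_coprime hc.symm (x := g)
      exact hg (hi ▸ M'.pow_mem hq i)
    · exact orderOf_dvd_iff_pow_eq_one.1 hd

theorem orderOf_pow_eq_of_dvd [Finite G] {x : G} {p : ℕ} (hp : p ∣ orderOf x) :
    orderOf (x ^ (orderOf x / p)) = p :=
  orderOf_pow_orderOf_div (orderOf_pos x).ne' hp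

theorem mem_normalizer_of_map_eq {X : Subgroup G} {g : G}
    (h : X.map (MulAut.conj g).toMonoidHom = X) : g ∈ normalizer (X : Set G) := by
  rw [mem_normalizer_iff]
  intro x
  constructor
  · intro hx
    rw [← h]
    exact mem_map_of_mem _ hx
  · intro hx
    have hx' : g * x * g⁻¹ ∈ X.map (MulAut.conj g).toMonoidHom := by rw [h]; exact hx
    obtain ⟨y, hy, he⟩ := hx'
    have : y = x := by simpa using he
    exact this ▸ hy

theorem map_eq_of_mem_normalizer {X : Subgroup G} {g : G}
    (h : g ∈ normalizer (X : Set G)) : X.map (MulAut.conj g).toMonoidHom = X := by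
  ext x
  constructor
  · rintro ⟨y, hy, rfl⟩
    simpa using (mem_normalizer_iff.1 h y).1 hy
  · intro hx
    exact ⟨g⁻¹ * x * g, (mem_normalizer_iff.1 h _).2 (by group; simpa using hx), by simp [mul_assoc]⟩

namespace Part

variable (P : Part G)

theorem comp_eq {a x y : G} (hx : x ≠ 1) (hy : y ≠ 1) (hxa : x ∈ P.comp a) (hya : y ∈ P.comp a)
    (ha : a ≠ 1) : P.comp x = P.comp y := by
  rw [P.eq_of_mem ha hx hxa, P.eq_of_mem ha hy hya]

theorem comp_pow {x : G} {k : ℕ} (hk : x ^ k ≠ 1) : P.comp (x ^ k) = P.comp x :=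
  P.eq_of_mem (fun h => hk (by rw [h, one_pow])) hk (pow_mem (P.mem x) k)

theorem pow_out {a g : G} (ha : a ≠ 1) (hg : g ∉ P.comp a) {k : ℕ} (hk : g ^ k ∈ P.comp a) :
    g ^ k = 1 := by
  by_contra hne
  exact hg (by rw [← P.eq_of_mem ha hne hk, P.comp_pow hne]; exact P.mem g)

/-- Commuting elements in different parts have the same prime order. -/
theorem prime_of_ne [Finite G] {x y : G} (hx : x ≠ 1) (hy : y ≠ 1) (hc : Commute x y)
    (hne : P.comp x ≠ P.comp y) : (orderOf x).Prime ∧ orderOf y = orderOf x := by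
  have key : ∀ {u v : G}, u ≠ 1 → v ≠ 1 → Commute u v → P.comp u ≠ P.comp v →
      v ^ orderOf u = 1 := by
    intro u v hu hv huv huv' 
    by_contra hvk
    have hmul : (u * v) ^ orderOf u = v ^ orderOf u := by
      rw [huv.mul_pow, pow_orderOf_eq_one, one_mul]
    have h1 : P.comp (v ^ orderOf u) = P.comp v := P.comp_pow hvk
    have h2 : P.comp (v ^ orderOf u) = P.comp (u * v) := by
      rw [← hmul]
      exact P.comp_pow (hmul ▸ hvk)
    refine huv' (P.eq_of_mem hv hu ?_)
    have hm : u * v ∈ P.comp v := by rw [← h1, h2]; exact P.mem _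
    simpa using mul_mem hm (inv_mem (P.mem v))
  have heq : orderOf x = orderOf y :=
    Nat.dvd_antisymm (orderOf_dvd_of_pow_eq_one (key hy hx hc.symm hne.symm))
      (orderOf_dvd_of_pow_eq_one (key hx hy hc hne))
  refine ⟨?_, heq.symm⟩
  obtain ⟨p, hp, hpd⟩ := Nat.exists_prime_and_dvd (n := orderOf x)
    (fun h => hx (orderOf_eq_one_iff.1 h))
  set x' := x ^ (orderOf x / p) with hx'
  have ho : orderOf x' = p := orderOf_pow_eq_of_dvd hpd
  have hx'1 : x' ≠ 1 := fun h => hp.ne_one (by rw [← ho, h, orderOf_one])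
  have hne' : P.comp x' ≠ P.comp y := by rwa [hx', P.comp_pow (hx' ▸ hx'1)]
  have h := orderOf_dvd_of_pow_eq_one (key hx'1 hy (hc.pow_left _) hne')
  rw [ho, ← heq] at h
  rwa [Nat.dvd_antisymm h hpd]

theorem eq_of_commute [Finite G] {x y : G} (hx : x ≠ 1) (hy : y ≠ 1) (hc : Commute x y)
    (ho : orderOf x ≠ orderOf y) : P.comp x = P.comp y := by
  by_contra hne
  exact ho (P.prime_of_ne hx hy hc hne).2.symm

theorem eq_of_commute' [Finite G] {x y : G} (hx : x ≠ 1) (hy : y ≠ 1) (hc : Commute x y)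
    (ho : ¬ (orderOf x).Prime) : P.comp x = P.comp y := by
  by_contra hne
  exact ho (P.prime_of_ne hx hy hc hne).1

theorem mem_of_commute [Finite G] {a x y : G} (ha : a ≠ 1) (hx : x ≠ 1) (hxa : x ∈ P.comp a)
    (hc : Commute x y) (ho : orderOf y ≠ orderOf x) : y ∈ P.comp a := by
  rcases eq_or_ne y 1 with rfl | hy
  · exact one_mem _
  · rw [← P.eq_of_mem ha hx hxa, P.eq_of_commute hx hy hc (Ne.symm ho)]
    exact P.mem y

theorem mem_normalizer_of_conj {a x g : G} (ha : a ≠ 1) (hx : x ≠ 1) (hxa : x ∈ P.comp a)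
    (hgx : g * x * g⁻¹ ∈ P.comp a) : g ∈ normalizer (P.comp a : Set G) := by
  apply mem_normalizer_of_map_eq
  rw [← P.eq_of_mem ha hx hxa, ← P.conj, P.eq_of_mem ha (by simpa using hx) hgx,
    P.eq_of_mem ha hx hxa]

theorem mem_normalizer_of_commute {a x g : G} (ha : a ≠ 1) (hx : x ≠ 1) (hxa : x ∈ P.comp a)
    (hgx : Commute g x) : g ∈ normalizer (P.comp a : Set G) :=
  P.mem_normalizer_of_conj ha hx hxa (by rwa [hgx.eq, mul_inv_cancel_right])

/-- A normal subgroup which lies in a part lies in a normal part. -/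
theorem normal_of_le {a : G} (ha : a ≠ 1) {N : Subgroup G} [N.Normal] (hN : N ≠ ⊥)
    (hle : N ≤ P.comp a) : (P.comp a).Normal := by
  obtain ⟨n, hn, hn1⟩ := N.bot_or_exists_ne_one.resolve_left hN
  exact normalizer_eq_top_iff.1 ((eq_top_iff' _).2 fun g =>
    P.mem_normalizer_of_conj ha hn1 (hle hn) (hle ((inferInstance : N.Normal).conj_mem n hn g)))

/-- A self-normalising part is a Frobenius complement. -/
theorem frobenius_of_self_normalizing {a : G} (ha : a ≠ 1)
    (hN : normalizer (P.comp a : Set G) = P.comp a) : Cfsg.IsFrobeniusComplement (P.comp a) := by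
  refine ⟨fun h => ha (mem_bot.1 (h ▸ P.mem a)), P.ne_top ha, fun g hg => ?_⟩
  rw [eq_bot_iff]
  rintro x ⟨hx, hxg⟩
  rw [mem_bot]
  by_contra hx1
  have hy : g⁻¹ * x * g ∈ P.comp a := by
    have h := Subgroup.mem_pointwise_smul_iff_inv_smul_mem.1 hxg
    simpa [MulAut.smul_def, MulAut.conj_symm_apply] using h
  refine hg (hN ▸ P.mem_normalizer_of_conj ha ?_ hy (g := g) ?_)
  · intro h
    apply hx1
    calc x = g * (g⁻¹ * x * g) * g⁻¹ := by group
      _ = 1 := by rw [h, mul_one, mul_inv_cancel]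
  · simpa [mul_assoc] using hx

/-- Every part is properly contained in its normaliser. -/
def NoSelfNormalizing : Prop :=
  ∀ a : G, a ≠ 1 → normalizer (P.comp a : Set G) ≠ P.comp a

theorem NoSelfNormalizing.exists_out [Finite G] {P : Part G} (h : P.NoSelfNormalizing) {a : G}
    (ha : a ≠ 1) :
    ∃ g, g ∈ normalizer (P.comp a : Set G) ∧ g ∉ P.comp a ∧ (orderOf g).Prime := by
  have hlt : P.comp a < normalizer (P.comp a : Set G) := lt_of_le_of_ne le_normalizer (Ne.symm (h a ha))
  obtain ⟨g, hg, hga⟩ := SetLike.exists_of_lt hlt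
  by_cases hp : (orderOf g).Prime
  · exact ⟨g, hg, hga, hp⟩
  obtain ⟨p, hp', hpd⟩ := Nat.exists_prime_and_dvd (n := orderOf g)
    (fun e => hga (by rw [orderOf_eq_one_iff.1 e]; exact one_mem _))
  have ho : orderOf (g ^ (orderOf g / p)) = p := orderOf_pow_eq_of_dvd hpd
  refine ⟨g ^ (orderOf g / p), pow_mem hg _, fun hm => ?_, ho.symm ▸ hp'⟩
  have := P.pow_out ha hga hm
  rw [this, orderOf_one] at ho
  exact hp'.ne_one ho.symm

/-- The parts are nilpotent. -/
theorem NoSelfNormalizing.isNilpotent [Finite G] {P : Part G} (h : P.NoSelfNormalizing) {a : G}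
    (ha : a ≠ 1) : Group.IsNilpotent ↥(P.comp a) := by
  obtain ⟨g, hg, hga, hp⟩ := h.exists_out ha
  set p := orderOf g with hpdef
  haveI : Fact p.Prime := ⟨hp⟩
  set X := P.comp a with hX
  set H := X ⊔ zpowers g with hH
  have hXH : X ≤ H := le_sup_left
  have hgN : zpowers g ≤ normalizer (X : Set G) := zpowers_le.2 hg
  haveI hn : (X.subgroupOf H).Normal :=
    normal_subgroupOf_of_le_normalizer (sup_le le_normalizer hgN)
  by_cases hHp : IsPGroup p ↥H
  · exact (hHp.to_le hXH).isNilpotent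
  have hout : ∀ x : ↥H, x ∉ X.subgroupOf H → x ^ p = 1 := by
    intro x hx
    refine Subtype.ext (P.pow_out ha hx ?_)
    set q := QuotientGroup.mk' (X.subgroupOf H)
    set g0 : ↥H := ⟨g, le_sup_right (α := Subgroup G) (mem_zpowers g)⟩ with hg0
    have hrange : ∀ y : ↥H, q y ∈ zpowers (q g0) := by
      rintro ⟨y, hy⟩
      have : y ∈ ((zpowers (q g0)).comap q).map H.subtype := by
        refine (sup_le ?_ ?_ : X ⊔ zpowers g ≤ _) hy
        · intro w hw
          refine ⟨⟨w, hXH hw⟩, ?_, rfl⟩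
          rw [SetLike.mem_coe, mem_comap, show q ⟨w, hXH hw⟩ = 1 from
            (QuotientGroup.eq_one_iff _).2 hw]
          exact one_mem _
        · rw [zpowers_le]
          exact ⟨g0, mem_zpowers (q g0), rfl⟩
      obtain ⟨y', hy', he⟩ := this
      obtain rfl : y' = ⟨y, hy⟩ := Subtype.ext he
      exact hy'
    obtain ⟨i, hi⟩ := mem_zpowers_iff.1 (hrange x)
    have h1 : q (x ^ p) = 1 := by
      have hg0p : g0 ^ p = 1 := Subtype.ext (pow_orderOf_eq_one g)
      rw [map_pow, ← hi, ← zpow_natCast, zpow_comm, zpow_natCast, ← map_pow, hg0p, map_one,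
        one_zpow]
    have h2 : x ^ p ∈ X.subgroupOf H := (QuotientGroup.eq_one_iff (x ^ p)).1 h1
    exact h2
  have hle : closure {x : ↥H | x ^ p ≠ 1} ≤ X.subgroupOf H :=
    (closure_le _).2 fun x hx => by
      by_contra hxX
      exact hx (hout x hxX)
  have hne : X.subgroupOf H ≠ ⊤ := fun e => hga (subgroupOf_eq_top.1 e (le_sup_right (α := Subgroup G) (mem_zpowers g)))
  obtain ⟨hnil, hidx⟩ := H77.hughes_subgroup H77.gtHyp hp hHp fun e => hne (top_le_iff.1 (e ▸ hle))
  have hidx' : (X.subgroupOf H).index = p := by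
    rcases (Nat.dvd_prime hp).1 (hidx ▸ index_dvd_of_le hle) with h1 | h1
    · exact absurd (index_eq_one.1 h1) hne
    · exact h1
  have heq : closure {x : ↥H | x ^ p ≠ 1} = X.subgroupOf H := by
    refine eq_of_le_of_card_ge hle (le_of_eq ?_)
    have h1 := Subgroup.index_mul_card (X.subgroupOf H)
    have h2 := Subgroup.index_mul_card (closure {x : ↥H | x ^ p ≠ 1})
    rw [hidx] at h2
    rw [hidx'] at h1
    exact Nat.eq_of_mul_eq_mul_left hp.pos (h1.trans h2.symm)
  rw [heq] at hnil
  exact Group.nilpotent_of_mulEquiv (subgroupOfEquivOfLe hXH)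

end Part

end Cfsg.Agent.H84.Partition
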