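import Cfsg.Agent.H84.Partition.Basic
import Cfsg.Agent.H76.FPFSylow
import Cfsg.Agent.H24.Nilp
import Cfsg.Agent.OddOrder.BG16.Metacyclic

/-!
# Groups with a partition: small groups acting without fixed points
-/

namespace Cfsg.Agent.H84.Partition

open Subgroup

universe u

variable {G : Type u} [Group G] [Finite G]

/-- The elements `a ^ i * b ^ j`. -/
def pairSub (a b : G) : Subgroup G := zpowers a ⊔ zpowers b

theorem mem_pairSub {a b w : G} (hab : Commute a b) (hw : w ∈ pairSub a b) :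
    ∃ i j : ℤ, w = a ^ i * b ^ j := by
  rw [pairSub] at hw
  have hN : zpowers b ≤ normalizer (zpowers a : Set G) := by
    rw [zpowers_le]
    refine mem_normalizer_of_map_eq ?_
    rw [MonoidHom.map_zpowers]
    simp [hab.symm.eq]
  obtain ⟨x, hx, y, hy, rfl⟩ := (Coprime.mem_sup_iff hN).1 hw
  obtain ⟨i, rfl⟩ := mem_zpowers_iff.1 hx
  obtain ⟨j, rfl⟩ := mem_zpowers_iff.1 hy
  exact ⟨i, j, rfl⟩

/-- An elementary group of order `q ^ 2` does not act without fixed points. -/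
theorem false_of_fpf_square {Z : Subgroup G} [IsMulCommutative Z] (hZ : Z ≠ ⊥) {q : ℕ}
    (hq : q.Prime) {a b : G} (ha : orderOf a = q) (hb : orderOf b = q) (hab : Commute a b)
    (hba : b ∉ zpowers a) (haN : a ∈ normalizer (Z : Set G)) (hbN : b ∈ normalizer (Z : Set G))
    (hfix : ∀ w : G, w ≠ 1 → w ∈ pairSub a b → ∀ z ∈ Z, Commute w z → z = 1) : False := by
  classical
  haveI : Fact q.Prime := ⟨hq⟩
  letI : CommGroup Z := { (inferInstance : Group Z) with mul_comm := IsMulCommutative.is_comm.comm }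
  haveI : Nontrivial Z := (nontrivial_iff_ne_bot _).2 hZ
  have hd : zpowers a ⊓ zpowers b = ⊥ := by
    rw [eq_bot_iff]
    intro w hw
    rw [mem_bot]
    by_contra hw1
    refine hba ?_
    have h1 := OddOrder.BG16.mem_zpowers_of_prime (c := b) (hb.symm ▸ hq) (mem_inf.1 hw).2 hw1
    exact (zpowers_le.2 (mem_inf.1 hw).1) h1
  have hc : ∀ x ∈ zpowers a, ∀ y ∈ zpowers b, x * y = y * x := by
    intro x hx y hy
    obtain ⟨i, rfl⟩ := mem_zpowers_iff.1 hx
    obtain ⟨j, rfl⟩ := mem_zpowers_iff.1 hy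
    exact (hab.zpow_zpow i j).eq
  have hcard : Nat.card ↥(pairSub a b) = q ^ 2 := by
    rw [pairSub, H41.card_sup_of_commute _ _ hc hd, Nat.card_zpowers, Nat.card_zpowers, ha, hb, sq]
  have hle : pairSub a b ≤ normalizer (Z : Set G) :=
    sup_le (zpowers_le.2 haN) (zpowers_le.2 hbN)
  let φ : ↥(pairSub a b) →* MulAut Z := Z.normalizerMonoidHom.comp (inclusion hle)
  have hφ : Frobenius.IsFPF φ := by
    intro w hw m hm
    refine Subtype.ext (hfix w (fun h => hw (Subtype.ext h)) w.2 m m.2 ?_)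
    have h' : (w : G) * m * (w : G)⁻¹ = m := congrArg Subtype.val hm
    exact (mul_inv_eq_iff_eq_mul.1 h')
  haveI := Frobenius.isCyclic_of_card_sq hφ q hcard
  obtain ⟨g, hg⟩ := IsCyclic.exists_generator (α := ↥(pairSub a b))
  obtain ⟨i, j, hij⟩ := mem_pairSub hab g.2
  have hgq : g ^ q = 1 := by
    refine Subtype.ext ?_
    rw [SubgroupClass.coe_pow, hij, (hab.zpow_zpow i j).mul_pow, OneMemClass.coe_one, ← zpow_natCast,
      ← zpow_natCast, ← zpow_mul, ← zpow_mul, mul_comm i, mul_comm j, zpow_mul, zpow_mul,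
      zpow_natCast, zpow_natCast, ← ha, pow_orderOf_eq_one, ha, ← hb, pow_orderOf_eq_one]
    simp
  have := orderOf_dvd_of_pow_eq_one hgq
  rw [orderOf_eq_card_of_forall_mem_zpowers hg, hcard] at this
  have h2 := Nat.le_of_dvd hq.pos this
  have := hq.two_le
  nlinarith

/-- In a nilpotent subgroup there is a nontrivial central subgroup of exponent a given prime divisor
of the order. -/
theorem exists_central_prime {X : Subgroup G} (hX : Group.IsNilpotent ↥X) {l : ℕ} (hl : l.Prime)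
    (hdvd : l ∣ Nat.card ↥X) : ∃ Z : Subgroup G, Z ≠ ⊥ ∧ IsMulCommutative Z ∧ Z ≤ X ∧
      (∀ z ∈ Z, z ≠ 1 → orderOf z = l) ∧ (∀ z ∈ Z, ∀ x ∈ X, Commute x z) ∧
      ∀ g ∈ normalizer (X : Set G), g ∈ normalizer (Z : Set G) := by
  haveI : Fact l.Prime := ⟨hl⟩
  let Z : Subgroup G :=
    { carrier := {z | z ∈ X ∧ z ^ l = 1 ∧ ∀ x ∈ X, Commute x z}
      one_mem' := ⟨one_mem _, one_pow _, fun _ _ => Commute.one_right _⟩
      mul_mem' := fun {a b} ha hb => ⟨mul_mem ha.1 hb.1, by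
        rw [(hb.2.2 a ha.1).mul_pow, ha.2.1, hb.2.1, mul_one],
        fun x hx => (ha.2.2 x hx).mul_right (hb.2.2 x hx)⟩
      inv_mem' := fun {a} ha => ⟨inv_mem ha.1, by rw [inv_pow, ha.2.1, inv_one],
        fun x hx => (ha.2.2 x hx).inv_right⟩ }
  refine ⟨Z, ?_, ⟨⟨fun a b => Subtype.ext (b.2.2.2 a a.2.1).eq⟩⟩, fun z hz => hz.1,
    fun z hz hz1 => orderOf_eq_prime hz.2.1 hz1, fun z hz => hz.2.2, ?_⟩
  · obtain ⟨L⟩ : Nonempty (Sylow l ↥X) := inferInstance
    have hLn : (L : Subgroup ↥X).Normal :=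
      ((Group.isNilpotent_of_finite_tfae (G := ↥X)).out 0 3 rfl rfl).mp hX l ⟨hl⟩ L
    haveI := hX
    have hne := H24.inf_center_ne_bot (G := ↥X) (L : Subgroup ↥X) (L.ne_bot_of_dvd_card hdvd)
    have hp : IsPGroup l ↥((L : Subgroup ↥X) ⊓ center ↥X) := L.2.to_le inf_le_left
    haveI : Nontrivial ↥((L : Subgroup ↥X) ⊓ center ↥X) := (nontrivial_iff_ne_bot _).2 hne
    obtain ⟨k, hk0, hk⟩ := hp.nontrivial_iff_card.1 inferInstance
    obtain ⟨w, hw⟩ := exists_prime_orderOf_dvd_card' l (hk ▸ dvd_pow_self l hk0.ne')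
    intro hbot
    have hmem : ((w : ↥X) : G) ∈ Z := ⟨(w : ↥X).2,
      congrArg Subtype.val (congrArg Subtype.val (hw ▸ pow_orderOf_eq_one w)),
      fun x hx => congrArg Subtype.val (mem_center_iff.1 (mem_inf.1 w.2).2 ⟨x, hx⟩)⟩
    rw [hbot, mem_bot] at hmem
    exact hl.ne_one (hw ▸ orderOf_eq_one_iff.2 (Subtype.ext (Subtype.ext hmem)))
  · intro g hg
    have key : ∀ g ∈ normalizer (X : Set G), ∀ z ∈ Z, g * z * g⁻¹ ∈ Z := by
      intro g hg z hz
      refine ⟨(mem_normalizer_iff.1 hg z).1 hz.1, by rw [conj_pow, hz.2.1]; simp, fun x hx => ?_⟩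
      have hx' : g⁻¹ * x * g ∈ X := (mem_normalizer_iff.1 hg _).2 (by simpa [mul_assoc] using hx)
      simpa [mul_assoc] using (hz.2.2 _ hx').map (MulAut.conj g).toMonoidHom
    refine mem_normalizer_iff.2 fun z => ⟨key g hg z, fun hz => ?_⟩
    simpa [mul_assoc] using key g⁻¹ (inv_mem hg) _ hz

end Cfsg.Agent.H84.Partition
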