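import Cfsg.Agent.H84.Partition.Fpf
import Cfsg.Agent.H49.NormalIndex
import Cfsg.Agent.S0205
import Cfsg.Agent.PGroups.Basic

/-!
# Groups with a partition: auxiliary lemmas for the case of a nontrivial radical
-/

namespace Cfsg.Agent.H84.Partition

open Subgroup

universe u

variable {G : Type u} [Group G] [Finite G]

theorem conj_coprime_trick {x n c : G} (h : x * n * x⁻¹ = c * n) (hxc : Commute x c) :
    ∀ k : ℕ, x ^ k * n * (x ^ k)⁻¹ = c ^ k * n := by
  intro k
  induction k with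
  | zero => simp
  | succ k ih =>
    calc x ^ (k + 1) * n * (x ^ (k + 1))⁻¹ = x * (x ^ k * n * (x ^ k)⁻¹) * x⁻¹ := by
          rw [pow_succ']; group
      _ = x * (c ^ k * n) * x⁻¹ := by rw [ih]
      _ = (x * c ^ k * x⁻¹) * (x * n * x⁻¹) := by group
      _ = c ^ k * (c * n) := by rw [h, (hxc.pow_right k).eq, mul_inv_cancel_right]
      _ = c ^ (k + 1) * n := by rw [pow_succ]; group

/-- A `q`-element fixes a nontrivial element of a normalised nontrivial `q`-subgroup. -/
theorem exists_fixed {q : ℕ} [Fact q.Prime] {Z : Subgroup G} (hZ : Z ≠ ⊥) (hp : IsPGroup q ↥Z)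
    {g : G} (hgN : g ∈ normalizer (Z : Set G)) {k : ℕ} (hg : g ^ q ^ k = 1) :
    ∃ z ∈ Z, z ≠ 1 ∧ Commute g z := by
  set H : Subgroup G := Z ⊔ zpowers g with hH
  have hzg : IsPGroup q ↥(zpowers g) := by
    rintro ⟨x, hx⟩
    obtain ⟨i, rfl⟩ := mem_zpowers_iff.1 hx
    exact ⟨k, Subtype.ext (by
      show (g ^ i) ^ q ^ k = 1
      rw [← zpow_natCast, zpow_comm, zpow_natCast, hg, one_zpow])⟩
  have hHp : IsPGroup q ↥H := hp.to_sup_of_normal_left' hzg (zpowers_le.2 hgN)
  haveI : (Z.subgroupOf H).Normal :=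
    normal_subgroupOf_of_le_normalizer (sup_le le_normalizer (zpowers_le.2 hgN))
  have hne := PGroups.inf_center_ne_bot hHp (Z.subgroupOf H) (fun h => hZ (by
    have := congrArg (Subgroup.map H.subtype) h
    rwa [Subgroup.map_bot, subgroupOf_map_subtype, inf_of_le_left le_sup_left] at this))
  obtain ⟨z, hz, hz1⟩ := (bot_or_exists_ne_one _).resolve_left hne
  exact ⟨z, (mem_inf.1 hz).1, fun h => hz1 (Subtype.ext h), (congrArg Subtype.val
    (mem_center_iff.1 (mem_inf.1 hz).2 ⟨g, le_sup_right (α := Subgroup G) (mem_zpowers g)⟩) :)⟩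

theorem exists_pow_order {g : G} {s : ℕ} (hs : s.Prime) (hd : s ∣ orderOf g) :
    orderOf (g ^ (orderOf g / s)) = s ∧ g ^ (orderOf g / s) ≠ 1 := by
  have h := orderOf_pow_eq_of_dvd hd
  exact ⟨h, fun e => hs.ne_one (by rw [← h, e, orderOf_one])⟩

theorem ne_one_of_orderOf_prime {g : G} {p : ℕ} (hp : p.Prime) (h : orderOf g = p) : g ≠ 1 :=
  fun e => hp.ne_one (by rw [← h, e, orderOf_one])

/-- An element all of whose prime divisors of the order equal `r` is an `r`-element. -/
theorem exists_pow_eq_one {g : G} {r : ℕ} (h : ∀ s : ℕ, s.Prime → s ∣ orderOf g → s = r) :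
    ∃ k, g ^ r ^ k = 1 := by
  refine ⟨(orderOf g).primeFactorsList.length, ?_⟩
  rw [← Nat.eq_prime_pow_of_unique_prime_dvd (p := r) (orderOf_pos g).ne' fun {d} hd hdn => h d hd hdn]
  exact pow_orderOf_eq_one g

theorem eq_of_prime_dvd_of_pow {g : G} {r s k : ℕ} (hr : r.Prime) (hg : g ^ r ^ k = 1)
    (hs : s.Prime) (hd : s ∣ orderOf g) : s = r :=
  (Nat.prime_dvd_prime_iff_eq hs hr).1
    (hs.dvd_of_dvd_pow (hd.trans (orderOf_dvd_of_pow_eq_one hg)))

theorem pow_quot_index (F : Subgroup G) [F.Normal] {g : G} : g ^ F.index ∈ F := F.pow_index_mem g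

/-- Elements of prime order outside a proper normal subgroup with solvable quotient. -/
theorem NoHughes.false_of_solvable_quotient (hNH : NoHughes G) (X : Subgroup G) [X.Normal]
    (hX : X ≠ ⊤) [Group.IsSolvable (G ⧸ X)] (hout : ∀ g, g ∉ X → (orderOf g).Prime) : False := by
  haveI : Nontrivial (G ⧸ X) := QuotientGroup.nontrivial_iff.2 hX
  have hlt : commutator (G ⧸ X) < ⊤ := Group.IsSolvable.commutator_lt_top_of_nontrivial _
  obtain ⟨p, hp, hd⟩ := Nat.exists_prime_and_dvd (n := (commutator (G ⧸ X)).index)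
    fun h => hlt.ne (index_eq_one.1 h)
  haveI : Fact p.Prime := ⟨hp⟩
  obtain ⟨M, hMn, hMi⟩ := H49.exists_normal_index_of_dvd (commutator (G ⧸ X)) le_rfl hd
  haveI := hMn
  refine hNH.false_of_prime_orders (M := X) (M' := M.comap (QuotientGroup.mk' X))
    (fun x hx => ?_) ?_ hout
  · rw [mem_comap, QuotientGroup.mk'_apply, (QuotientGroup.eq_one_iff x).2 hx]
    exact one_mem _
  · rw [index_comap_of_surjective _ (QuotientGroup.mk'_surjective X), hMi]
    exact hp

namespace Part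

variable (P : Part G)

/-- A normal part meets no other part. -/
theorem eq_one_of_mem_inter {a b z : G} (ha : a ≠ 1) (hb : b ≠ 1) (hab : b ∉ P.comp a)
    (hza : z ∈ P.comp a) (hzb : z ∈ P.comp b) : z = 1 := by
  by_contra hz
  exact hab (P.eq_of_mem ha hz hza ▸ (P.eq_of_mem hb hz hzb).symm ▸ P.mem b)

end Part

end Cfsg.Agent.H84.Partition
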