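import Cfsg.Agent.H84.Partition.SimpleFrame
import Cfsg.Agent.H70.Eppo.Simple

/-!
# Simple groups with a partition into nilpotent subgroups
-/

namespace Cfsg.Agent.H84.Partition

open Subgroup

universe u

variable {G : Type u} [Group G] [Finite G] (P : Part G)

namespace Part

open H65.CIT in
/-- The configuration of the linear group of degree three over four elements has no partition. -/
theorem false_of_amalgam_four [IsSimpleGroup G] (hG : ∃ a b : G, a * b ≠ b * a) (hnil : P.Nil)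
    (hC : CIT G) (hL : Loc G) (A : Amalgam G) (hq : A.q = 4)
    (hTI : ∃ S T : Sylow 2 G, S ≠ T ∧ (S : Subgroup G) ⊓ (T : Subgroup G) ≠ ⊥) : False := by
  classical
  haveI := Fact.mk Nat.prime_two
  set Z := A.P₁ ⊓ A.P₂ with hZ
  have hZ1 : Z ≤ A.P₁ := inf_le_left
  have hcent : ∀ x ∈ A.T, x ∉ A.P₁ → ∀ p ∈ A.P₁, (Commute p x ↔ p ∈ Z) := fun x hx hxP p hp => by
    rw [hZ, ← A.cent₁ x hx hxP]
    exact ⟨fun h => mem_inf.2 ⟨hp, mem_centralizer_singleton_iff.2 h⟩,
      fun h => mem_centralizer_singleton_iff.1 (mem_inf.1 h).2⟩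
  obtain ⟨w, hwT, hw⟩ : ∃ w ∈ A.T, w * w ≠ 1 := by
    by_contra hcon
    push Not at hcon
    have hT2 : Ex2 A.T := hcon
    have hlt : ¬ A.T ≤ A.P₁ := fun h => by
      have := card_dvd_of_le h
      rw [A.cardT, A.cardP₁, hq] at this
      norm_num at this
    obtain ⟨x, hx, hxP⟩ := SetLike.not_le_iff_exists.1 hlt
    have hle : A.P₁ ⊓ A.T ≤ Z := fun p hp =>
      (hcent x hx hxP p (mem_inf.1 hp).1).1 (hT2.commute (mem_inf.1 hp).2 hx)
    have hPT : A.P₁ ≤ A.T := A.h₁.le_syl A.hT₁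
    rw [inf_of_le_left hPT] at hle
    have := card_dvd_of_le hle
    rw [A.cardP₁, A.cardZ, hq] at this
    norm_num at this
  have hwP : w ∉ A.P₁ := fun h => hw (A.ex₁ w h)
  have hw1 : w ≠ 1 := fun e => hw (by rw [e, one_mul])
  have hwo : orderOf w ≠ 2 := fun e => hw (mul_self_of_two e)
  set X := P.comp w with hX
  have hXnil := hnil w hw1
  obtain ⟨z, hz, hz1⟩ := (bot_or_exists_ne_one Z).resolve_left fun e => by
    have h := A.cardZ
    rw [← hZ, e, card_bot, hq] at h
    omega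
  have hzo : orderOf z = 2 := orderOf_two (A.ex₁ z (hZ1 hz)) hz1
  have hzX : z ∈ X := P.mem_of_commute hw1 hw1 (P.mem w)
    ((hcent w hwT hwP z (hZ1 hz)).2 hz).symm (by rw [hzo]; exact Ne.symm hwo)
  have hzT : ∀ x ∈ A.T, Commute x z := fun x hx => by
    by_cases h : x ∈ A.P₁
    · exact A.ex₁.commute h (hZ1 hz)
    · exact ((hcent x hx h z (hZ1 hz)).2 hz).symm
  have hTN : ∀ x ∈ A.T, x ∈ normalizer (X : Set G) := fun x hx =>
    P.mem_normalizer_of_commute hw1 hz1 hzX (hzT x hx)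
  have hPT : A.P₁ ≤ A.T := A.h₁.le_syl A.hT₁
  have hTX : A.T ≤ X := by
    intro x hx
    by_contra hxX
    have hxo : orderOf x = 2 := by
      by_contra hne
      exact hxX (P.mem_of_commute hw1 hz1 hzX (hzT x hx).symm (by rw [hzo]; exact hne))
    have hxi := P.inverts_of_out hw1 hxo hxX (hTN x hx)
    have hXc : ∀ a ∈ X, ∀ b ∈ X, Commute a b := by
      intro a ha b hb
      have h := hxi _ (mul_mem ha hb)
      rw [show x * (a * b) * x⁻¹ = (x * a * x⁻¹) * (x * b * x⁻¹) by group, hxi a ha, hxi b hb,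
        mul_inv_rev] at h
      have h' := congrArg (fun a => a⁻¹) h
      simp only [mul_inv_rev, inv_inv] at h'
      exact h'.symm
    have hin : ∀ p ∈ A.P₁, p ∈ X → p ∈ Z := fun p hp hpX =>
      (hcent w hwT hwP p hp).1 (hXc p hpX w (P.mem w))
    obtain ⟨p, hp, hpX⟩ : ∃ p ∈ A.P₁, p ∉ X := by
      by_contra hcon
      push Not at hcon
      have := card_dvd_of_le (fun p hp => hin p hp (hcon p hp) : A.P₁ ≤ Z)
      rw [A.cardP₁, A.cardZ, hq] at this
      norm_num at this
    have hinv : ∀ q ∈ A.P₁, q ∉ X → q * w * q⁻¹ = w⁻¹ := fun q hq' hqX =>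
      P.inverts_of_out hw1 (orderOf_two (A.ex₁ q hq') fun e => hqX (e ▸ one_mem _)) hqX
        (hTN q (hPT hq')) w (P.mem w)
    let f : ↥A.P₁ → ↥Z × Bool := fun q =>
      if h : (q : G) ∈ X then (⟨q, hin q q.2 h⟩, true)
      else (⟨q * p, (hcent w hwT hwP _ (mul_mem q.2 hp)).1 (by
        refine mul_inv_eq_iff_eq_mul.1 ?_
        rw [show (q : G) * p * w * ((q : G) * p)⁻¹ = q * (p * w * p⁻¹) * (q : G)⁻¹ by group,
          hinv p hp hpX, ← conj_inv, hinv q q.2 h, inv_inv])⟩, false)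
    have hf : Function.Injective f := by
      intro a b hab
      by_cases ha : (a : G) ∈ X <;> by_cases hb : (b : G) ∈ X <;>
        simp only [f, ha, hb, dif_pos, dif_neg, not_false_iff, Prod.mk.injEq, Subtype.mk.injEq,
          mul_left_inj] at hab
      · exact Subtype.ext hab.1
      · exact absurd hab.2 (by decide)
      · exact absurd hab.2 (by decide)
      · exact Subtype.ext hab.1
    have := Nat.card_le_card_of_injective f hf
    rw [Nat.card_prod, Nat.card_eq_fintype_card (α := Bool), Fintype.card_bool, A.cardP₁] at this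
    have hZc : Nat.card ↥Z = A.q := A.cardZ
    rw [hZc, hq] at this
    norm_num at this
  have hXp : IsPGroup 2 ↥X := fun x => by
    obtain ⟨a, b, hab, -, hb, ⟨k, hk⟩, hbo⟩ := exists_two_split (x : G)
    have hbX : b ∈ X := by
      obtain ⟨i, rfl⟩ := mem_zpowers_iff.1 hb
      exact zpow_mem x.2 i
    have hbz : Commute b z := H41.commute_of_coprime_of_isNilpotent hXnil hbX hzX
      (by rw [hzo]; exact Nat.coprime_two_right.2 hbo)
    have hb1 : b = 1 := by
      obtain ⟨j, hj⟩ := hC z hzo ⟨b, mem_cent.2 hbz⟩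
      have hd := orderOf_dvd_of_pow_eq_one (congrArg Subtype.val hj : b ^ 2 ^ j = 1)
      exact orderOf_eq_one_iff.1 (Nat.eq_one_of_dvd_coprimes
        ((Nat.coprime_two_left.2 hbo).pow_left j) hd dvd_rfl)
    exact ⟨k, Subtype.ext (by
      show (x : G) ^ 2 ^ k = 1
      rw [hab, hb1, mul_one, hk])⟩
  have hTeq : X = A.T := A.sylow_four hL hG hq X hXp hTX
  -- every Sylow subgroup is a part
  have hsyl : ∀ S : Sylow 2 G, ∃ c : G, c ≠ 1 ∧ (S : Subgroup G) = P.comp c := by
    intro S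
    obtain ⟨S', hS'⟩ := A.hT₁.2.1.exists_le_sylow
    have hS'eq : (S' : Subgroup G) = A.T := A.sylow_four hL hG hq _ S'.2 hS'
    obtain ⟨c, hc⟩ := MulAction.exists_smul_eq G S' S
    refine ⟨c * w * c⁻¹, fun e => hw1 (conj_eq_one_iff.1 e), ?_⟩
    rw [← hc, Sylow.coe_subgroup_smul, hS'eq, ← hTeq, P.conj]
    rfl
  obtain ⟨S, T, hne, hint⟩ := hTI
  obtain ⟨x, hx, hx1⟩ := (bot_or_exists_ne_one _).resolve_left hint
  obtain ⟨c, hc, hSc⟩ := hsyl S
  obtain ⟨d, hd, hTd⟩ := hsyl T
  refine hne (Sylow.ext ?_)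
  rw [hSc, hTd, ← P.eq_of_mem hc hx1 (hSc ▸ (mem_inf.1 hx).1),
    ← P.eq_of_mem hd hx1 (hTd ▸ (mem_inf.1 hx).2)]

/-- Simple groups with a partition into nilpotent subgroups. -/
theorem simple_cases [IsSimpleGroup G] (hna : ¬ IsMulCommutative G) (hnil : P.Nil) :
    (∃ (F : Type) (_ : Field F) (_ : Fintype F), 4 ≤ Fintype.card F ∧
        Nonempty (G ≃* Matrix.ProjectiveSpecialLinearGroup (Fin 2) F)) ∨ Cfsg.Lie.IsoSuzuki G := by
  classical
  haveI := Fact.mk Nat.prime_two
  have heven : Even (Nat.card G) := by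
    by_contra h
    haveI := S0205.result (Nat.not_even_iff_odd.1 h)
    exact hna ⟨⟨fun a b => IsSimpleGroup.comm_iff_isSolvable.mpr inferInstance a b⟩⟩
  have hG : ∃ a b : G, a * b ≠ b * a := by
    by_contra hcon
    push Not at hcon
    exact hna ⟨⟨hcon⟩⟩
  suffices h : (∃ (F : Type) (_ : Field F) (_ : Fintype F),
      Nonempty (G ≃* Matrix.ProjectiveSpecialLinearGroup (Fin 2) F)) ∨ Cfsg.Lie.IsoSuzuki G by
    rcases h with ⟨F, iF, iFt, ⟨e⟩⟩ | h
    · refine Or.inl ⟨F, iF, iFt, ?_, ⟨e⟩⟩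
      by_contra hlt
      have h2 := Fintype.one_lt_card (α := F)
      have hcard := Linear.card_PSL_two_mul (F := F)
      have hq : Fintype.card F = 2 ∨ Fintype.card F = 3 := by omega
      have hsmall : Group.IsSolvable G := by
        rcases hq with q2 | q3
        · rw [q2] at hcard
          norm_num at hcard
          exact S0144.result 2 3 1 1 Nat.prime_two Nat.prime_three (by
            rw [Nat.card_congr e.toEquiv, Nat.card_eq_fintype_card]; omega)
        · rw [q3] at hcard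
          norm_num at hcard
          exact S0144.result 2 3 2 1 Nat.prime_two Nat.prime_three (by
            rw [Nat.card_congr e.toEquiv, Nat.card_eq_fintype_card]; omega)
      exact hna ⟨⟨fun a b => IsSimpleGroup.comm_iff_isSolvable.mpr hsmall a b⟩⟩
    · exact Or.inr h
  by_cases hdi : ∃ t u z : G, orderOf t = 2 ∧ Commute u t ∧ u ∉ P.comp t ∧ Commute z t ∧
      ∀ k : ℕ, z ^ 2 ^ k ≠ 1
  · obtain ⟨t, u, z, ht, hu, huX, hz, hzo⟩ := hdi
    obtain ⟨F, iF, iFt, -, he⟩ := P.psl_of_dihedral hna hnil ht hu huX hz hzo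
    exact Or.inl ⟨F, iF, iFt, he⟩
  have hC : H65.CIT.CIT G := by
    intro t ht x
    by_contra hx
    push Not at hx
    exact P.false_of_nilpotent_centralizer hna hnil (fun a b ha hb hbo g hg => by
        by_contra hgX
        exact hdi ⟨a, g, b, ha, hg, hgX, hb, hbo⟩) ht (H65.CIT.mem_cent.1 x.2)
      (fun k e => hx k (Subtype.ext e))
  have hnotp : ¬ IsPGroup 2 G := fun hp => by
    haveI := hp.isNilpotent
    exact hna ⟨⟨fun a b => IsSimpleGroup.comm_iff_isSolvable.mpr inferInstance a b⟩⟩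
  by_cases hTI : ∀ S T : Sylow 2 G, S ≠ T → (S : Subgroup G) ⊓ (T : Subgroup G) = ⊥
  · obtain ⟨S⟩ : Nonempty (Sylow 2 G) := inferInstance
    obtain ⟨T, hT⟩ : ∃ T : Sylow 2 G, S ≠ T := by
      by_contra hcon
      push Not at hcon
      haveI : Subsingleton (Sylow 2 G) := ⟨fun x y => (hcon x).symm.trans (hcon y)⟩
      rcases (S.normal_of_subsingleton).eq_bot_or_eq_top with h | h
      · exact S.ne_bot_of_dvd_card (even_iff_two_dvd.1 heven) h
      · exact hnotp fun x => (H65.CIT.pow_two_of_mem S.2 (h.symm ▸ mem_top x)).imp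
          fun _ hk => hk
    have hodd : Cfsg.oddCore G = ⊥ := by
      haveI : (Cfsg.oddCore G).Characteristic := Cores.pPrimeCore_characteristic
      refine (inferInstance : (Cfsg.oddCore G).Normal).eq_bot_or_eq_top.resolve_right fun h => ?_
      have ho := Cores.odd_card_oddCore (G := G)
      rw [h, Subgroup.card_top] at ho
      exact Nat.not_even_iff_odd.2 ho heven
    obtain ⟨F, -⟩ := H65.CIT.exists_frame hC hodd hTI S T hT
    rcases (H70.SzUnique.classification_of_frame F).2 with ⟨n, hn, he⟩ | h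
    · haveI : Fintype (GaloisField 2 n) := Fintype.ofFinite _
      exact Or.inl ⟨GaloisField 2 n, inferInstance, inferInstance, he⟩
    · exact Or.inr h
  push Not at hTI
  have hO : Cfsg.pCore 2 G = ⊥ := by
    refine (inferInstance : (Cfsg.pCore 2 G).Normal).eq_bot_or_eq_top.resolve_right fun h => hnotp ?_
    intro x
    obtain ⟨k, hk⟩ := (Cores.pCore_isPGroup (p := 2) (G := G)) ⟨x, h ▸ mem_top x⟩
    exact ⟨k, congrArg Subtype.val hk⟩
  have hL := H65.CIT.loc_of hC hO
  obtain ⟨A⟩ := hL.exists_amalgam hTI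
  have hq4 := hL.q_le_four A
  have hq2 := A.two_le
  obtain hq | hq : A.q = 2 ∨ A.q = 4 := by
    have h : A.q = 2 ∨ A.q = 3 ∨ A.q = 4 := by omega
    rcases h with h | h | h
    · exact Or.inl h
    · obtain ⟨k, hk⟩ := IsPGroup.iff_card.1 A.hT₁.2.1
      rw [A.cardT, h] at hk
      have hodd : Odd ((3 : ℕ) ^ 3) := by decide
      rw [hk] at hodd
      rcases Nat.eq_zero_or_pos k with rfl | hk0
      · norm_num at hk
      · exact absurd (even_iff_two_dvd.2 (dvd_pow_self 2 hk0.ne')) (Nat.not_even_iff_odd.2 hodd)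
    · exact Or.inr h
  · obtain ⟨F, iF, iFt, -, he⟩ := A.psl_two hna hL hq
    exact Or.inl ⟨F, iF, iFt, he⟩
  · exact (P.false_of_amalgam_four hG hnil hC hL A hq hTI).elim

end Part

end Cfsg.Agent.H84.Partition
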