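import Cfsg.Agent.H84.Partition.Radical
import Cfsg.Agent.H84.Partition.Simple
import Cfsg.Agent.H84.Partition.Almost

/-!
# Classification of finite groups with a partition
-/

namespace Cfsg.Agent.H84.Partition

open Subgroup

universe u

variable {G : Type u} [Group G]

/-- A conjugation-invariant refinement of a partition. -/
theorem exists_part (S : Set (Subgroup G)) (hS2 : ∃ H ∈ S, ∃ K ∈ S, H ≠ K)
    (hS1 : ∀ H ∈ S, H ≠ ⊥) (hpart : ∀ g : G, g ≠ 1 → ∃! H : Subgroup G, H ∈ S ∧ g ∈ H) :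
    Nonempty (Part G) := by
  classical
  let B : G → Subgroup G := fun x => if h : x = 1 then ⊤ else Classical.choose (hpart x h)
  have hB : ∀ {x}, x ≠ 1 → B x ∈ S ∧ x ∈ B x := fun {x} h => by
    simp only [B, h, dite_false]
    exact (Classical.choose_spec (hpart x h)).1
  have hBu : ∀ {x H}, x ≠ 1 → H ∈ S → x ∈ H → H = B x := fun {x H} h h1 h2 => by
    simp only [B, h, dite_false]
    exact (Classical.choose_spec (hpart x h)).2 H ⟨h1, h2⟩
  let C : G → Subgroup G := fun x => ⨅ g : G, (B (g⁻¹ * x * g)).comap (MulAut.conj g⁻¹).toMonoidHom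
  have hC : ∀ x y, y ∈ C x ↔ ∀ g, g⁻¹ * y * g ∈ B (g⁻¹ * x * g) := fun x y => by
    simp [C, mem_iInf]
  refine ⟨{ comp := C, mem := ?_, eq_of_mem := ?_, conj := ?_, ne_top := ?_ }⟩
  · intro x
    rw [hC]
    intro g
    by_cases h : g⁻¹ * x * g = 1
    · rw [h]; exact one_mem _
    · exact (hB h).2
  · intro x y hx hy hyx
    have heq : ∀ g, B (g⁻¹ * y * g) = B (g⁻¹ * x * g) := fun g => by
      have hne : ∀ {z : G}, z ≠ 1 → g⁻¹ * z * g ≠ 1 := fun {z} hz h => hz (by
        calc z = g * (g⁻¹ * z * g) * g⁻¹ := by group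
          _ = 1 := by rw [h, mul_one, mul_inv_cancel])
      exact (hBu (hne hy) (hB (hne hx)).1 ((hC x y).1 hyx g)).symm
    simp only [C, heq]
  · intro h x
    ext y
    rw [hC]
    constructor
    · intro hy
      refine ⟨h⁻¹ * y * h, (hC x _).2 fun g => ?_, by simp [mul_assoc]⟩
      have := hy (h * g)
      rw [show (h * g)⁻¹ * (h * x * h⁻¹) * (h * g) = g⁻¹ * x * g by group,
        show (h * g)⁻¹ * y * (h * g) = g⁻¹ * (h⁻¹ * y * h) * g by group] at this
      exact this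
    · rintro ⟨z, hz, rfl⟩ g
      have := (hC x z).1 hz (h⁻¹ * g)
      rw [show (h⁻¹ * g)⁻¹ * x * (h⁻¹ * g) = g⁻¹ * (h * x * h⁻¹) * g by group,
        show (h⁻¹ * g)⁻¹ * z * (h⁻¹ * g) = g⁻¹ * (h * z * h⁻¹) * g by group] at this
      simpa using this
  · intro x hx htop
    have hle : C x ≤ B x := fun y hy => by simpa using (hC x y).1 hy 1
    have hBtop : (⊤ : Subgroup G) ∈ S := by
      have h := (hB hx).1
      have e : B x = ⊤ := top_le_iff.1 (htop.symm.le.trans hle)
      rwa [e] at h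
    obtain ⟨H, hH, K, hK, hne⟩ := hS2
    have key : ∀ L ∈ S, L = ⊤ := fun L hL => by
      obtain ⟨l, hl, hl1⟩ := (bot_or_exists_ne_one L).resolve_left (hS1 L hL)
      exact (hpart l hl1).unique ⟨hL, hl⟩ ⟨hBtop, mem_top l⟩
    exact hne ((key H hH).trans (key K hK).symm)

/-- Finite groups with a nontrivial partition. -/
theorem classification [Finite G] [Nontrivial G] (P : Part G) :
    Nonempty (G ≃* Equiv.Perm (Fin 4)) ∨
    (∃ p : ℕ, p.Prime ∧ Subgroup.closure {g : G | g ^ p ≠ 1} ≠ ⊤) ∨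
    (∃ H : Subgroup G, Cfsg.IsFrobeniusComplement H) ∨
    (∃ (F : Type) (_ : Field F) (_ : Fintype F), 4 ≤ Fintype.card F ∧
        Nonempty (G ≃* Matrix.ProjectiveSpecialLinearGroup (Fin 2) F)) ∨
    (∃ (F : Type) (_ : Field F) (_ : Fintype F), 5 ≤ Fintype.card F ∧ Odd (Fintype.card F) ∧
        Nonempty (G ≃* (GL (Fin 2) F ⧸ Subgroup.center (GL (Fin 2) F)))) ∨
    Cfsg.Lie.IsoSuzuki G := by
  by_cases hNH : NoHughes G
  swap
  · unfold NoHughes at hNH
    push Not at hNH
    exact Or.inr (Or.inl hNH)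
  by_cases hNS : P.NoSelfNormalizing
  swap
  · unfold Part.NoSelfNormalizing at hNS
    push Not at hNS
    obtain ⟨a, ha, hN⟩ := hNS
    exact Or.inr (Or.inr (Or.inl ⟨_, P.frobenius_of_self_normalizing ha hN⟩))
  by_cases hV : ∃ V : Subgroup G, V.Normal ∧ (∀ a ∈ V, ∀ b ∈ V, Commute a b) ∧ V ≠ ⊥
  · obtain ⟨V, hVn, hVc, hVne⟩ := hV
    haveI := hVn
    exact Or.inl (P.radical_case hNS hNH V hVne hVc)
  push Not at hV
  have hnil : P.Nil := fun a ha => hNS.isNilpotent ha
  obtain ⟨T, hTn, hTs, hTnil, hC⟩ := P.exists_simple_normal hnil hV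
  haveI := hTn
  haveI := hTs
  have hne : ∀ a : G, a ≠ 1 → a ∈ T → ¬ T ≤ P.comp a := fun a ha _ hle =>
    hTnil (isNilpotent_of_le hle (hnil a ha))
  have hna : ¬ IsMulCommutative ↥T := fun h => by
    letI : CommGroup ↥T := { (inferInstance : Group ↥T) with mul_comm := h.is_comm.comm }
    exact hTnil CommGroup.isNilpotent
  have hT := (P.restrict T hne).simple_cases hna (P.restrict_nil hnil T hne)
  rcases P.almost_simple hnil hC hT with h | h | h
  · exact Or.inr (Or.inr (Or.inr (Or.inl h)))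
  · exact Or.inr (Or.inr (Or.inr (Or.inr (Or.inl h))))
  · exact Or.inr (Or.inr (Or.inr (Or.inr (Or.inr h))))

end Cfsg.Agent.H84.Partition
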