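import Cfsg.Agent.H84.Partition.POut

/-!
# Groups with a partition: no normal part, the four-group case
-/

namespace Cfsg.Agent.H84.Partition

open Subgroup

universe u

variable {G : Type u} [Group G] [Finite G] (P : Part G)

/-- `x` induces on `F` a transvection with centre `m`. -/
structure Trans (F : Subgroup G) (x m : G) : Prop where
  mem : m ∈ F
  ne : m ≠ 1
  cases : ∀ v ∈ F, Commute x v ∨ x * v * x⁻¹ = v * m
  moved : ∃ v ∈ F, ¬ Commute x v

theorem Trans.prod_fixed {F : Subgroup G} {x m : G} (T : Trans F x m)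
    (hc : ∀ a ∈ F, ∀ b ∈ F, Commute a b) (h2 : ∀ a ∈ F, a * a = 1) {a b : G}
    (ha : a ∈ F) (hb : b ∈ F) (hxa : ¬ Commute x a) (hxb : ¬ Commute x b) : Commute x (a * b) := by
  refine mul_inv_eq_iff_eq_mul.1 ?_
  calc x * (a * b) * x⁻¹ = (x * a * x⁻¹) * (x * b * x⁻¹) := by group
    _ = a * m * (b * m) := by
      rw [(T.cases a ha).resolve_left hxa, (T.cases b hb).resolve_left hxb]
    _ = a * b := by
      rw [(hc b hb m T.mem).eq, ← mul_assoc, mul_assoc a m m, h2 m T.mem, mul_one]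

namespace Part

theorem four_group_case (hNS : P.NoSelfNormalizing) (hNH : NoHughes G)
    (hnn : ∀ a : G, a ≠ 1 → ¬ (P.comp a).Normal) (N : Subgroup G) [N.Normal] (hN : N ≠ ⊥) {r : ℕ}
    (hr : r.Prime) (hNc : ∀ a ∈ N, ∀ b ∈ N, Commute a b) (hNe : ∀ a ∈ N, a ^ r = 1) :
    Nonempty (G ≃* Equiv.Perm (Fin 4)) := by
  classical
  haveI := Fact.mk hr
  set F := centralizer (N : Set G) with hFdef
  haveI hFn : F.Normal := inferInstance
  have hNF : N ≤ F := fun a ha => mem_centralizer_iff.2 fun b hb => (hNc b hb a ha).eq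
  have hFN : ∀ v ∈ F, ∀ n ∈ N, Commute v n := fun v hv n hn => (mem_centralizer_iff.1 hv n hn).symm
  have hout : ∀ a : G, a ≠ 1 → ∃ n ∈ N, n ∉ P.comp a := fun a ha => by
    by_contra hcon
    push Not at hcon
    exact hnn a ha (P.normal_of_le ha hN hcon)
  have hFe : ∀ x ∈ F, x ^ r = 1 := by
    intro x hx
    by_contra hne
    have hx1 : x ≠ 1 := fun e => hne (by rw [e, one_pow])
    obtain ⟨n, hn, hnX⟩ := hout x hx1
    have hn1 : n ≠ 1 := fun e => hnX (e ▸ one_mem _)
    refine hnX (P.mem_of_commute hx1 hx1 (P.mem x) (hFN x hx n hn) fun ho => hne ?_)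
    rw [← orderOf_eq_prime (hNe n hn) hn1, ho, pow_orderOf_eq_one]
  have hFp : IsPGroup r ↥F := fun x => ⟨1, Subtype.ext (by rw [pow_one]; exact hFe x x.2)⟩
  have hcent : ∀ z ∈ F, z ≠ 1 → ∀ x, Commute x z → ∃ k, x ^ r ^ k = 1 := by
    intro z hz hz1 x hxz
    by_contra hcon
    obtain ⟨s, hs, hsd, hsr⟩ : ∃ s, s.Prime ∧ s ∣ orderOf x ∧ s ≠ r := by
      by_contra h'
      push Not at h'
      exact hcon (exists_pow_eq_one h')
    obtain ⟨hyo, hy1⟩ := exists_pow_order hs hsd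
    set y := x ^ (orderOf x / s) with hy
    have hzo : orderOf z = r := orderOf_eq_prime (hFe z hz) hz1
    have hzX : z ∈ P.comp y :=
      P.mem_of_commute hy1 hy1 (P.mem y) (hxz.pow_left _) (by rw [hzo, hyo]; exact Ne.symm hsr)
    refine hsr ((Nat.prime_dvd_prime_iff_eq hs hr).1 (hyo ▸ orderOf_dvd_of_pow_eq_one (hFe y ?_)))
    refine mem_centralizer_iff.2 fun n hn => ?_
    have hnX : n ∈ normalizer (P.comp y : Set G) :=
      P.mem_normalizer_of_commute hy1 hz1 hzX (hFN z hz n hn).symm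
    set c := y * n * y⁻¹ * n⁻¹ with hc
    have hcN : c ∈ N := mul_mem ((inferInstance : N.Normal).conj_mem n hn y) (inv_mem hn)
    have hcX : c ∈ P.comp y := by
      have h := mul_mem (P.mem y) ((mem_normalizer_iff.1 hnX y⁻¹).1 (inv_mem (P.mem y)))
      simpa [hc, mul_assoc] using h
    have hyc : Commute y c := (H41.commute_of_coprime_of_isNilpotent (hNS.isNilpotent hy1) (P.mem y) hcX
      (by
        rw [hyo]
        exact ((Nat.coprime_primes hs hr).2 hsr).coprime_dvd_right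
          (orderOf_dvd_of_pow_eq_one (hNe c hcN))))
    have hk := conj_coprime_trick (show y * n * y⁻¹ = c * n by rw [hc, inv_mul_cancel_right]) hyc s
    rw [← hyo, pow_orderOf_eq_one, one_mul, inv_one, mul_one, hyo] at hk
    have hcs : c ^ s = 1 := mul_eq_right.1 hk.symm
    have hc1 : c = 1 := orderOf_eq_one_iff.1 (Nat.eq_one_of_dvd_coprimes
      ((Nat.coprime_primes hs hr).2 hsr) (orderOf_dvd_of_pow_eq_one hcs)
      (orderOf_dvd_of_pow_eq_one (hNe c hcN)))
    rw [hc, mul_inv_eq_one, mul_inv_eq_iff_eq_mul] at hc1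
    exact hc1.symm
  obtain ⟨n₁, hn₁, hn₁'⟩ := (bot_or_exists_ne_one N).resolve_left hN
  have hFne : F ≠ ⊥ := fun e => hn₁' (mem_bot.1 (e ▸ hNF hn₁))
  have hFtop : F ≠ ⊤ := fun e => by
    refine hNH.false_of_subgroup hr (M := ⊥) (fun e' => ?_) fun g _ => hFe g (e ▸ mem_top g)
    exact hn₁' (mem_bot.1 (e' ▸ mem_top n₁))
  by_cases hP1 : ∀ g, g ∉ F → (∃ k, g ^ r ^ k = 1) → g ^ r = 1
  · exact ((POutHyp.false P ⟨hFne, hFtop, hFp, hr, hP1, hcent⟩ hNS hNH)).elim
  push Not at hP1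
  obtain ⟨g, -, ⟨kg, hgk⟩, hgr⟩ := hP1
  -- elements of the coset `F g`
  have hcoset : ∀ x : G, (∃ k, x ^ r ^ k = 1) → x ^ r ≠ 1 →
      ∀ v ∈ F, v ∉ P.comp x → (v * x) ^ r = 1 := by
    intro x hxk hxr v hv hvX
    obtain ⟨k, hk⟩ := hxk
    have hx1 : x ≠ 1 := fun e => hxr (by rw [e, one_pow])
    obtain ⟨n, hn, hn1, hxn⟩ := exists_fixed (q := r) hN (hFp.to_le hNF)
      (by rw [normalizer_eq_top_iff.2 (inferInstance : N.Normal)]; exact mem_top x) hk
    have hnX : n ∈ P.comp x := P.mem_of_commute hx1 hx1 (P.mem x) hxn fun ho => hxr (by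
      rw [← orderOf_eq_prime (hNe n hn) hn1, ho, pow_orderOf_eq_one])
    set X := P.comp x with hX
    set W := normalizer (X : Set G) with hW
    have hvW : v ∈ W := P.mem_normalizer_of_commute hx1 hn1 hnX (hFN v hv n hn)
    have hxW : x ∈ W := le_normalizer (P.mem x)
    haveI : (X.subgroupOf W).Normal := normal_subgroupOf_of_le_normalizer le_rfl
    refine P.pow_out hx1 (fun e => hvX (by simpa using mul_mem e (inv_mem (P.mem x)))) ?_
    have h : ((⟨v, hvW⟩ * ⟨x, hxW⟩ : ↥W) ^ r) ∈ X.subgroupOf W := by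
      rw [← QuotientGroup.eq_one_iff, QuotientGroup.mk_pow, QuotientGroup.mk_mul,
        (QuotientGroup.eq_one_iff (⟨x, hxW⟩ : ↥W)).2 (show x ∈ X from P.mem x), mul_one,
        ← QuotientGroup.mk_pow, QuotientGroup.eq_one_iff]
      show v ^ r ∈ X
      rw [hFe v hv]
      exact one_mem _
    exact h
  have hg1 : g ≠ 1 := fun e => hgr (by rw [e, one_pow])
  -- the prime is two
  have hr2 : r = 2 := by
    by_contra hne
    obtain ⟨n, hn, hnX⟩ := hout g hg1
    have hnn2 : n * n ∉ P.comp g := by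
      intro e
      refine hnX ?_
      obtain ⟨i, hi⟩ := exists_pow_eq_self_of_coprime (x := n) (n := 2) (by
        refine Nat.Coprime.coprime_dvd_right (orderOf_dvd_of_pow_eq_one (hNe n hn)) ?_
        exact (Nat.coprime_primes Nat.prime_two hr).2 (Ne.symm hne))
      rw [← hi, sq]
      exact pow_mem e i
    have hT : ∀ k : ℕ, ∀ a ∈ N, ∀ b ∈ N, (a * g) ^ k * (g ^ k)⁻¹ ∈ N ∧
        (a * b * g) ^ k * (g ^ k)⁻¹ = ((a * g) ^ k * (g ^ k)⁻¹) * ((b * g) ^ k * (g ^ k)⁻¹) := by
      intro k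
      induction k with
      | zero => intro a _ b _; simp
      | succ k ih =>
        intro a ha b hb
        have hrec : ∀ c : G, (c * g) ^ (k + 1) * (g ^ (k + 1))⁻¹ =
            (c * g) ^ k * (g ^ k)⁻¹ * (g ^ k * c * (g ^ k)⁻¹) := fun c => by
          rw [pow_succ, pow_succ]; group
        have hcN : ∀ c ∈ N, g ^ k * c * (g ^ k)⁻¹ ∈ N := fun c hc =>
          (inferInstance : N.Normal).conj_mem c hc _
        refine ⟨by rw [hrec]; exact mul_mem (ih a ha b hb).1 (hcN a ha), ?_⟩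
        rw [hrec, hrec, hrec, (ih a ha b hb).2]
        have e : g ^ k * (a * b) * (g ^ k)⁻¹ =
            (g ^ k * a * (g ^ k)⁻¹) * (g ^ k * b * (g ^ k)⁻¹) := by group
        rw [e]
        exact Commute.mul_mul_mul_comm (hNc _ (ih b hb a ha).1 _ (hcN a ha)) _ _
    have h1 := hcoset g ⟨kg, hgk⟩ hgr n (hNF hn) hnX
    have h2 := hcoset g ⟨kg, hgk⟩ hgr (n * n) (hNF (mul_mem hn hn)) hnn2
    have h3 := (hT r n hn n hn).2
    rw [h2, h1, one_mul] at h3
    exact hgr (inv_eq_one.1 (mul_eq_left.1 h3.symm))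
  subst hr2
  have hF2 : ∀ v ∈ F, v * v = 1 := fun v hv => by rw [← sq]; exact hFe v hv
  have hFinv : ∀ v ∈ F, v⁻¹ = v := fun v hv => (eq_inv_of_mul_eq_one_left (hF2 v hv)).symm
  have hFc : ∀ a ∈ F, ∀ b ∈ F, Commute a b := fun a ha b hb => by
    show a * b = b * a
    rw [← hFinv _ (mul_mem ha hb), mul_inv_rev, hFinv a ha, hFinv b hb]
  have hT0 : ∀ x : G, (∃ k, x ^ 2 ^ k = 1) → x ^ 2 ≠ 1 → Trans F x (x ^ 2) := by
    intro x hxk hx2
    have hx1 : x ≠ 1 := fun e => hx2 (by rw [e, one_pow])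
    have hmv : ∀ v ∈ F, v ∉ P.comp x → x * v * x⁻¹ * x ^ 2 = v := by
      intro v hv hvX
      calc x * v * x⁻¹ * x ^ 2 = v⁻¹ * (v * x) ^ 2 := by rw [sq, sq]; group
        _ = v := by rw [hcoset x hxk hx2 v hv hvX, mul_one, hFinv v hv]
    obtain ⟨v₀, hv₀N, hv₀X⟩ := hout x hx1
    have hv₀ := hNF hv₀N
    have hm : x ^ 2 ∈ F := by
      have e : x ^ 2 = (x * v₀ * x⁻¹)⁻¹ * v₀ := eq_inv_mul_of_mul_eq (hmv v₀ hv₀ hv₀X)
      rw [e]
      exact mul_mem (inv_mem (hFn.conj_mem v₀ hv₀ x)) hv₀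
    have hmv' : ∀ v ∈ F, v ∉ P.comp x → x * v * x⁻¹ = v * x ^ 2 := fun v hv hvX => by
      rw [← hFinv _ hm]
      exact eq_mul_inv_of_mul_eq (hmv v hv hvX)
    refine ⟨hm, hx2, fun v hv => ?_, v₀, hv₀, fun hc => ?_⟩
    · by_cases hvX : v ∈ P.comp x
      · left
        refine mul_inv_eq_iff_eq_mul.1 ?_
        have h : v * v₀ ∉ P.comp x := fun e => hv₀X (by simpa using mul_mem (inv_mem hvX) e)
        have e1 := hmv' _ (mul_mem hv hv₀) h
        have e2 := hmv' v₀ hv₀ hv₀X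
        have e3 : x * (v * v₀) * x⁻¹ = (x * v * x⁻¹) * (x * v₀ * x⁻¹) := by group
        rw [e3, e2, ← mul_assoc] at e1
        exact mul_right_cancel (mul_right_cancel e1)
      · exact Or.inr (hmv' v hv hvX)
    · have e := hmv' v₀ hv₀ hv₀X
      rw [hc.eq, mul_inv_cancel_right] at e
      exact hx2 (mul_eq_left.1 e.symm)
  have hT : ∀ x : G, (∃ k, x ^ 2 ^ k = 1) → x ∉ F → ∃ m, Trans F x m := by
    intro x hxk hxF
    by_cases hall : ∀ f ∈ F, (f * x) ^ 2 = 1
    · exfalso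
      refine hxF (mem_centralizer_iff.2 fun n hn => ?_)
      have h0 := hall 1 (one_mem _)
      rw [one_mul, sq] at h0
      have h := hall n (hNF hn)
      rw [sq] at h
      have hinv : x⁻¹ = x := (eq_inv_of_mul_eq_one_left h0).symm
      calc n * x = (n * x)⁻¹ := eq_inv_of_mul_eq_one_left h
        _ = x * n := by rw [mul_inv_rev, hinv, hFinv n (hNF hn)]
    · push Not at hall
      obtain ⟨f, hf, hfx⟩ := hall
      have hfk : ∃ k, (f * x) ^ 2 ^ k = 1 := by
        obtain ⟨k, hk⟩ := hxk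
        have hmem : (f * x) ^ 2 ^ k ∈ F := by
          rw [← QuotientGroup.eq_one_iff, QuotientGroup.mk_pow, QuotientGroup.mk_mul,
            (QuotientGroup.eq_one_iff f).2 hf, one_mul, ← QuotientGroup.mk_pow, hk, QuotientGroup.mk_one]
        exact ⟨k + 1, by rw [pow_succ, pow_mul]; exact hFe _ hmem⟩
      have T := hT0 _ hfk hfx
      have hact : ∀ v ∈ F, f * x * v * (f * x)⁻¹ = x * v * x⁻¹ := fun v hv => by
        calc f * x * v * (f * x)⁻¹ = f * (x * v * x⁻¹) * f⁻¹ := by group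
          _ = x * v * x⁻¹ := by rw [(hFc f hf _ (hFn.conj_mem v hv x)).eq, mul_inv_cancel_right]
      have hiff : ∀ v ∈ F, Commute (f * x) v ↔ Commute x v := fun v hv => by
        constructor <;> intro h <;> refine mul_inv_eq_iff_eq_mul.1 ?_
        · rw [← hact v hv, h.eq, mul_inv_cancel_right]
        · rw [hact v hv, h.eq, mul_inv_cancel_right]
      refine ⟨(f * x) ^ 2, T.mem, T.ne, fun v hv => ?_, ?_⟩
      · rcases T.cases v hv with h | h
        · exact Or.inl ((hiff v hv).1 h)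
        · exact Or.inr (hact v hv ▸ h)
      · obtain ⟨v, hv, h⟩ := T.moved
        exact ⟨v, hv, fun e => h ((hiff v hv).2 e)⟩
  -- an element of odd prime order
  obtain ⟨s, y, hs, hs2, hyo⟩ : ∃ (s : ℕ) (y : G), s.Prime ∧ s ≠ 2 ∧ orderOf y = s := by
    by_contra hcon
    push Not at hcon
    have hG2 : IsPGroup 2 G := fun x => exists_pow_eq_one (g := x) fun s hs hd => by
      by_contra hne
      exact hcon s _ hs hne (exists_pow_order hs hd).1
    obtain ⟨z, hzN, hz1⟩ := (bot_or_exists_ne_one _).resolve_left (PGroups.inf_center_ne_bot hG2 N hN)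
    obtain ⟨hzN, hzc⟩ := mem_inf.1 hzN
    have hgz : Commute g z := mem_center_iff.1 hzc g
    have hzX : z ∈ P.comp g := P.mem_of_commute hg1 hg1 (P.mem g) hgz fun ho => hgr (by
      rw [← orderOf_eq_prime (hNe z hzN) hz1, ho, pow_orderOf_eq_one])
    exact hnn g hg1 (normalizer_eq_top_iff.1 (top_le_iff.1 fun x _ =>
      P.mem_normalizer_of_commute hg1 hz1 hzX (mem_center_iff.1 hzc x)))
  have hodd : ∀ z ∈ F, z ≠ 1 → ∀ x : G, ∀ p : ℕ, p.Prime → orderOf x = p → p ≠ 2 → ¬ Commute x z := by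
    intro z hz hz1 x p hp hxp hp2 hc
    obtain ⟨k, hk⟩ := hcent z hz hz1 x hc
    exact hp2 (eq_of_prime_dvd_of_pow Nat.prime_two hk hp hxp.symm.dvd)
  have T := hT0 g ⟨kg, hgk⟩ hgr
  set m := g ^ 2 with hmdef
  set g' := y * g * y⁻¹ with hg'
  set m' := y * m * y⁻¹ with hm'
  have hm'ne : m' ≠ m := fun e => hodd m T.mem T.ne y s hs hyo hs2 (mul_inv_eq_iff_eq_mul.1 e)
  have hcj : ∀ v : G, Commute g' (y * v * y⁻¹) ↔ Commute g v := fun v =>
    ⟨fun h => by simpa [hg', mul_assoc] using h.map (MulAut.conj y⁻¹).toMonoidHom,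
      fun h => by simpa [hg', mul_assoc] using h.map (MulAut.conj y).toMonoidHom⟩
  have T' : Trans F g' m' := by
    refine ⟨hFn.conj_mem m T.mem y, fun e => T.ne (conj_eq_one_iff.1 e), fun v hv => ?_, ?_⟩
    · have hv' : y⁻¹ * v * y ∈ F := by simpa using hFn.conj_mem v hv y⁻¹
      rcases T.cases _ hv' with h | h
      · exact Or.inl (by simpa [mul_assoc] using (hcj _).2 h)
      · right
        have := congrArg (fun a => y * a * y⁻¹) h
        simpa [hg', hm', mul_assoc] using this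
    · obtain ⟨v, hv, h⟩ := T.moved
      exact ⟨_, hFn.conj_mem v hv y, fun e => h ((hcj v).1 e)⟩
  -- the fixed hyperplanes differ
  have hdiff : ∃ v ∈ F, Commute g v ∧ ¬ Commute g' v := by
    by_contra hcon
    push Not at hcon
    let A : Set G := {v | v ∈ F ∧ Commute g v}
    have hAeq : (fun v => y * v * y⁻¹) '' A = A := by
      refine (Set.eq_of_subset_of_ncard_le (fun v hv => ?_) (Set.ncard_image_of_injective _
        (fun a b e => mul_left_cancel (mul_right_cancel e))).le (Set.toFinite _)).symm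
      refine ⟨y⁻¹ * v * y, ⟨by simpa using hFn.conj_mem v hv.1 y⁻¹, (hcj _).1 ?_⟩, by group⟩
      simpa [mul_assoc] using hcon v hv.1 hv.2
    haveI := Fact.mk hs
    let D : Set G := {v | v ∈ F ∧ ¬ Commute g v}
    have hDy : ∀ i : ℤ, ∀ v ∈ D, y ^ i * v * (y ^ i)⁻¹ ∈ D := by
      have hstep : ∀ v, v ∈ F → (Commute g (y * v * y⁻¹) ↔ Commute g v) := fun v hv => by
        have h1 : y * v * y⁻¹ ∈ (fun v => y * v * y⁻¹) '' A ↔ v ∈ A := by
          rw [Function.Injective.mem_set_image (fun a b e => mul_left_cancel (mul_right_cancel e))]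
        rw [hAeq] at h1
        exact ⟨fun h => (h1.1 ⟨hFn.conj_mem v hv y, h⟩).2, fun h => (h1.2 ⟨hv, h⟩).2⟩
      intro i
      induction i using Int.induction_on with
      | zero => simp
      | succ i ih =>
        intro v hv
        have h := ih v hv
        have e : y ^ ((i : ℤ) + 1) * v * (y ^ ((i : ℤ) + 1))⁻¹ =
            y * (y ^ (i : ℤ) * v * (y ^ (i : ℤ))⁻¹) * y⁻¹ := by
          rw [add_comm, zpow_add, zpow_one]; group
        rw [e]
        exact ⟨hFn.conj_mem _ h.1 y, fun c => h.2 ((hstep _ h.1).1 c)⟩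
      | pred i ih =>
        intro v hv
        have h := ih v hv
        have e : y * (y ^ (-(i : ℤ) - 1) * v * (y ^ (-(i : ℤ) - 1))⁻¹) * y⁻¹ =
            y ^ (-(i : ℤ)) * v * (y ^ (-(i : ℤ)))⁻¹ := by
          rw [zpow_sub, zpow_one]; group
        have hw : y ^ (-(i : ℤ) - 1) * v * (y ^ (-(i : ℤ) - 1))⁻¹ ∈ F := hFn.conj_mem v hv.1 _
        exact ⟨hw, fun c => h.2 (e ▸ (hstep _ hw).2 c)⟩
    letI : MulAction ↥(zpowers y) ↥D :=
      { smul := fun c v => ⟨(c : G) * v * (c : G)⁻¹, by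
          obtain ⟨i, hi⟩ := mem_zpowers_iff.1 c.2
          rw [← hi]
          exact hDy i v v.2⟩
        one_smul := fun v => Subtype.ext (by show (1 : G) * v * (1 : G)⁻¹ = v; simp)
        mul_smul := fun a b v => Subtype.ext (by
          show ((a : G) * b) * v * ((a : G) * b)⁻¹ = (a : G) * ((b : G) * v * (b : G)⁻¹) * (a : G)⁻¹
          group) }
    have hyp : IsPGroup s ↥(zpowers y) := IsPGroup.of_card (n := 1) (by rw [Nat.card_zpowers, hyo, pow_one])
    obtain ⟨v₀, hv₀, hv₀g⟩ := T.moved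
    have hDcard : Nat.card ↥D = Nat.card ↥(F ⊓ centralizer ({g} : Set G) : Subgroup G) := by
      refine Nat.card_eq_of_bijective (fun v => ⟨v.1 * v₀, mem_inf.2 ⟨mul_mem v.2.1 hv₀,
        mem_centralizer_singleton_iff.2 (T.prod_fixed hFc hF2 v.2.1 hv₀ v.2.2 hv₀g).symm.eq⟩⟩)
        ⟨fun a b e => Subtype.ext (mul_right_cancel (congrArg Subtype.val e)), fun w => ?_⟩
      obtain ⟨hwF, hwg⟩ := mem_inf.1 w.2
      refine ⟨⟨(w : G) * v₀, mul_mem hwF hv₀, fun c => hv₀g ?_⟩, Subtype.ext ?_⟩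
      · have hw' : Commute g (w : G) := (mem_centralizer_singleton_iff.1 hwg).symm
        simpa using hw'.inv_right.mul_right c
      · show (w : G) * v₀ * v₀ = w
        rw [mul_assoc, hF2 v₀ hv₀, mul_one]
    obtain ⟨j, hj⟩ := (hFp.to_le (inf_le_left : F ⊓ centralizer ({g} : Set G) ≤ F)).exists_card_eq
    have hnd : ¬ s ∣ Nat.card ↥D := fun hd => by
      rw [hDcard, hj] at hd
      exact hs2 ((Nat.prime_dvd_prime_iff_eq hs Nat.prime_two).1 (hs.dvd_of_dvd_pow hd))
    obtain ⟨v, hv⟩ := hyp.nonempty_fixed_point_of_prime_not_dvd_card ↥D hnd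
    have hfix : y * (v : G) * y⁻¹ = v := congrArg Subtype.val (hv ⟨y, mem_zpowers y⟩)
    exact hodd v v.2.1 (fun e => v.2.2 (e ▸ Commute.one_right g)) y s hs hyo hs2
      (mul_inv_eq_iff_eq_mul.1 hfix)
  -- the product of the two transvections
  set w := g * g' with hw
  have hginv : ∀ v ∈ F, g⁻¹ * v * g = g * v * g⁻¹ := by
    intro v hv
    have h : g ^ 2 * v = v * g ^ 2 := hFc _ T.mem v hv
    calc g⁻¹ * v * g = g * ((g ^ 2)⁻¹ * v * g ^ 2) * g⁻¹ := by rw [sq]; group
      _ = g * v * g⁻¹ := by rw [mul_assoc (g ^ 2)⁻¹, ← h, inv_mul_cancel_left]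
  have hwfix : ∀ v ∈ F, Commute w v → Commute g v ∧ Commute g' v := by
    intro v hv hc
    have he : g' * v * g'⁻¹ = g * v * g⁻¹ := by
      rw [← hginv v hv]
      have : g * g' * v * (g * g')⁻¹ = v := mul_inv_eq_iff_eq_mul.2 hc.eq
      calc g' * v * g'⁻¹ = g⁻¹ * (g * g' * v * (g * g')⁻¹) * g := by group
        _ = g⁻¹ * v * g := by rw [this]
    rcases T.cases v hv with h | h <;> rcases T'.cases v hv with h' | h'
    · exact ⟨h, h'⟩
    · rw [h', h.eq, mul_inv_cancel_right] at he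
      exact absurd (mul_eq_left.1 he) T'.ne
    · rw [h, h'.eq, mul_inv_cancel_right] at he
      exact absurd (mul_eq_left.1 he.symm) T.ne
    · rw [h, h'] at he
      exact absurd (mul_left_cancel he) hm'ne
  obtain ⟨a, haF, hag, hag'⟩ := hdiff
  have hnotp : ¬ ∃ k, w ^ 2 ^ k = 1 := by
    intro hwk
    have hwF : w ∉ F := fun hwF => hag' (hwfix a haF (hFc w hwF a haF)).2
    obtain ⟨μ, Tw⟩ := hT w hwk hwF
    obtain ⟨b, hbF, hbg⟩ := T.moved
    have h1 := Tw.prod_fixed hFc hF2 haF hbF (fun c => hag' (hwfix a haF c).2)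
      (fun c => hbg (hwfix b hbF c).1)
    have h2 := (hwfix _ (mul_mem haF hbF) h1).1
    exact hbg (by simpa using hag.inv_right.mul_right h2)
  obtain ⟨p, hp, hpd, hp2⟩ : ∃ p, p.Prime ∧ p ∣ orderOf w ∧ p ≠ 2 := by
    by_contra hcon
    push Not at hcon
    exact hnotp (exists_pow_eq_one hcon)
  obtain ⟨hxo, hx1⟩ := exists_pow_order hp hpd
  set x := w ^ (orderOf w / p)
  have hfixed : ∀ v ∈ F, Commute g v → Commute g' v → v = 1 := by
    intro v hv h h'
    by_contra hv1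
    exact hodd v hv hv1 x p hp hxo hp2 ((h.mul_left h').pow_left _)
  have hgm : Commute g m := Commute.self_pow g 2
  have hsmall : ∀ v ∈ F, Commute g v → v = 1 ∨ v = m := by
    intro v hv h
    by_cases hv1 : v = 1
    · exact Or.inl hv1
    right
    have h1 : ¬ Commute g' v := fun c => hv1 (hfixed v hv h c)
    have h2 : ¬ Commute g' m := fun c => T.ne (hfixed m T.mem hgm c)
    have h3 := T'.prod_fixed hFc hF2 hv T.mem h1 h2
    have h4 := hfixed _ (mul_mem hv T.mem) (h.mul_right hgm) h3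
    rw [eq_inv_of_mul_eq_one_left h4, hFinv m T.mem]
  obtain ⟨v₀, hv₀, hv₀g⟩ := T.moved
  have hFelts : ∀ v ∈ F, v = 1 ∨ v = m ∨ v = v₀ ∨ v = m * v₀ := by
    intro v hv
    by_cases h : Commute g v
    · rcases hsmall v hv h with e | e
      · exact Or.inl e
      · exact Or.inr (Or.inl e)
    · have h1 := T.prod_fixed hFc hF2 hv hv₀ h hv₀g
      rcases hsmall _ (mul_mem hv hv₀) h1 with e | e
      · exact Or.inr (Or.inr (Or.inl (by rw [eq_inv_of_mul_eq_one_left e, hFinv v₀ hv₀])))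
      · exact Or.inr (Or.inr (Or.inr (by rw [← e, mul_assoc, hF2 v₀ hv₀, mul_one])))
  have hv₀1 : v₀ ≠ 1 := fun e => hv₀g (e ▸ Commute.one_right g)
  have hmv₀ : m ≠ v₀ := fun e => hv₀g (e ▸ hgm)
  have hprod1 : m * v₀ ≠ 1 := fun e => hmv₀ (by rw [eq_inv_of_mul_eq_one_left e, hFinv v₀ hv₀])
  have hFset : (F : Set G) = ({1, m, v₀, m * v₀} : Set G) := by
    ext v
    simp only [SetLike.mem_coe, Set.mem_insert_iff, Set.mem_singleton_iff]
    refine ⟨hFelts v, ?_⟩
    rintro (rfl | rfl | rfl | rfl)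
    exacts [one_mem _, T.mem, hv₀, mul_mem T.mem hv₀]
  have hF4 : Nat.card ↥F = 4 := by
    have : Nat.card ↥F = (F : Set G).ncard := rfl
    rw [this, hFset, Set.ncard_insert_of_notMem (by simp [Ne.symm T.ne, Ne.symm hv₀1, Ne.symm hprod1]),
      Set.ncard_insert_of_notMem (by simp [hmv₀, hv₀1]),
      Set.ncard_insert_of_notMem (by simp [T.ne]), Set.ncard_singleton]
  -- the group has order twenty-four
  have hFcent : ∀ x : G, (∀ v ∈ F, Commute x v) → x ∈ F := fun x hx =>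
    mem_centralizer_iff.2 fun n hn => (hx n (hNF hn)).symm.eq
  let Ω := {v : ↥F // v ≠ 1}
  haveI : Fintype ↥F := Fintype.ofFinite _
  have hΩ : Fintype.card Ω = 3 := by
    show Fintype.card {v : ↥F // v ≠ 1} = 3
    rw [Fintype.card_subtype_compl, Fintype.card_subtype_eq, ← Nat.card_eq_fintype_card, hF4]
  let φ : G →* Equiv.Perm Ω :=
    { toFun := fun c =>
        { toFun := fun v => ⟨⟨c * v.1 * c⁻¹, hFn.conj_mem _ v.1.2 c⟩, fun e => v.2 (Subtype.ext
            (conj_eq_one_iff.1 (congrArg Subtype.val e)))⟩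
          invFun := fun v => ⟨⟨c⁻¹ * v.1 * c, by simpa using hFn.conj_mem _ v.1.2 c⁻¹⟩, fun e =>
            v.2 (Subtype.ext (conj_eq_one_iff (a := c⁻¹).1 (by simpa using congrArg Subtype.val e)))⟩
          left_inv := fun v => Subtype.ext (Subtype.ext (by simp [mul_assoc]))
          right_inv := fun v => Subtype.ext (Subtype.ext (by simp [mul_assoc])) }
      map_one' := Equiv.ext fun v => Subtype.ext (Subtype.ext (by simp))
      map_mul' := fun c d => Equiv.ext fun v => Subtype.ext (Subtype.ext (by simp [mul_assoc])) }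
  have hker : φ.ker = F := by
    refine le_antisymm (fun c hc => hFcent c fun v hv => ?_) fun c hc => ?_
    · rcases eq_or_ne v 1 with rfl | hv1
      · exact Commute.one_right c
      have h := congrArg Subtype.val (congrArg Subtype.val
        (Equiv.ext_iff.1 hc ⟨⟨v, hv⟩, fun e => hv1 (congrArg Subtype.val e)⟩))
      exact mul_inv_eq_iff_eq_mul.1 h
    · refine Equiv.ext fun v => Subtype.ext (Subtype.ext ?_)
      show c * (v.1 : G) * c⁻¹ = v.1
      rw [(hFc c hc _ v.1.2).eq, mul_inv_cancel_right]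
  have hidx : F.index ∣ 6 := by
    rw [← hker, index_ker]
    refine (card_subgroup_dvd_card φ.range).trans ?_
    rw [Nat.card_eq_fintype_card, Fintype.card_perm, hΩ]
    decide
  have hcardG : Nat.card G = 4 * F.index := by rw [← hF4, card_mul_index]
  have h3 : p = 3 ∧ 3 ∣ F.index := by
    have hd : p ∣ 4 * F.index := hcardG ▸ hxo ▸ orderOf_dvd_natCard x
    have hd' : p ∣ F.index := (Nat.Coprime.dvd_of_dvd_mul_left
      (((Nat.coprime_primes hp Nat.prime_two).2 hp2).pow_right 2) hd)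
    have hd6 := hd'.trans hidx
    have : p ≤ 6 := Nat.le_of_dvd (by norm_num) hd6
    have := hp.two_le
    interval_cases p <;> first | exact absurd rfl hp2 | exact ⟨rfl, hd'⟩ | omega | norm_num at hp
  obtain ⟨rfl, h3d⟩ := h3
  have h2d : 2 ∣ F.index := by
    rw [index_eq_card]
    have hgF : g ∉ F := fun e => hgr (hFe g e)
    have ho : orderOf (g : G ⧸ F) = 2 := orderOf_eq_prime
      (by rw [← QuotientGroup.mk_pow, QuotientGroup.eq_one_iff]; exact T.mem)
      (fun e => hgF ((QuotientGroup.eq_one_iff g).1 e))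
    exact ho ▸ orderOf_dvd_natCard _
  have hi6 : F.index = 6 := Nat.dvd_antisymm hidx
    ((Nat.Coprime.mul_dvd_of_dvd_of_dvd (by norm_num) h2d h3d : 2 * 3 ∣ F.index))
  -- the action on the Sylow 3-subgroups
  haveI : Fact (Nat.Prime 3) := ⟨Nat.prime_three⟩
  have h24 : Nat.card G = 24 := by rw [hcardG, hi6]
  have hf3 : (Nat.card G).factorization 3 = 1 := by
    have h24' : (24 : ℕ) = 2 ^ 3 * 3 ^ 1 := by norm_num
    rw [h24, h24', Nat.factorization_mul (by norm_num) (by norm_num), Nat.Prime.factorization_pow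
      Nat.prime_two, Nat.Prime.factorization_pow Nat.prime_three]
    simp
  have hQF : ∀ Q : Sylow 3 G, ∀ v ∈ F, v ∈ normalizer ((Q : Subgroup G) : Set G) → v = 1 := by
    intro Q v hv hvN
    by_contra hv1
    have hQc : Nat.card ↥(Q : Subgroup G) = 3 := by rw [Q.card_eq_multiplicity, hf3, pow_one]
    obtain ⟨c, hc, hc1⟩ := (bot_or_exists_ne_one (Q : Subgroup G)).resolve_left fun e => by
      rw [e, card_bot] at hQc; omega
    have hco : orderOf c = 3 := orderOf_eq_prime (by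
      have := orderOf_dvd_iff_pow_eq_one.1 (hQc ▸ Subgroup.orderOf_dvd_natCard _ hc)
      exact this) hc1
    refine hodd v hv hv1 c 3 Nat.prime_three hco (by norm_num) ?_
    have h1 : c * v * c⁻¹ * v⁻¹ ∈ (Q : Subgroup G) := by
      have := mul_mem hc ((mem_normalizer_iff.1 hvN c⁻¹).1 (inv_mem hc))
      simpa [mul_assoc] using this
    have h2 : c * v * c⁻¹ * v⁻¹ ∈ F := mul_mem (hFn.conj_mem v hv c) (inv_mem hv)
    have h3 : c * v * c⁻¹ * v⁻¹ = 1 := orderOf_eq_one_iff.1 (Nat.eq_one_of_dvd_coprimes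
      (show Nat.Coprime 3 2 by norm_num) (hQc ▸ Subgroup.orderOf_dvd_natCard _ h1)
      (orderOf_dvd_of_pow_eq_one (hFe _ h2)))
    rw [mul_inv_eq_one, mul_inv_eq_iff_eq_mul] at h3
    exact h3
  haveI : Fintype (Sylow 3 G) := Fintype.ofFinite _
  have hn3 : Nat.card (Sylow 3 G) = 4 := by
    obtain ⟨Q⟩ : Nonempty (Sylow 3 G) := inferInstance
    have hd : Nat.card (Sylow 3 G) ∣ 8 := by
      have hQc : Nat.card ↥(Q : Subgroup G) = 3 := by rw [Q.card_eq_multiplicity, hf3, pow_one]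
      have hi : (Q : Subgroup G).index = 8 := by
        have := card_mul_index (Q : Subgroup G)
        rw [hQc, h24] at this
        omega
      exact hi ▸ Q.card_dvd_index
    have hm1 := card_sylow_modEq_one 3 G
    have hne1 : Nat.card (Sylow 3 G) ≠ 1 := fun e => by
      haveI : Subsingleton (Sylow 3 G) := Finite.card_le_one_iff_subsingleton.1 e.le
      exact T.ne (hQF Q m T.mem (by
        rw [normalizer_eq_top_iff.2 (Q.normal_of_subsingleton)]; exact mem_top m))
    have : Nat.card (Sylow 3 G) ≤ 8 := Nat.le_of_dvd (by norm_num) hd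
    have hpos : 0 < Nat.card (Sylow 3 G) := Nat.card_pos
    unfold Nat.ModEq at hm1
    generalize Nat.card (Sylow 3 G) = n at *
    interval_cases n <;> omega
  have hinj : Function.Injective (MulAction.toPermHom G (Sylow 3 G)) := by
    rw [← MonoidHom.ker_eq_bot_iff, eq_bot_iff]
    intro c hc
    set K := (MulAction.toPermHom G (Sylow 3 G)).ker
    obtain ⟨Q⟩ : Nonempty (Sylow 3 G) := inferInstance
    have hKN : ∀ d ∈ K, d ∈ normalizer ((Q : Subgroup G) : Set G) := fun d hd =>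
      Sylow.smul_eq_iff_mem_normalizer.1 (Equiv.ext_iff.1 hd Q)
    have hKF : ∀ d ∈ K, d ∈ F → d = 1 := fun d hd hdF => hQF Q d hdF (hKN d hd)
    refine mem_bot.2 (hKF c hc (hFcent c fun v hv => ?_))
    have h1 : c * v * c⁻¹ * v⁻¹ ∈ K := by
      have := mul_mem hc ((inferInstance : K.Normal).conj_mem _ (inv_mem hc) v)
      simpa [mul_assoc] using this
    have h3 := hKF _ h1 (mul_mem (hFn.conj_mem v hv c) (inv_mem hv))
    rw [mul_inv_eq_one, mul_inv_eq_iff_eq_mul] at h3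
    exact h3
  have hcardS : Fintype.card (Sylow 3 G) = 4 := by rw [← Nat.card_eq_fintype_card, hn3]
  let e4 : Sylow 3 G ≃ Fin 4 := Fintype.equivFinOfCardEq hcardS
  refine ⟨(MulEquiv.ofBijective ((Equiv.permCongrHom e4).toMonoidHom.comp
    (MulAction.toPermHom G (Sylow 3 G))) ((Nat.bijective_iff_injective_and_card _).2
      ⟨(Equiv.permCongrHom e4).injective.comp hinj, ?_⟩))⟩
  rw [h24, Nat.card_perm, Nat.card_eq_fintype_card, Fintype.card_fin]
  decide

end Part

end Cfsg.Agent.H84.Partition
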