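import Cfsg.Agent.H84.Partition.Lemmas
import Cfsg.Agent.H35.BergerGroups
import Cfsg.Agent.Cores.PCore

/-!
# Groups with a partition: a normal `r`-subgroup with elements of order `r` outside
-/

namespace Cfsg.Agent.H84.Partition

open Subgroup

universe u

variable {G : Type u} [Group G] [Finite G] (P : Part G)

/-- A normal `r`-subgroup with `r`-elements outside of order `r` and only `r`-elements centralising
its nontrivial elements. -/
structure POutHyp (F : Subgroup G) (r : ℕ) : Prop where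
  hF : F ≠ ⊥
  htop : F ≠ ⊤
  hp : IsPGroup r ↥F
  hr : r.Prime
  out : ∀ g, g ∉ F → (∃ k, g ^ r ^ k = 1) → g ^ r = 1
  cent : ∀ z ∈ F, z ≠ 1 → ∀ g, Commute g z → ∃ k, g ^ r ^ k = 1

variable {F : Subgroup G} [F.Normal] {r : ℕ}

theorem POutHyp.not_mem {y : G} (H : POutHyp F r) {s : ℕ} (hs : s.Prime) (hy : orderOf y = s)
    (hsr : s ≠ r) : y ∉ F := by
  intro hyF
  obtain ⟨k, hk⟩ := H.hp ⟨y, hyF⟩
  exact hsr (eq_of_prime_dvd_of_pow H.hr (congrArg Subtype.val hk) hs hy.symm.dvd)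

theorem POutHyp.comp_inter (H : POutHyp F r) (hNS : P.NoSelfNormalizing) {y : G} {s : ℕ}
    (hs : s.Prime) (hy : orderOf y = s) (hsr : s ≠ r) {w : G} (hwF : w ∈ F)
    (hwN : w ∈ normalizer (P.comp y : Set G)) : w = 1 := by
  have hy1 := ne_one_of_orderOf_prime hs hy
  have hnil := hNS.isNilpotent hy1
  have hinter : ∀ z, z ∈ F → z ∈ P.comp y → z = 1 := by
    intro z hzF hzY
    by_contra hz1
    obtain ⟨k, hk⟩ := H.hp ⟨z, hzF⟩
    have hk' : z ^ r ^ k = 1 := congrArg Subtype.val hk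
    have hco : (orderOf z).Coprime (orderOf y) := by
      rw [hy]
      refine Nat.Coprime.coprime_dvd_left (orderOf_dvd_of_pow_eq_one hk') ?_
      exact ((Nat.coprime_primes H.hr hs).2 (Ne.symm hsr)).pow_left k
    have hc : Commute y z :=
      (H41.commute_of_coprime_of_isNilpotent hnil hzY (P.mem y) hco).symm
    obtain ⟨m, hm⟩ := H.cent z hzF hz1 y hc
    exact hsr (eq_of_prime_dvd_of_pow H.hr hm hs hy.symm.dvd)
  by_contra hw1
  have h1 : w * y * w⁻¹ * y⁻¹ ∈ P.comp y :=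
    mul_mem ((mem_normalizer_iff.1 hwN y).1 (P.mem y)) (inv_mem (P.mem y))
  have h2 : w * y * w⁻¹ * y⁻¹ ∈ F := by
    have h := mul_mem hwF ((inferInstance : F.Normal).conj_mem _ (inv_mem hwF) y)
    simpa [mul_assoc] using h
  have hc : Commute y w := by
    have h := hinter _ h2 h1
    rw [mul_inv_eq_one, mul_inv_eq_iff_eq_mul] at h
    exact h.symm
  obtain ⟨m, hm⟩ := H.cent w hwF hw1 y hc
  exact hsr (eq_of_prime_dvd_of_pow H.hr hm hs hy.symm.dvd)

/-- An element of prime order `s ≠ r` generates the subgroup of its centraliser of exponent `s`. -/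
theorem POutHyp.gen_mem (H : POutHyp F r) {y c : G} {s : ℕ}
    (hs : s.Prime) (hy : orderOf y = s) (hsr : s ≠ r) (hc : orderOf c = s) (hcy : Commute y c) :
    c ∈ zpowers y := by
  by_contra hne
  haveI : Fact s.Prime := ⟨hs⟩
  haveI := Fact.mk H.hr
  obtain ⟨k, hk0, hk⟩ : ∃ k, k > 0 ∧ Nat.card ↥F = r ^ k := by
    haveI : Nontrivial ↥F := (nontrivial_iff_ne_bot _).2 H.hF
    exact H.hp.nontrivial_iff_card.1 inferInstance
  obtain ⟨Z, hZ, hZc, hZF, -, -, hZN⟩ :=
    exists_central_prime (X := F) (H.hp.isNilpotent) H.hr (hk ▸ dvd_pow_self r hk0.ne')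
  haveI := hZc
  have hnorm : ∀ x : G, x ∈ normalizer (Z : Set G) := fun x => hZN x (by
    rw [normalizer_eq_top_iff.2 (inferInstance : F.Normal)]; exact mem_top x)
  refine false_of_fpf_square hZ hs hy hc hcy hne (hnorm y) (hnorm c) fun w hw1 hw z hz hwz => ?_
  by_contra hz1
  have hws : orderOf w = s := by
    obtain ⟨i, j, rfl⟩ := mem_pairSub hcy hw
    refine orderOf_eq_prime ?_ hw1
    rw [(hcy.zpow_zpow i j).mul_pow, ← zpow_natCast, ← zpow_natCast, zpow_comm y,
      zpow_comm c, zpow_natCast, zpow_natCast]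
    nth_rw 1 [← hy]
    rw [pow_orderOf_eq_one, ← hc, pow_orderOf_eq_one, one_zpow, one_zpow, mul_one]
  obtain ⟨m, hm⟩ := H.cent z (hZF hz) hz1 w hwz
  exact hsr (eq_of_prime_dvd_of_pow H.hr hm hs hws.symm.dvd)

theorem POutHyp.centralizer_le (H : POutHyp F r) {y c : G} {s : ℕ}
    (hs : s.Prime) (hy : orderOf y = s) (hsr : s ≠ r) (hc : Commute y c) : c ∈ P.comp y := by
  by_cases ho : orderOf c = s
  · exact zpowers_le.2 (P.mem y) (H.gen_mem hs hy hsr ho hc)
  · exact P.mem_of_commute (ne_one_of_orderOf_prime hs hy) (ne_one_of_orderOf_prime hs hy) (P.mem y)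
      hc (by rw [hy]; exact ho)

theorem POutHyp.conj_mem_zpowers (H : POutHyp F r) (hNS : P.NoSelfNormalizing) {y g : G}
    {s : ℕ} (hs : s.Prime) (hy : orderOf y = s) (hsr : s ≠ r)
    (hg : g ∈ normalizer (P.comp y : Set G)) : g * y * g⁻¹ ∈ zpowers y := by
  have hy1 := ne_one_of_orderOf_prime hs hy
  obtain ⟨Z, hZ, hZc, hZY, hZo, hZX, hZN⟩ := exists_central_prime (hNS.isNilpotent hy1) hs
    (hy ▸ Subgroup.orderOf_dvd_natCard _ (P.mem y))
  obtain ⟨c, hcZ, hc1⟩ := (bot_or_exists_ne_one Z).resolve_left hZ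
  have hyc : Commute y c := hZX c hcZ y (P.mem y)
  have hcy := H.gen_mem hs hy hsr (hZo c hcZ hc1) hyc
  have hyZ : y ∈ Z := zpowers_le.2 hcZ
    (OddOrder.BG16.mem_zpowers_of_prime (hy.symm ▸ hs) hcy hc1)
  have hgy : g * y * g⁻¹ ∈ Z := (mem_normalizer_iff.1 (hZN g hg) y).1 hyZ
  exact H.gen_mem hs hy hsr (by rw [← hy]; exact (MulEquiv.orderOf_eq (MulAut.conj g) y))
    (hZX _ hgy y (P.mem y))

theorem POutHyp.normalizer_le {y g : G} {s : ℕ} (hs : s.Prime) (hy : orderOf y = s)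
    (hg : g * y * g⁻¹ ∈ zpowers y) : g ∈ normalizer (P.comp y : Set G) :=
  P.mem_normalizer_of_conj (ne_one_of_orderOf_prime hs hy) (ne_one_of_orderOf_prime hs hy) (P.mem y)
    (zpowers_le.2 (P.mem y) hg)

/-- Elements of prime order normalising `comp y` and outside it have order `r`, and `s` is odd. -/
theorem POutHyp.out_order (H : POutHyp F r) (hNS : P.NoSelfNormalizing) {y h : G} {s q : ℕ}
    (hs : s.Prime) (hy : orderOf y = s) (hsr : s ≠ r) (hq : q.Prime) (hh : orderOf h = q)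
    (hhN : h ∈ normalizer (P.comp y : Set G)) (hhY : h ∉ P.comp y) : q = r ∧ ¬ Commute y h ∧ s ≠ 2 := by
  have hnc : ¬ Commute y h := fun hc => hhY (H.centralizer_le P hs hy hsr hc)
  refine ⟨?_, hnc, fun h2 => hnc ?_⟩
  · by_contra hqr
    haveI := Fact.mk H.hr
    obtain ⟨k, hk0, hk⟩ : ∃ k, k > 0 ∧ Nat.card ↥F = r ^ k := by
      haveI : Nontrivial ↥F := (nontrivial_iff_ne_bot _).2 H.hF
      exact H.hp.nontrivial_iff_card.1 inferInstance
    obtain ⟨Z, hZ, hZc, hZF, -, -, hZN⟩ :=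
      exists_central_prime (X := F) (H.hp.isNilpotent) H.hr (hk ▸ dvd_pow_self r hk0.ne')
    haveI := hZc
    have hnorm : ∀ x : G, x ∈ normalizer (Z : Set G) := fun x => hZN x (by
      rw [normalizer_eq_top_iff.2 (inferInstance : F.Normal)]; exact mem_top x)
    have hfix : ∀ w : G, ∀ p : ℕ, p.Prime → orderOf w = p → p ≠ r → ∀ v ∈ Z, w * v = v * w → v = 1 := by
      intro w p hp hw hpr v hv hc
      by_contra hv1
      obtain ⟨m, hm⟩ := H.cent v (hZF hv) hv1 w hc
      exact hpr (eq_of_prime_dvd_of_pow H.hr hm hp hw.symm.dvd)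
    exact hZ (OddOrder.BG16.eq_bot_of_fpf_metacyclic (hnorm y) (hnorm h) (hy.symm ▸ hs) (hh.symm ▸ hq)
      (H.conj_mem_zpowers P hNS hs hy hsr hhN) hnc (hfix y s hs hy hsr) (hfix h q hq hh hqr))
  · subst h2
    obtain ⟨i, hi⟩ := mem_zpowers_iff.1 (H.conj_mem_zpowers P hNS hs hy hsr hhN)
    have hy2 : y * y = 1 := by rw [← sq, ← hy]; exact pow_orderOf_eq_one y
    have : h * y * h⁻¹ = y := by
      rcases Int.even_or_odd i with ⟨j, rfl⟩ | ⟨j, rfl⟩
      · exfalso
        rw [← two_mul, zpow_mul, zpow_two, hy2, one_zpow] at hi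
        exact ne_one_of_orderOf_prime hs hy (conj_eq_one_iff.1 hi.symm)
      · rw [← hi, zpow_add, zpow_one, zpow_mul, zpow_two, hy2, one_zpow, one_mul]
    exact (mul_inv_eq_iff_eq_mul.1 this).symm

/-- No such subgroup exists. -/
theorem POutHyp.false (H : POutHyp F r) (hNS : P.NoSelfNormalizing) (hNH : NoHughes G) : False := by
  classical
  haveI := Fact.mk H.hr
  by_cases hall : ∀ g, g ∉ F → ∃ k, g ^ r ^ k = 1
  · exact hNH.false_of_subgroup H.hr H.htop fun g hg => H.out g hg (hall g hg)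
  push Not at hall
  obtain ⟨g₀, -, hg₀⟩ := hall
  obtain ⟨s, hs, hsd, hsr⟩ : ∃ s, s.Prime ∧ s ∣ orderOf g₀ ∧ s ≠ r := by
    by_contra hcon
    push Not at hcon
    obtain ⟨k, hk⟩ := exists_pow_eq_one hcon
    exact hg₀ k hk
  obtain ⟨hyo, hy1⟩ := exists_pow_order hs hsd
  set y₀ := g₀ ^ (orderOf g₀ / s)
  obtain ⟨h, hhN, hhY, hhp⟩ := hNS.exists_out hy1
  obtain ⟨hhr, hnc, hs2⟩ := H.out_order P hNS hs hyo hsr hhp rfl hhN hhY
  have hhF : h ∉ F := fun e => hhY (H.comp_inter P hNS hs hyo hsr e hhN ▸ one_mem _)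
  rcases eq_or_ne r 2 with hr2 | hr2
  · -- every involution outside inverts `F`
    subst hr2
    have hinv : ∀ v, v ∉ F → v * v = 1 → ∀ f ∈ F, v * f * v⁻¹ = f⁻¹ := by
      intro v hv hv2 f hf
      have hfv : f * v ∉ F := fun e => hv (by simpa using mul_mem (inv_mem hf) e)
      have hsq : (f * v) ^ 2 ∈ F := by
        have : (f * v) ^ 2 = f * (v * f * v⁻¹) * (v * v) := by rw [sq]; group
        rw [this, hv2, mul_one]
        exact mul_mem hf ((inferInstance : F.Normal).conj_mem f hf v)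
      obtain ⟨k, hk⟩ := H.hp ⟨_, hsq⟩
      have h2 := H.out _ hfv ⟨k + 1, by
        rw [pow_succ', pow_mul]; exact congrArg Subtype.val hk⟩
      have h3 : f * (v * f * v⁻¹) * (v * v) = 1 := by
        rw [← h2, sq]; group
      rw [hv2, mul_one] at h3
      exact eq_inv_of_mul_eq_one_right h3
    have hh2 : h * h = 1 := by rw [← sq, ← hhr, pow_orderOf_eq_one]
    set h' := y₀ * h * y₀⁻¹ with hh'
    have hh'F : h' ∉ F := fun e => hhF (by
      have := (inferInstance : F.Normal).conj_mem _ e y₀⁻¹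
      simpa [hh', mul_assoc] using this)
    have hh'2 : h' * h' = 1 := by rw [hh', conj_mul, hh2, mul_one, mul_inv_cancel]
    obtain ⟨f, hf, hf1⟩ := (bot_or_exists_ne_one F).resolve_left H.hF
    have hcomm : Commute (h * h') f := by
      have e1 := hinv h hhF hh2 f⁻¹ (inv_mem hf)
      have e2 := hinv h' hh'F hh'2 f hf
      rw [inv_inv] at e1
      refine mul_inv_eq_iff_eq_mul.1 ?_
      calc h * h' * f * (h * h')⁻¹ = h * (h' * f * h'⁻¹) * h⁻¹ := by group
        _ = f := by rw [e2, e1]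
    have hinv2 : h⁻¹ = h := (eq_inv_of_mul_eq_one_left hh2).symm
    have heq : h * h' = (h * y₀ * h⁻¹) * y₀⁻¹ := by
      rw [hh', hinv2]; group
    have hmem : h * h' ∈ zpowers y₀ := by
      rw [heq]
      exact mul_mem (H.conj_mem_zpowers P hNS hs hyo hsr hhN) (inv_mem (mem_zpowers y₀))
    have hne : h * h' ≠ 1 := by
      rw [heq]
      intro e
      rw [mul_inv_eq_one, mul_inv_eq_iff_eq_mul] at e
      exact hnc e.symm
    obtain ⟨m, hm⟩ := H.cent f hf hf1 _ hcomm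
    have hgen := OddOrder.BG16.mem_zpowers_of_prime (hyo.symm ▸ hs) hmem hne
    obtain ⟨i, hi⟩ := mem_zpowers_iff.1 hgen
    exact hsr (eq_of_prime_dvd_of_pow Nat.prime_two (k := m) (g := y₀) (by
      rw [← hi, ← zpow_natCast, zpow_comm, zpow_natCast, hm, one_zpow]) hs hyo.symm.dvd)
  -- the group has odd order
  have hodd : Odd (Nat.card G) := by
    rw [← Nat.not_even_iff_odd, even_iff_two_dvd]
    intro hev
    haveI := Fact.mk Nat.prime_two
    obtain ⟨t, ht⟩ := exists_prime_orderOf_dvd_card' (G := G) 2 hev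
    obtain ⟨h', hhN', hhY', hhp'⟩ := hNS.exists_out (ne_one_of_orderOf_prime Nat.prime_two ht)
    exact (H.out_order P hNS Nat.prime_two ht (Ne.symm hr2) hhp' rfl hhN' hhY').2.2 rfl
  haveI := S0205.result hodd
  set R := Cfsg.pCore r G with hR
  have hFR : F ≤ R := Cores.le_pCore H.hp
  have hRp : IsPGroup r ↥R := Cores.pCore_isPGroup
  haveI hRn : R.Normal := inferInstance
  have hy₀R : y₀ ∉ R := fun e => by
    obtain ⟨k, hk⟩ := hRp ⟨y₀, e⟩
    exact hsr (eq_of_prime_dvd_of_pow H.hr (congrArg Subtype.val hk) hs hyo.symm.dvd)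
  haveI : Nontrivial (G ⧸ R) := QuotientGroup.nontrivial_iff.2 fun e => hy₀R (e ▸ mem_top _)
  obtain ⟨s', A, hs', hAn, hA, hAc, hAe⟩ := H35.Berger.exists_normal_elementary (Q := G ⧸ R)
  haveI := Fact.mk hs'
  set K := A.comap (QuotientGroup.mk' R) with hK
  haveI hKn : K.Normal := hAn.comap _
  have hRK : R ≤ K := fun x hx => by
    rw [hK, mem_comap, QuotientGroup.mk'_apply, (QuotientGroup.eq_one_iff x).2 hx]
    exact one_mem _
  have hKpow : ∀ x ∈ K, x ^ s' ∈ R := fun x hx => by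
    rw [← QuotientGroup.eq_one_iff, QuotientGroup.mk_pow]
    exact hAe _ hx
  have hs'r : s' ≠ r := by
    intro e
    subst e
    refine hA ((eq_bot_iff).2 fun c hc => ?_)
    obtain ⟨x, rfl⟩ := QuotientGroup.mk_surjective c
    refine (QuotientGroup.eq_one_iff x).2 (Cores.le_pCore (N := K) ?_ (show x ∈ K from hc))
    rintro ⟨z, hz⟩
    obtain ⟨k, hk⟩ := hRp ⟨_, hKpow z hz⟩
    exact ⟨k + 1, Subtype.ext (by rw [SubgroupClass.coe_pow, pow_succ', pow_mul]; exact congrArg Subtype.val hk)⟩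
  obtain ⟨Q⟩ : Nonempty (Sylow s' ↥K) := inferInstance
  set Q' : Subgroup G := (Q : Subgroup ↥K).map K.subtype with hQ'
  have hQp : IsPGroup s' ↥Q' := Q.2.map K.subtype
  have hQexp : ∀ x ∈ Q', x ^ s' = 1 := by
    intro x hx
    have hxK : x ∈ K := map_subtype_le _ hx
    obtain ⟨k, hk⟩ := hQp ⟨x, hx⟩
    obtain ⟨m, hm⟩ := hRp ⟨_, hKpow x hxK⟩
    have h1 : (x ^ s') ^ s' ^ k = 1 := by
      have hk' : x ^ s' ^ k = 1 := congrArg Subtype.val hk
      rw [← pow_mul, mul_comm, pow_mul, hk', one_pow]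
    exact orderOf_eq_one_iff.1 (Nat.eq_one_of_dvd_coprimes
      (((Nat.coprime_primes hs' H.hr).2 hs'r).pow k m) (orderOf_dvd_of_pow_eq_one h1)
      (orderOf_dvd_of_pow_eq_one (congrArg Subtype.val hm)))
  have hQne : Q' ≠ ⊥ := by
    intro e
    rw [hQ', map_eq_bot_iff_of_injective _ K.subtype_injective] at e
    refine Q.ne_bot_of_dvd_card ?_ e
    obtain ⟨c, hc, hc1⟩ := (bot_or_exists_ne_one A).resolve_left hA
    obtain ⟨x, rfl⟩ := QuotientGroup.mk_surjective c
    have hco : orderOf (QuotientGroup.mk' R x) = s' := orderOf_eq_prime (hAe _ hc) hc1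
    exact hco ▸ (orderOf_map_dvd _ x).trans (Subgroup.orderOf_dvd_natCard K hc)
  haveI : Nontrivial ↥Q' := (nontrivial_iff_ne_bot _).2 hQne
  haveI := hQp.center_nontrivial
  obtain ⟨⟨z, hzc⟩, hz1⟩ := exists_ne (1 : center ↥Q')
  set y : G := (z : G) with hy
  have hy1' : y ≠ 1 := fun e => hz1 (Subtype.ext (Subtype.ext e))
  have hys : orderOf y = s' := orderOf_eq_prime (hQexp y z.2) hy1'
  have hQeq : Q' = zpowers y := by
    refine le_antisymm (fun x hx => ?_) (zpowers_le.2 z.2)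
    rcases eq_or_ne x 1 with rfl | hx1
    · exact one_mem _
    exact H.gen_mem hs' hys hs'r (orderOf_eq_prime (hQexp x hx) hx1)
      (congrArg Subtype.val (mem_center_iff.1 hzc ⟨x, hx⟩)).symm
  set Y := P.comp y with hYdef
  have hNY : normalizer (Q' : Set G) ≤ normalizer (Y : Set G) := by
    intro g hg
    refine POutHyp.normalizer_le P hs' hys ?_
    rw [hQeq] at hg
    exact (mem_normalizer_iff.1 hg y).1 (mem_zpowers y)
  have hfr : normalizer (Y : Set G) ⊔ R = ⊤ := by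
    refine top_le_iff.1 ((Sylow.normalizer_sup_eq_top (N := K) Q).ge.trans ?_)
    refine sup_le (hNY.trans le_sup_left) ?_
    intro x hx
    -- `K` is the product of `R` and its Sylow subgroup
    have hQR : Q' ⊔ R ≤ normalizer (Y : Set G) ⊔ R :=
      sup_le ((le_normalizer.trans hNY).trans le_sup_left) le_sup_right
    apply hQR
    obtain ⟨a, m, hm, hxm⟩ := Nat.exists_eq_pow_mul_and_not_dvd (orderOf_pos x).ne' s' hs'.ne_one
    have hone : IsPGroup s' ↥(zpowers (⟨x, hx⟩ ^ m : ↥K)) := by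
      rintro ⟨w, hw⟩
      obtain ⟨i, rfl⟩ := mem_zpowers_iff.1 hw
      refine ⟨a, Subtype.ext ?_⟩
      show ((⟨x, hx⟩ ^ m : ↥K) ^ i) ^ s' ^ a = 1
      rw [← zpow_natCast _ (s' ^ a), zpow_comm, zpow_natCast, ← pow_mul, mul_comm, ← hxm]
      rw [show orderOf x = orderOf (⟨x, hx⟩ : ↥K) from Subgroup.orderOf_coe ⟨x, hx⟩,
        pow_orderOf_eq_one, one_zpow]
    obtain ⟨Q₂, hQ₂⟩ := hone.exists_le_sylow
    obtain ⟨c, hc⟩ := MulAction.exists_smul_eq ↥K Q Q₂
    obtain ⟨q, hq, hqe⟩ : ∃ q ∈ (Q : Subgroup ↥K), c * q * c⁻¹ = ⟨x, hx⟩ ^ m := by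
      have h := hQ₂ (mem_zpowers _)
      rw [← hc, Sylow.coe_subgroup_smul, mem_pointwise_smul_iff_inv_smul_mem] at h
      exact ⟨_, h, by simp [MulAut.smul_def, MulAut.conj_symm_apply, mul_assoc]⟩
    have hxm' : x ^ m ∈ Q' ⊔ R := by
      have he : x ^ m = ((c : G) * q * (c : G)⁻¹ * (q : G)⁻¹) * q := by
        rw [inv_mul_cancel_right]
        exact (congrArg Subtype.val hqe).symm
      rw [he]
      refine mul_mem (le_sup_right (a := Q') ?_) (le_sup_left (b := R) ⟨q, hq, rfl⟩)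
      rw [← QuotientGroup.eq_one_iff, QuotientGroup.mk_mul, QuotientGroup.mk_mul,
        QuotientGroup.mk_mul, QuotientGroup.mk_inv, QuotientGroup.mk_inv]
      have hcq : ((c : G) : G ⧸ R) * ((q : G) : G ⧸ R) = ((q : G) : G ⧸ R) * ((c : G) : G ⧸ R) :=
        hAc _ c.2 _ q.2
      rw [hcq, mul_inv_cancel_right, mul_inv_cancel]
    have hxs : x ^ s' ∈ Q' ⊔ R := le_sup_right (a := Q') (hKpow x hx)
    have hco : s'.Coprime m := (Nat.Prime.coprime_iff_not_dvd hs').2 hm
    have h1 : x = (x ^ s') ^ s'.gcdA m * (x ^ m) ^ s'.gcdB m := by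
      rw [← zpow_natCast x, ← zpow_natCast x, ← zpow_mul, ← zpow_mul, ← zpow_add,
        ← Nat.gcd_eq_gcd_ab, hco.gcd_eq_one, Nat.cast_one, zpow_one]
    rw [h1]
    exact mul_mem (zpow_mem hxs _) (zpow_mem hxm' _)
  set M := R ⊔ Y with hM
  haveI hMn : M.Normal := by
    refine normalizer_eq_top_iff.1 (top_le_iff.1 (hfr ▸ sup_le (fun g hg => ?_)
      (le_sup_left.trans le_normalizer)))
    apply mem_normalizer_of_map_eq
    rw [hM, Subgroup.map_sup, map_eq_of_mem_normalizer hg, map_eq_of_mem_normalizer (X := R)]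
    rw [normalizer_eq_top_iff.2 hRn]
    exact mem_top g
  have hyM : y ∈ M := le_sup_right (a := R) (P.mem y)
  have hyR : ∀ w, w ∈ R → w ∈ zpowers y → w = 1 := by
    intro w hw hwy
    obtain ⟨k, hk⟩ := hRp ⟨w, hw⟩
    have hk' : w ^ r ^ k = 1 := congrArg Subtype.val hk
    by_contra hw1
    have hgen := OddOrder.BG16.mem_zpowers_of_prime (hys.symm ▸ hs') hwy hw1
    obtain ⟨i, hi⟩ := mem_zpowers_iff.1 hgen
    exact hs'r (eq_of_prime_dvd_of_pow H.hr (k := k) (g := y) (by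
      rw [← hi, ← zpow_natCast, zpow_comm, zpow_natCast, hk', one_zpow]) hs' hys.symm.dvd)
  have hMtop : M ≠ ⊤ := by
    intro e
    obtain ⟨h₁, hh₁N, hh₁Y, -⟩ := hNS.exists_out hy1'
    have hm : h₁ ∈ M := e ▸ mem_top _
    obtain ⟨ρ, hρ, y', hy', heq⟩ := (Coprime.mem_sup_iff (N := R) (H := Y)
      (by rw [normalizer_eq_top_iff.2 hRn]; exact le_top)).1 hm
    refine hh₁Y (heq ▸ mul_mem ?_ hy')
    have hρN : ρ ∈ normalizer (Y : Set G) := by
      have := mul_mem hh₁N (inv_mem (le_normalizer hy'))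
      rwa [← heq, mul_inv_cancel_right] at this
    refine H.centralizer_le P hs' hys hs'r ?_
    have h2 : ρ * y * ρ⁻¹ * y⁻¹ ∈ R := by
      have h := mul_mem hρ (hRn.conj_mem _ (inv_mem hρ) y)
      simpa [mul_assoc] using h
    have h3 := hyR _ h2 (mul_mem (H.conj_mem_zpowers P hNS hs' hys hs'r hρN) (inv_mem (mem_zpowers y)))
    rw [mul_inv_eq_one, mul_inv_eq_iff_eq_mul] at h3
    exact h3.symm
  have hNout : ∀ k, k ∈ normalizer (Y : Set G) → k ^ r ∈ Y := by
    intro k hk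
    by_cases hkY : k ∈ Y
    · exact pow_mem hkY r
    have hpow : ∀ p : ℕ, p.Prime → p ∣ orderOf k → p = r := by
      intro p hp hd
      obtain ⟨hxo, hx1⟩ := exists_pow_order hp hd
      refine (H.out_order P hNS hs' hys hs'r hp hxo (pow_mem hk _) fun hm => hx1 ?_).1
      exact P.pow_out hy1' hkY hm
    obtain ⟨j, hj⟩ := exists_pow_eq_one hpow
    have hk1 : k ≠ 1 := fun e => hkY (e ▸ one_mem _)
    rw [H.out k (fun e => hk1 (H.comp_inter P hNS hs' hys hs'r e hk)) ⟨j, hj⟩]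
    exact one_mem _
  have hexp : ∀ g : G, g ^ r ∈ M := by
    intro g
    have hg : g ∈ R ⊔ normalizer (Y : Set G) := by rw [sup_comm, hfr]; exact mem_top g
    obtain ⟨ρ, hρ, k, hk, rfl⟩ := (Coprime.mem_sup_iff (N := R) (H := normalizer (Y : Set G))
      (by rw [normalizer_eq_top_iff.2 hRn]; exact le_top)).1 hg
    rw [← QuotientGroup.eq_one_iff (N := M), QuotientGroup.mk_pow, QuotientGroup.mk_mul,
      (QuotientGroup.eq_one_iff ρ).2 (le_sup_left (b := Y) hρ), one_mul, ← QuotientGroup.mk_pow,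
      QuotientGroup.eq_one_iff]
    exact le_sup_right (a := R) (hNout k hk)
  refine hNH.false_of_subgroup H.hr hMtop fun g hg => ?_
  by_cases hgr : ∃ k, g ^ r ^ k = 1
  · exact H.out g (fun e => hg (le_sup_left (b := Y) (hFR e))) hgr
  exfalso
  push Not at hgr
  obtain ⟨p, hp, hpd, hpr⟩ : ∃ p, p.Prime ∧ p ∣ orderOf g ∧ p ≠ r := by
    by_contra hcon
    push Not at hcon
    obtain ⟨k, hk⟩ := exists_pow_eq_one hcon
    exact hgr k hk
  haveI := Fact.mk hp
  obtain ⟨hto, ht1⟩ := exists_pow_order hp hpd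
  set t := g ^ (orderOf g / p) with ht
  have htM : t ∈ M := by
    obtain ⟨i, hi⟩ := exists_pow_eq_self_of_coprime (x := t) (n := r)
      (by rw [hto]; exact (Nat.coprime_primes H.hr hp).2 (Ne.symm hpr))
    rw [← hi]
    exact pow_mem (hexp t) i
  -- `t` is conjugate in `M` into `Y`
  obtain ⟨S⟩ : Nonempty (Sylow p ↥Y) := inferInstance
  have hcardM : Nat.card ↥M ∣ Nat.card ↥R * Nat.card ↥Y := by
    haveI : (R.subgroupOf M).Normal := inferInstance
    rw [← Subgroup.card_mul_index (R.subgroupOf M),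
      Nat.card_congr (subgroupOfEquivOfLe (le_sup_left : R ≤ M)).toEquiv]
    refine mul_dvd_mul_left _ ?_
    show R.relIndex (R ⊔ Y) ∣ Nat.card ↥Y
    rw [sup_comm, relIndex_sup_right]
    exact relIndex_dvd_card _ _
  set S' : Subgroup ↥M := ((S : Subgroup ↥Y).map Y.subtype).subgroupOf M with hS'
  have hSY : (S : Subgroup ↥Y).map Y.subtype ≤ M := (map_subtype_le _).trans le_sup_right
  have hScard : Nat.card ↥S' = p ^ (Nat.card ↥Y).factorization p := by
    rw [hS', Nat.card_congr (subgroupOfEquivOfLe hSY).toEquiv, card_map_of_injective Y.subtype_injective,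
      S.card_eq_multiplicity]
  have hfac : p ^ (Nat.card ↥M).factorization p ∣ Nat.card ↥S' := by
    rw [hScard]
    have h1 : p ^ (Nat.card ↥M).factorization p ∣ Nat.card ↥R * Nat.card ↥Y :=
      (Nat.ordProj_dvd _ _).trans hcardM
    have hco : (p ^ (Nat.card ↥M).factorization p).Coprime (Nat.card ↥R) := by
      obtain ⟨k, hk⟩ := hRp.exists_card_eq
      rw [hk]
      exact ((Nat.coprime_primes hp H.hr).2 hpr).pow _ _
    exact (Nat.Prime.pow_dvd_iff_dvd_ordProj hp Nat.card_pos.ne').1 (hco.dvd_of_dvd_mul_left h1)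
  have hS'eq : Nat.card ↥S' = p ^ (Nat.card ↥M).factorization p := by
    refine Nat.dvd_antisymm ?_ hfac
    rw [hScard]
    exact (Nat.Prime.pow_dvd_iff_dvd_ordProj hp Nat.card_pos.ne').1
      (hScard ▸ Subgroup.card_subgroup_dvd_card S')
  let S₁ : Sylow p ↥M := Sylow.ofCard S' hS'eq
  have hzt : IsPGroup p ↥(zpowers (⟨t, htM⟩ : ↥M)) := by
    refine IsPGroup.of_card (n := 1) ?_
    rw [Nat.card_zpowers, pow_one, ← Subgroup.orderOf_coe]
    exact hto
  obtain ⟨S₂, hS₂⟩ := hzt.exists_le_sylow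
  obtain ⟨c, hc⟩ := MulAction.exists_smul_eq ↥M S₁ S₂
  have hmem := hS₂ (mem_zpowers _)
  rw [← hc, Sylow.coe_subgroup_smul, mem_pointwise_smul_iff_inv_smul_mem] at hmem
  have hw : (c : G)⁻¹ * t * (c : G) ∈ Y := by
    have h := map_subtype_le _ (show (((MulAut.conj c)⁻¹ • (⟨t, htM⟩ : ↥M) : ↥M) : G) ∈
      (S : Subgroup ↥Y).map Y.subtype from hmem)
    simpa [MulAut.smul_def, MulAut.conj_symm_apply] using h
  set w := (c : G)⁻¹ * t * (c : G) with hwdef
  have hwo : orderOf w = p := by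
    rw [← hto, hwdef]
    simpa using MulEquiv.orderOf_eq (MulAut.conj (c : G)⁻¹) t
  have hgw : Commute w ((c : G)⁻¹ * g * (c : G)) := by
    have h := ((Commute.refl g).pow_left (orderOf g / p)).map (MulAut.conj (c : G)⁻¹).toMonoidHom
    simpa [hwdef, ht] using h
  have hcg := H.centralizer_le P hp hwo hpr hgw
  rw [P.eq_of_mem hy1' (ne_one_of_orderOf_prime hp hwo) hw] at hcg
  refine hg ?_
  have := mul_mem (mul_mem c.2 (le_sup_right (a := R) hcg)) (inv_mem c.2)
  simpa [mul_assoc] using this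

end Cfsg.Agent.H84.Partition
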