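import Cfsg.Agent.H84.Partition.TwoPrimes
import Cfsg.Agent.H84.Partition.NoNormalPart

/-!
# Groups with a partition: a nontrivial abelian normal subgroup
-/

namespace Cfsg.Agent.H84.Partition

open Subgroup

universe u

variable {G : Type u} [Group G] [Finite G] (P : Part G)

namespace Part

/-- With no self-normalising part there is no normal part. -/
theorem not_normal (hNS : P.NoSelfNormalizing) (hNH : NoHughes G) {a : G} (ha : a ≠ 1) :
    ¬ (P.comp a).Normal := by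
  intro hn
  haveI := hn
  set X := P.comp a with hX
  have hXnil := hNS.isNilpotent ha
  have haX : a ∈ X := P.mem a
  obtain ⟨r, hr, hrd⟩ := Nat.exists_prime_and_dvd (n := Nat.card ↥X)
    fun e => ha (by
      have h := Subgroup.eq_bot_of_card_eq X e
      rwa [h, mem_bot] at haX)
  by_cases hone : ∀ s, s.Prime → s ∣ Nat.card ↥X → s = r
  swap
  · push Not at hone
    obtain ⟨s, hs, hsd, hsr⟩ := hone
    exact P.false_of_two_primes hNS hNH ha hs hr hsr hsd hrd
  haveI := Fact.mk hr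
  have hXp : IsPGroup r ↥X := fun x => by
    obtain ⟨k, hk⟩ := exists_pow_eq_one (g := (x : G)) fun s hs hd =>
      hone s hs (hd.trans (Subgroup.orderOf_dvd_natCard X x.2))
    exact ⟨k, Subtype.ext hk⟩
  have hXne : X ≠ ⊥ := fun e => ha (mem_bot.1 (e ▸ haX))
  refine POutHyp.false P (F := X) ⟨hXne, P.ne_top ha, hXp, hr, fun g hg hgk => ?_, ?_⟩ hNS hNH
  · obtain ⟨k, hk⟩ := hgk
    obtain ⟨z, hz, hz1, hgz⟩ := exists_fixed (q := r) hXne hXp
      (by rw [normalizer_eq_top_iff.2 hn]; exact mem_top g) hk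
    obtain ⟨hp, ho⟩ := P.orderOf_of_commute_normal ha hg hz hz1 hgz
    have h := eq_of_prime_dvd_of_pow hr hk hp dvd_rfl
    rw [← h, pow_orderOf_eq_one]
  · intro z hz hz1 x hxz
    by_cases hxX : x ∈ X
    · obtain ⟨k, hk⟩ := hXp ⟨x, hxX⟩
      exact ⟨k, congrArg Subtype.val hk⟩
    · obtain ⟨hp, ho⟩ := P.orderOf_of_commute_normal ha hxX hz hz1 hxz
      obtain ⟨k, hk⟩ := hXp ⟨z, hz⟩
      have h := eq_of_prime_dvd_of_pow hr (g := z) (congrArg Subtype.val hk) hp ho.symm.dvd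
      exact ⟨1, by rw [pow_one, ← h, pow_orderOf_eq_one]⟩

/-- A nontrivial abelian normal subgroup forces the symmetric group of degree four. -/
theorem radical_case (hNS : P.NoSelfNormalizing) (hNH : NoHughes G) (V : Subgroup G) [hVn : V.Normal]
    (hV : V ≠ ⊥) (hVc : ∀ a ∈ V, ∀ b ∈ V, Commute a b) : Nonempty (G ≃* Equiv.Perm (Fin 4)) := by
  obtain ⟨r, hr, hrd⟩ := Nat.exists_prime_and_dvd (n := Nat.card ↥V)
    fun e => hV (Subgroup.eq_bot_of_card_eq _ e)
  haveI := Fact.mk hr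
  let N : Subgroup G :=
    { carrier := {x | x ∈ V ∧ x ^ r = 1}
      one_mem' := ⟨one_mem _, one_pow r⟩
      mul_mem' := fun {a b} ha hb => ⟨mul_mem ha.1 hb.1, by
        rw [(hVc a ha.1 b hb.1).mul_pow, ha.2, hb.2, mul_one]⟩
      inv_mem' := fun {a} ha => ⟨inv_mem ha.1, by rw [inv_pow, ha.2, inv_one]⟩ }
  haveI : N.Normal := ⟨fun x hx g => ⟨hVn.conj_mem x hx.1 g, by rw [conj_pow, hx.2, mul_one, mul_inv_cancel]⟩⟩
  obtain ⟨x, hx⟩ := exists_prime_orderOf_dvd_card' r hrd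
  have hxN : (x : G) ∈ N := ⟨x.2, by
    rw [← hx, ← Subgroup.coe_pow, pow_orderOf_eq_one]; rfl⟩
  have hN : N ≠ ⊥ := fun e => by
    rw [e, mem_bot] at hxN
    exact hr.ne_one (hx ▸ orderOf_eq_one_iff.2 (Subtype.ext hxN))
  exact P.four_group_case hNS hNH (fun a ha => P.not_normal hNS hNH ha) N hN hr
    (fun a ha b hb => hVc a ha.1 b hb.1) fun a ha => ha.2

end Part

end Cfsg.Agent.H84.Partition
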