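import Cfsg.Agent.H84.Partition.Lemmas
import Cfsg.Agent.Cores.PCore
import Cfsg.Agent.Perm.RegularNormal

/-!
# Groups with a partition: no nontrivial abelian normal subgroup
-/

namespace Cfsg.Agent.H84.Partition

open Subgroup

universe u

variable {G : Type u} [Group G] [Finite G]

theorem isNilpotent_of_le {A B : Subgroup G} (h : A ≤ B) (hB : Group.IsNilpotent ↥B) :
    Group.IsNilpotent ↥A :=
  H77.isNilpotent_of_subgroup_le h hB

theorem exists_two_orders {A : Subgroup G} (hA : ¬ Group.IsNilpotent ↥A) :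
    ∃ a ∈ A, ∃ b ∈ A, a ≠ 1 ∧ b ≠ 1 ∧ orderOf a ≠ orderOf b := by
  have hne : Nat.card ↥A ≠ 1 := fun h => hA (by
    haveI : Subsingleton ↥A := Finite.card_le_one_iff_subsingleton.1 h.le
    infer_instance)
  obtain ⟨p, hp, hd⟩ := Nat.exists_prime_and_dvd hne
  haveI := Fact.mk hp
  obtain ⟨a, ha⟩ := exists_prime_orderOf_dvd_card' p hd
  obtain ⟨b, hb⟩ : ∃ b : ↥A, ∀ k, b ^ p ^ k ≠ 1 := by
    by_contra hcon
    push Not at hcon
    exact hA (IsPGroup.isNilpotent (p := p) hcon)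
  obtain ⟨q, hq, hqd, hqp⟩ : ∃ q, q.Prime ∧ q ∣ orderOf b ∧ q ≠ p := by
    by_contra hcon
    push Not at hcon
    obtain ⟨k, hk⟩ := exists_pow_eq_one hcon
    exact hb k hk
  obtain ⟨ho, h1⟩ := exists_pow_order hq hqd
  refine ⟨a, a.2, _, (b ^ (orderOf b / q)).2, ?_, fun e => h1 (Subtype.ext e), ?_⟩
  · exact fun e => hp.ne_one (by rw [← ha, ← Subgroup.orderOf_coe, e, orderOf_one])
  · rw [Subgroup.orderOf_coe, Subgroup.orderOf_coe, ha, ho]
    exact Ne.symm hqp

/-- A nilpotent normal subgroup of a normal subgroup gives an abelian normal subgroup. -/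
theorem exists_abelian_normal {T D : Subgroup G} [T.Normal] (hDT : D ≤ T)
    (hTD : T ≤ normalizer (D : Set G)) (hD : D ≠ ⊥) (hnil : Group.IsNilpotent ↥D) :
    ∃ V : Subgroup G, V.Normal ∧ V ≠ ⊥ ∧ ∀ a ∈ V, ∀ b ∈ V, Commute a b := by
  obtain ⟨p, hp, hd⟩ := Nat.exists_prime_and_dvd (n := Nat.card ↥D)
    fun e => hD (Subgroup.eq_bot_of_card_eq _ e)
  haveI := Fact.mk hp
  obtain ⟨Z, hZ, -, hZD, hZo, -, hZN⟩ := exists_central_prime hnil hp hd
  haveI hn : (Z.subgroupOf T).Normal :=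
    normal_subgroupOf_of_le_normalizer fun g hg => hZN g (hTD hg)
  have hZp : IsPGroup p ↥(Z.subgroupOf T) := fun x => ⟨1, by
    refine Subtype.ext (Subtype.ext ?_)
    show ((x : ↥T) : G) ^ p ^ 1 = 1
    rw [pow_one]
    have hx : ((x : ↥T) : G) ∈ Z := x.2
    rcases eq_or_ne ((x : ↥T) : G) 1 with e | e
    · rw [e, one_pow]
    · rw [← hZo _ hx e, pow_orderOf_eq_one]⟩
  haveI : (Cfsg.pCore p ↥T).Characteristic := inferInstance
  set U : Subgroup G := (Cfsg.pCore p ↥T).map T.subtype with hU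
  haveI hUn : U.Normal := inferInstance
  have hUne : U ≠ ⊥ := by
    obtain ⟨z, hz, hz1⟩ := (bot_or_exists_ne_one Z).resolve_left hZ
    intro e
    have hzU : z ∈ U :=
      ⟨⟨z, hDT (hZD hz)⟩, Cores.le_pCore (N := Z.subgroupOf T) hZp hz, rfl⟩
    rw [e, mem_bot] at hzU
    exact hz1 hzU
  have hUp : IsPGroup p ↥U := (Cores.pCore_isPGroup).map T.subtype
  haveI : Nontrivial ↥U := (nontrivial_iff_ne_bot _).2 hUne
  haveI := hUp.center_nontrivial
  refine ⟨(center ↥U).map U.subtype, inferInstance, ?_, ?_⟩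
  · rw [Ne, map_eq_bot_iff_of_injective _ U.subtype_injective]
    exact (nontrivial_iff_ne_bot _).1 inferInstance
  · rintro _ ⟨a, ha, rfl⟩ _ ⟨b, -, rfl⟩
    exact (congrArg Subtype.val (mem_center_iff.1 ha b)).symm

namespace Part

variable (P : Part G)

/-- The parts are nilpotent. -/
def Nil : Prop := ∀ a : G, a ≠ 1 → Group.IsNilpotent ↥(P.comp a)

theorem nilpotent_of_commuting (hnil : P.Nil) {A B : Subgroup G}
    (hB : ∃ a ∈ B, ∃ b ∈ B, a ≠ 1 ∧ b ≠ 1 ∧ orderOf a ≠ orderOf b)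
    (hA : ∃ a ∈ A, ∃ b ∈ A, a ≠ 1 ∧ b ≠ 1 ∧ orderOf a ≠ orderOf b)
    (hc : ∀ a ∈ A, ∀ b ∈ B, Commute a b) : Group.IsNilpotent ↥A := by
  obtain ⟨a₁, ha₁, a₂, ha₂, h₁, h₂, hne⟩ := hA
  have hsub : ∀ y ∈ B, y ∈ P.comp a₁ ∨ y ∈ P.comp a₂ := by
    intro y hy
    by_cases h : orderOf y = orderOf a₁
    · exact Or.inr (P.mem_of_commute h₂ h₂ (P.mem _) (hc a₂ ha₂ y hy) (h ▸ hne))
    · exact Or.inl (P.mem_of_commute h₁ h₁ (P.mem _) (hc a₁ ha₁ y hy) h)
  have hBle : ∃ X : Subgroup G, B ≤ X ∧ (X = P.comp a₁ ∨ X = P.comp a₂) := by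
    by_cases hB1 : B ≤ P.comp a₁
    · exact ⟨_, hB1, Or.inl rfl⟩
    refine ⟨_, fun y hy => ?_, Or.inr rfl⟩
    obtain ⟨w, hw, hw'⟩ := SetLike.not_le_iff_exists.1 hB1
    rcases hsub y hy with h | h
    · have hwy : w * y ∈ P.comp a₂ := (hsub _ (mul_mem hw hy)).resolve_left fun e =>
        hw' (by simpa using mul_mem e (inv_mem h))
      simpa using mul_mem (inv_mem ((hsub w hw).resolve_left hw')) hwy
    · exact h
  obtain ⟨X, hX, hXeq⟩ := hBle
  obtain ⟨c, hc1, rfl⟩ : ∃ c, c ≠ 1 ∧ X = P.comp c := by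
    rcases hXeq with e | e
    exacts [⟨a₁, h₁, e⟩, ⟨a₂, h₂, e⟩]
  obtain ⟨b₁, hb₁, b₂, hb₂, g₁, g₂, gne⟩ := hB
  refine isNilpotent_of_le (B := P.comp c) (fun x hx => ?_) (hnil c hc1)
  by_cases h : orderOf x = orderOf b₁
  · exact P.mem_of_commute hc1 g₂ (hX hb₂) (hc x hx b₂ hb₂).symm (h ▸ gne)
  · exact P.mem_of_commute hc1 g₁ (hX hb₁) (hc x hx b₁ hb₁).symm h

/-- There is a simple normal subgroup with trivial centraliser. -/
theorem exists_simple_normal [Nontrivial G] (hnil : P.Nil)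
    (hab : ∀ V : Subgroup G, V.Normal → (∀ a ∈ V, ∀ b ∈ V, Commute a b) → V = ⊥) :
    ∃ T : Subgroup G, T.Normal ∧ IsSimpleGroup ↥T ∧ ¬ Group.IsNilpotent ↥T ∧
      centralizer (T : Set G) = ⊥ := by
  obtain ⟨T, hTn, -, hT, hmin⟩ := Perm.exists_minimal_normal_le (G := G) (N := ⊤) top_ne_bot
  haveI := hTn
  have hnn : ∀ D : Subgroup G, D ≤ T → T ≤ normalizer (D : Set G) → D ≠ ⊥ →
      ¬ Group.IsNilpotent ↥D := fun D h1 h2 h3 h4 => by
    obtain ⟨V, hV, hVne, hVc⟩ := exists_abelian_normal h1 h2 h3 h4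
    exact hVne (hab V hV hVc)
  have hTnil : ¬ Group.IsNilpotent ↥T := hnn T le_rfl le_normalizer hT
  have hC : centralizer (T : Set G) = ⊥ := by
    by_contra hne
    have hCnil : ¬ Group.IsNilpotent ↥(centralizer (T : Set G)) := fun h => by
      obtain ⟨V, hV, hVne, hVc⟩ := exists_abelian_normal (T := centralizer (T : Set G))
        le_rfl le_normalizer hne h
      exact hVne (hab V hV hVc)
    exact hTnil (P.nilpotent_of_commuting hnil (exists_two_orders hCnil) (exists_two_orders hTnil)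
      fun a ha b hb => (mem_centralizer_iff.1 hb a ha))
  refine ⟨T, hTn, ?_, hTnil, hC⟩
  -- minimal normal subgroups of `T`
  have hcentD : ∀ D : Subgroup G, D ≤ T → T ≤ normalizer (D : Set G) → D ≠ ⊥ →
      ∀ E : Subgroup G, E ≤ T → T ≤ normalizer (E : Set G) → (∀ a ∈ D, ∀ b ∈ E, Commute a b) →
        E = ⊥ := by
    intro D h1 h2 h3 E h4 h5 h6
    by_contra hE
    exact hnn D h1 h2 h3 (P.nilpotent_of_commuting hnil (exists_two_orders (hnn E h4 h5 hE))
      (exists_two_orders (hnn D h1 h2 h3)) h6)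
  haveI : Nontrivial ↥T := (nontrivial_iff_ne_bot _).2 hT
  obtain ⟨D₀, hD₀n, -, hD₀, hD₀min⟩ := Perm.exists_minimal_normal_le (G := ↥T) (N := ⊤) top_ne_bot
  set D := D₀.map T.subtype with hD
  have hDT : D ≤ T := map_subtype_le _
  have hDof : D.subgroupOf T = D₀ := comap_map_eq_self_of_injective T.subtype_injective _
  have hTD : T ≤ normalizer (D : Set G) := (normal_subgroupOf_iff_le_normalizer hDT).1 (hDof ▸ hD₀n)
  have hDne : D ≠ ⊥ := by
    rw [hD, Ne, map_eq_bot_iff_of_injective _ T.subtype_injective]; exact hD₀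
  have hDn : D.Normal := by
    refine normalizer_eq_top_iff.1 ((eq_top_iff' _).2 fun g => mem_normalizer_of_map_eq ?_)
    set E := D.map (MulAut.conj g).toMonoidHom with hE
    have hET : E ≤ T := by
      rintro _ ⟨d, hd, rfl⟩
      exact hTn.conj_mem d (hDT hd) g
    have hTE : T ≤ normalizer (E : Set G) := fun t ht => by
      apply mem_normalizer_of_map_eq
      have ht' : g⁻¹ * t * g ∈ T := by simpa using hTn.conj_mem t ht g⁻¹
      rw [hE, map_map]
      conv_rhs => rw [← map_eq_of_mem_normalizer (hTD ht'), map_map]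
      congr 1
      ext x
      simp [mul_assoc]
    have hsub : D₀ ≤ E.subgroupOf T := by
      have hn : (D₀ ⊓ E.subgroupOf T).Normal := by
        haveI := normal_subgroupOf_of_le_normalizer (H := T) (N := E) hTE
        infer_instance
      by_contra hle
      have hbot : D₀ ⊓ E.subgroupOf T = ⊥ := by
        by_contra h
        exact hle (inf_eq_left.1 ((hD₀min _ hn inf_le_left).resolve_left h))
      haveI := normal_subgroupOf_of_le_normalizer (H := T) (N := E) hTE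
      have hcom : ∀ a ∈ D, ∀ b ∈ E, Commute a b := fun a ha b hb => by
        have := commute_of_normal_of_disjoint D₀ (E.subgroupOf T) inferInstance inferInstance
          (disjoint_iff.2 hbot) ⟨a, hDT ha⟩ ⟨b, hET hb⟩ (hDof ▸ ha) hb
        exact congrArg Subtype.val this
      have hEne : E ≠ ⊥ := by
        rw [hE, Ne, map_eq_bot_iff_of_injective _ (MulAut.conj g).injective]; exact hDne
      exact hEne (hcentD D hDT hTD hDne E hET hTE hcom)
    refine (eq_of_le_of_card_ge ?_ (card_map_of_injective (MulAut.conj g).injective).le).symm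
    rintro _ ⟨d, hd, rfl⟩
    exact hsub hd
  have hDeq : D = T := (hmin D hDn hDT).resolve_left hDne
  have hD₀top : D₀ = ⊤ := by rw [← hDof, hDeq, subgroupOf_self]
  refine ⟨fun K hK => or_iff_not_imp_left.2 fun hKne => ?_⟩
  rw [(hD₀min K hK (by rw [hD₀top]; exact le_top)).resolve_left hKne, hD₀top]

/-- The partition of a subgroup. -/
def restrict (T : Subgroup G) (hne : ∀ a : G, a ≠ 1 → a ∈ T → ¬ T ≤ P.comp a) : Part ↥T where
  comp x := (P.comp (x : G)).subgroupOf T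
  mem x := P.mem _
  eq_of_mem {x y} hx hy h := by
    rw [P.eq_of_mem (fun e => hx (Subtype.ext e)) (fun e => hy (Subtype.ext e)) h]
  conj g x := by
    rw [show (((g * x * g⁻¹ : ↥T)) : G) = (g : G) * x * (g : G)⁻¹ from rfl, P.conj]
    ext t
    constructor
    · rintro ⟨c, hc, he⟩
      refine ⟨g⁻¹ * t * g, ?_, Subtype.ext (by simp [mul_assoc])⟩
      show ((g⁻¹ * t * g : ↥T) : G) ∈ P.comp (x : G)
      have : ((g⁻¹ * t * g : ↥T) : G) = c := by
        rw [Subgroup.coe_mul, Subgroup.coe_mul, Subgroup.coe_inv,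
          show (t : G) = (g : G) * c * (g : G)⁻¹ from he.symm]
        group
      exact this ▸ hc
    · rintro ⟨c, hc, rfl⟩
      exact ⟨c, hc, rfl⟩
  ne_top {x} hx h := hne x (fun e => hx (Subtype.ext e)) x.2 (subgroupOf_eq_top.1 h)

theorem restrict_nil (hnil : P.Nil) (T : Subgroup G)
    (hne : ∀ a : G, a ≠ 1 → a ∈ T → ¬ T ≤ P.comp a) : (P.restrict T hne).Nil := by
  intro x hx
  haveI := hnil (x : G) fun e => hx (Subtype.ext e)
  exact H77.isNilpotent_of_injective
    (((T.subtype).comp ((P.comp (x : G)).subgroupOf T).subtype).codRestrict (P.comp (x : G)) fun c => c.2)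
    (fun a b e => Subtype.ext (Subtype.ext (congrArg Subtype.val e :)))

end Part

end Cfsg.Agent.H84.Partition
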