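import Cfsg.Agent.H84.Partition.SimpleDihedral
import Cfsg.Agent.H65.CIT.Independent
import Cfsg.Agent.H65.CIT.CN
import Cfsg.Agent.H35.BergerGroups
import Cfsg.Agent.S0215
import Mathlib.GroupTheory.SemidirectProduct

/-!
# Simple groups with a partition: the centralisers of involutions lie in parts
-/

namespace Cfsg.Agent.H84.Partition

open Subgroup

universe u

variable {G : Type u} [Group G] [Finite G] (P : Part G)

/-- In a group acting without fixed points a normalising element of prime order commutes with an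
element of prime order. -/
theorem commute_of_fpf {C M : Type u} [Group C] [Finite C] [CommGroup M] [Finite M] [Nontrivial M]
    {φ : C →* MulAut M} (hφ : Frobenius.IsFPF φ) {a b : C} (ha : (orderOf a).Prime)
    (hb : (orderOf b).Prime) (hab : b * a * b⁻¹ ∈ zpowers a) : Commute a b := by
  by_contra hne
  haveI : Finite (M ⋊[φ] C) := Finite.of_equiv _ SemidirectProduct.equivProd.symm
  set il : M →* M ⋊[φ] C := SemidirectProduct.inl with hil
  set ir : C →* M ⋊[φ] C := SemidirectProduct.inr with hir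
  haveI hn : il.range.Normal := by
    rw [hil, SemidirectProduct.range_inl_eq_ker_rightHom]; infer_instance
  haveI : IsMulCommutative ↥il.range := ⟨⟨by
    rintro ⟨_, m, rfl⟩ ⟨_, m', rfl⟩
    exact Subtype.ext (by simp only [Subgroup.coe_mul]; rw [← map_mul, ← map_mul, mul_comm])⟩⟩
  have hnorm : ∀ x : M ⋊[φ] C, x ∈ normalizer (il.range : Set (M ⋊[φ] C)) := fun x => by
    rw [normalizer_eq_top_iff.2 hn]; exact mem_top x
  have hinj : Function.Injective ir := SemidirectProduct.inr_injective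
  have hfix : ∀ c : C, (orderOf c).Prime → ∀ v ∈ il.range, ir c * v = v * ir c → v = 1 := by
    rintro c hc _ ⟨m, rfl⟩ he
    have h1 : il (φ c m) = il m := by
      rw [hil, SemidirectProduct.inl_aut, map_inv]
      exact mul_inv_eq_iff_eq_mul.2 he
    rw [hφ c (fun e => Nat.not_prime_one (by rwa [e, orderOf_one] at hc)) m
      (SemidirectProduct.inl_injective h1), map_one]
  have hbot := OddOrder.BG16.eq_bot_of_fpf_metacyclic (hnorm (ir a)) (hnorm (ir b))
    (by rwa [orderOf_injective ir hinj]) (by rwa [orderOf_injective ir hinj])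
    (by
      obtain ⟨i, hi⟩ := mem_zpowers_iff.1 hab
      exact mem_zpowers_iff.2 ⟨i, by rw [← map_zpow, hi, map_mul, map_mul, map_inv]⟩)
    (fun h => hne (hinj (by rw [map_mul, map_mul]; exact h.eq)))
    (hfix a ha) (hfix b hb)
  obtain ⟨m, hm⟩ := exists_ne (1 : M)
  have : il m ∈ il.range := ⟨m, rfl⟩
  rw [hbot, mem_bot] at this
  exact hm (SemidirectProduct.inl_injective (this.trans (map_one il).symm))

/-- An involution fixing nothing in a normalised subgroup inverts it. -/
theorem inverts_of_no_fixed {C : Subgroup G} {v : G} (hv : v * v = 1)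
    (hvN : v ∈ normalizer (C : Set G)) (hfix : ∀ c ∈ C, Commute v c → c = 1) {c : G} (hc : c ∈ C) :
    v * c * v⁻¹ = c⁻¹ := by
  classical
  have hinv : v⁻¹ = v := (eq_inv_of_mul_eq_one_left hv).symm
  let f : ↥C → ↥C := fun x =>
    ⟨(x : G)⁻¹ * (v * x * v⁻¹), mul_mem (inv_mem x.2) ((mem_normalizer_iff.1 hvN x).1 x.2)⟩
  have hf : Function.Injective f := by
    intro x y h
    have h' : (x : G)⁻¹ * (v * x * v⁻¹) = (y : G)⁻¹ * (v * y * v⁻¹) := congrArg Subtype.val h
    have h1 : (y : G) * (x : G)⁻¹ = 1 := hfix _ (mul_mem y.2 (inv_mem x.2)) (by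
      refine mul_inv_eq_iff_eq_mul.1 ?_
      calc v * ((y : G) * (x : G)⁻¹) * v⁻¹ =
            (y : G) * ((y : G)⁻¹ * (v * y * v⁻¹)) * (v * x * v⁻¹)⁻¹ := by group
        _ = _ := by rw [← h']; group)
    exact Subtype.ext (mul_inv_eq_one.1 h1).symm
  obtain ⟨x, hx⟩ := (Finite.injective_iff_surjective.1 hf) ⟨c, hc⟩
  have e : (x : G)⁻¹ * (v * x * v⁻¹) = c := congrArg Subtype.val hx
  rw [← e, mul_inv_rev, inv_inv, hinv, show v * ((x : G)⁻¹ * (v * x * v)) * v =
    v * (x : G)⁻¹ * v * x * (v * v) by group, hv, mul_one, mul_inv_rev, mul_inv_rev, hinv]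
  group

namespace Part

/-- If centralisers of involutions outside 2-groups lie in parts, all of them are 2-groups. -/
theorem false_of_nilpotent_centralizer [IsSimpleGroup G] (hna : ¬ IsMulCommutative G) (hnil : P.Nil)
    (hB : ∀ t z : G, orderOf t = 2 → Commute z t → (∀ k : ℕ, z ^ 2 ^ k ≠ 1) →
      ∀ g, Commute g t → g ∈ P.comp t)
    {t₀ z : G} (ht₀ : orderOf t₀ = 2) (hz₀ : Commute z t₀) (hzo : ∀ k : ℕ, z ^ 2 ^ k ≠ 1) : False := by
  classical
  haveI := Fact.mk Nat.prime_two
  have ht₀1 := ne_one_of_orderOf_prime Nat.prime_two ht₀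
  set X := P.comp t₀ with hXdef
  have hXnil : Group.IsNilpotent ↥X := hnil t₀ ht₀1
  set N := normalizer (X : Set G) with hNdef
  have hzX : z ∈ X := hB t₀ z ht₀ hz₀ hzo z hz₀
  -- an element of odd prime order in `X`
  obtain ⟨s, hs, hs2, z₁, hz₁X, hz₁o⟩ : ∃ s, s.Prime ∧ s ≠ 2 ∧ ∃ z₁ ∈ X, orderOf z₁ = s := by
    obtain ⟨s, hs, hsd, hs2⟩ : ∃ s, s.Prime ∧ s ∣ orderOf z ∧ s ≠ 2 := by
      by_contra hcon
      push Not at hcon
      obtain ⟨k, hk⟩ := exists_pow_eq_one hcon
      exact hzo k hk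
    exact ⟨s, hs, hs2, _, pow_mem hzX _, (exists_pow_order hs hsd).1⟩
  have hz₁2 : ∀ k : ℕ, z₁ ^ 2 ^ k ≠ 1 := fun k hk =>
    hs2 (eq_of_prime_dvd_of_pow Nat.prime_two hk hs hz₁o.symm.dvd)
  have hXout : ∀ w ∈ X, orderOf w = 2 → P.comp w = X := fun w hw hwo =>
    P.eq_of_mem ht₀1 (ne_one_of_orderOf_prime Nat.prime_two hwo) hw
  -- centralisers of involutions of `X`
  have hcinv : ∀ w ∈ X, orderOf w = 2 → ∀ g, Commute g w → g ∈ X := by
    intro w hw hwo g hg
    have hwz : Commute z₁ w := (H41.commute_of_coprime_of_isNilpotent hXnil hz₁X hw (by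
      rw [hwo, hz₁o]; exact (Nat.coprime_primes hs Nat.prime_two).2 hs2))
    exact hXout w hw hwo ▸ hB w z₁ hwo hwz hz₁2 g hg
  obtain ⟨Z, hZ, hZc, hZX, hZo, hZcen, hZN⟩ := exists_central_prime hXnil Nat.prime_two
    (ht₀ ▸ Subgroup.orderOf_dvd_natCard X (P.mem t₀))
  have hN2 : ∀ g, g ∈ N → (∃ k, g ^ 2 ^ k = 1) → g ∈ X := by
    rintro g hg ⟨k, hk⟩
    obtain ⟨w, hw, hw1, hgw⟩ := exists_fixed (q := 2) hZ (fun x => ⟨1, by
      rcases eq_or_ne (x : G) 1 with e | e
      · exact Subtype.ext (by simp [e])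
      · exact Subtype.ext (by rw [pow_one, SubgroupClass.coe_pow, ← hZo x x.2 e, pow_orderOf_eq_one]; rfl)⟩)
      (hZN g hg) hk
    exact hcinv w (hZX hw) (hZo w hw hw1) g hgw
  obtain ⟨w₀, hw₀Z, hw₀1⟩ := (bot_or_exists_ne_one Z).resolve_left hZ
  have hw₀o := hZo w₀ hw₀Z hw₀1
  have hw₀X := hZX hw₀Z
  have hM : centralizer ({w₀} : Set G) = X := by
    ext g
    rw [mem_centralizer_singleton_iff]
    exact ⟨fun h => hcinv w₀ hw₀X hw₀o g h, fun h => hZcen w₀ hw₀Z g h⟩
  have hXn : ¬ X.Normal := fun hn => by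
    rcases hn.eq_bot_or_eq_top with e | e
    · exact ht₀1 (mem_bot.1 (e ▸ P.mem t₀))
    · exact P.ne_top ht₀1 e
  -- the Sylow 2-subgroups
  obtain ⟨Q⟩ : Nonempty (Sylow 2 ↥X) := inferInstance
  obtain ⟨S, hS⟩ := (Q.2.map X.subtype).exists_le_sylow
  have hSX : (S : Subgroup G) ≤ X := by
    haveI : Group.IsNilpotent ↥(S : Subgroup G) := S.2.isNilpotent
    set S0 := (Q : Subgroup ↥X).map X.subtype
    by_contra hne
    have hlt' : S0.subgroupOf (S : Subgroup G) < ⊤ := lt_top_iff_ne_top.2 fun e =>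
      hne ((subgroupOf_eq_top.1 e).trans (map_subtype_le _))
    obtain ⟨g₁, hg₁, hg₁0⟩ := SetLike.exists_of_lt (normalizerCondition_of_isNilpotent _ hlt')
    obtain ⟨w, hw⟩ : ∃ w : ↥(Q : Subgroup ↥X), orderOf w = 2 := by
      haveI : Nontrivial ↥(Q : Subgroup ↥X) := (nontrivial_iff_ne_bot _).2
        (Q.ne_bot_of_dvd_card (ht₀ ▸ Subgroup.orderOf_dvd_natCard X (P.mem t₀)))
      obtain ⟨k, hk0, hk⟩ := Q.2.nontrivial_iff_card.1 inferInstance
      exact exists_prime_orderOf_dvd_card' 2 (hk ▸ dvd_pow_self 2 hk0.ne')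
    have hwo : orderOf ((w : ↥X) : G) = 2 := by rw [Subgroup.orderOf_coe, Subgroup.orderOf_coe, hw]
    have hwS0 : ((w : ↥X) : G) ∈ S0 := ⟨_, w.2, rfl⟩
    have hgw := (mem_normalizer_iff.1 hg₁ ⟨_, hS hwS0⟩).1 hwS0
    have hgN : (g₁ : G) ∈ N := P.mem_normalizer_of_conj ht₀1 (ne_one_of_orderOf_prime Nat.prime_two hwo)
      (w : ↥X).2 (map_subtype_le _ hgw)
    obtain ⟨k, hk⟩ := S.2 g₁
    have hgX : (g₁ : G) ∈ X := hN2 _ hgN ⟨k, congrArg Subtype.val hk⟩
    have hsub : zpowers (⟨(g₁ : G), hgX⟩ : ↥X) ≤ (Q : Subgroup ↥X) := by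
      have hle : (Q : Subgroup ↥X) ≤ (S : Subgroup G).subgroupOf X := fun q hq => hS ⟨q, hq, rfl⟩
      rw [zpowers_le, ← Q.3 (S.2.comap_of_injective _ X.subtype_injective) hle]
      exact g₁.2
    exact hg₁0 ⟨_, hsub (mem_zpowers _), rfl⟩
  have hSfuse : ∀ v : G, orderOf v = 2 → ∃ c : G, c * v * c⁻¹ ∈ X := by
    intro v hv
    obtain ⟨Q', hQ'⟩ := (zpowers_two_isPGroup (x := v) (k := 1)
      (by rw [pow_one, ← hv, pow_orderOf_eq_one])).exists_le_sylow
    obtain ⟨c, hc⟩ := MulAction.exists_smul_eq G Q' S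
    refine ⟨c, hSX ?_⟩
    rw [← hc, Sylow.coe_subgroup_smul]
    exact ⟨v, hQ' (mem_zpowers v), rfl⟩
  -- every involution has its centraliser in its part
  have hBall : ∀ v : G, orderOf v = 2 → ∀ g, Commute g v → g ∈ P.comp v := by
    intro v hv g hg
    obtain ⟨c, hc⟩ := hSfuse v hv
    have hco : orderOf (c * v * c⁻¹) = 2 := by rw [← hv]; exact MulEquiv.orderOf_eq (MulAut.conj c) v
    have h1 : c * g * c⁻¹ ∈ X := hcinv _ hc hco _ (by simpa using hg.map (MulAut.conj c).toMonoidHom)
    rw [← hXout _ hc hco, P.conj] at h1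
    obtain ⟨g', hg', he⟩ := h1
    have : g' = g := by simpa using he
    exact this ▸ hg'
  -- an involution outside `N` inverting an element of prime order of `N`
  obtain ⟨v, y, hvo, hvN, hyp, hyN, hvy⟩ : ∃ v y : G, orderOf v = 2 ∧ v ∉ N ∧ (orderOf y).Prime ∧
      y ∈ N ∧ v * y * v⁻¹ = y⁻¹ := by
    by_contra hcon
    push Not at hcon
    -- then `X` has a unique involution
    have hm : ∀ w ∈ X, orderOf w = 2 → w = w₀ := by
      intro w hw hwo
      by_contra hne
      let I := {v : G // orderOf v = 2}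
      -- involutions outside lie in different cosets
      let f : {v : I // v.1 ∉ N} → {c : G ⧸ N // c ≠ QuotientGroup.mk 1} := fun v =>
        ⟨QuotientGroup.mk v.1.1, fun e => v.2 (by simpa using QuotientGroup.eq.1 e.symm)⟩
      have hf : Function.Injective f := by
        rintro ⟨⟨a, ha⟩, haN⟩ ⟨⟨b, hb⟩, hbN⟩ h
        have h' : (QuotientGroup.mk a : G ⧸ N) = QuotientGroup.mk b := congrArg Subtype.val h
        by_contra hab
        have hab' : a ≠ b := fun e => hab (by subst e; rfl)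
        have ha2 := mul_self_of_two ha
        have hb2 := mul_self_of_two hb
        have hai : a⁻¹ = a := (eq_inv_of_mul_eq_one_left ha2).symm
        have hbi : b⁻¹ = b := (eq_inv_of_mul_eq_one_left hb2).symm
        have hyN : a * b ∈ N := by rw [← hai]; exact QuotientGroup.eq.1 h'
        have hinv : a * (a * b) * a⁻¹ = (a * b)⁻¹ := by
          rw [mul_inv_rev, hbi, hai, ← mul_assoc a a b, ha2, one_mul]
        obtain ⟨p, hp, hd⟩ := Nat.exists_prime_and_dvd (n := orderOf (a * b)) fun e => hab'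
          ((eq_inv_of_mul_eq_one_left (orderOf_eq_one_iff.1 e)).trans hbi)
        obtain ⟨ho, -⟩ := exists_pow_order hp hd
        exact hcon a _ ha haN (ho.symm ▸ hp) (pow_mem hyN _)
          (by rw [← conj_pow, hinv, inv_pow])
      have h2 := Nat.card_le_card_of_injective f hf
      haveI : Fintype (G ⧸ N) := Fintype.ofFinite _
      haveI : Fintype I := Fintype.ofFinite _
      rw [Nat.card_eq_fintype_card, Nat.card_eq_fintype_card, Fintype.card_subtype_compl,
        Fintype.card_subtype_compl, Fintype.card_subtype_eq, ← Nat.card_eq_fintype_card] at h2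
      -- the involutions in `N` form an orbit
      have h3 : Fintype.card {v : I // v.1 ∈ N} * Nat.card (G ⧸ N) ≤ Nat.card I := by
        let F' : {v : I // v.1 ∈ N} × (G ⧸ N) → I := fun c =>
          ⟨Quotient.out c.2 * c.1.1.1 * (Quotient.out c.2)⁻¹, by
            exact (MulEquiv.orderOf_eq (MulAut.conj (Quotient.out c.2)) c.1.1.1).trans c.1.1.2⟩
        have hF' : Function.Injective F' := by
          rintro ⟨⟨⟨i, hio⟩, hiN⟩, c⟩ ⟨⟨⟨j, hjo⟩, hjN⟩, d⟩ h
          have h' : Quotient.out c * i * (Quotient.out c)⁻¹ = Quotient.out d * j * (Quotient.out d)⁻¹ :=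
            congrArg Subtype.val h
          have hiX := hN2 i hiN ⟨1, by rw [pow_one, ← hio, pow_orderOf_eq_one]⟩
          have hjX := hN2 j hjN ⟨1, by rw [pow_one, ← hjo, pow_orderOf_eq_one]⟩
          have hd : (Quotient.out d)⁻¹ * Quotient.out c ∈ N := P.mem_normalizer_of_conj ht₀1
            (ne_one_of_orderOf_prime Nat.prime_two hio) hiX (by
              have e : (Quotient.out d)⁻¹ * Quotient.out c * i *
                  ((Quotient.out d)⁻¹ * Quotient.out c)⁻¹ = j := by
                calc _ = (Quotient.out d)⁻¹ * (Quotient.out c * i * (Quotient.out c)⁻¹) *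
                      Quotient.out d := by group
                  _ = _ := by rw [h']; group
              rw [e]; exact hjX)
          obtain rfl : c = d := by
            have hcd := QuotientGroup.eq.2 hd
            rw [QuotientGroup.out_eq', QuotientGroup.out_eq'] at hcd
            exact hcd.symm
          obtain rfl : i = j := mul_left_cancel (mul_right_cancel h')
          rfl
        have := Nat.card_le_card_of_injective F' hF'
        rwa [Nat.card_prod, Nat.card_eq_fintype_card (α := {v : I // v.1 ∈ N})] at this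
      have h4 : 2 ≤ Fintype.card {v : I // v.1 ∈ N} := by
        refine Fintype.one_lt_card_iff.2 ⟨⟨⟨w₀, hw₀o⟩, le_normalizer hw₀X⟩, ⟨⟨w, hwo⟩, le_normalizer hw⟩, ?_⟩
        exact fun e => hne (congrArg (fun x => x.1.1) e).symm
      have h5 : 2 ≤ Nat.card (G ⧸ N) := by
        rw [← index_eq_card]
        have : N.index ≠ 1 := fun e => hXn (normalizer_eq_top_iff.1 (index_eq_one.1 e))
        have := index_ne_zero_of_finite (H := N)
        omega
      rw [Nat.card_eq_fintype_card (α := I)] at h3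
      have h6 : Fintype.card {v : I // v.1 ∈ N} ≤ Fintype.card I := Fintype.card_subtype_le _
      simp only [Nat.card_eq_fintype_card] at h2 h3 h5
      generalize Fintype.card {v : I // v.1 ∈ N} = a at *
      generalize Fintype.card (G ⧸ N) = n at *
      generalize Fintype.card I = i at *
      nlinarith [h2, h3, h4, h5, h6, Nat.sub_add_cancel h6, Nat.sub_add_cancel (Nat.one_le_of_lt h5)]
    -- so the involution is isolated
    have hiso : ∀ g : G, g * w₀ * g⁻¹ ∈ (S : Subgroup G) → g * w₀ * g⁻¹ = w₀ := fun g hg =>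
      hm _ (hSX hg) (by rw [← hw₀o]; exact MulEquiv.orderOf_eq (MulAut.conj g) w₀)
    have hw₀S : w₀ ∈ (S : Subgroup G) := by
      haveI : Nontrivial ↥(S : Subgroup G) := (nontrivial_iff_ne_bot _).2
        (S.ne_bot_of_dvd_card (ht₀ ▸ orderOf_dvd_natCard t₀))
      obtain ⟨k, hk0, hk⟩ := S.2.nontrivial_iff_card.1 inferInstance
      obtain ⟨w, hw⟩ := exists_prime_orderOf_dvd_card' (G := ↥(S : Subgroup G)) 2
        (hk ▸ dvd_pow_self 2 hk0.ne')
      exact hm w (hSX w.2) (by rw [Subgroup.orderOf_coe, hw]) ▸ w.2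
    obtain ⟨K, hK, hKodd, hKc⟩ := S0215.result S w₀ hw₀o hw₀S hiso
    rcases hK.eq_bot_or_eq_top with e | e
    · subst e
      refine hXn ?_
      rw [← hM]
      have : centralizer ({w₀} : Set G) = ⊤ := (eq_top_iff' _).2 fun g =>
        mem_centralizer_singleton_iff.2 (by
          have h := mem_bot.1 (hKc g)
          rw [mul_inv_eq_one, mul_inv_eq_iff_eq_mul] at h
          exact h.symm)
      rw [this]
      infer_instance
    · rw [e, card_top] at hKodd
      exact Nat.not_even_iff_odd.2 hKodd (even_iff_two_dvd.2 (ht₀ ▸ orderOf_dvd_natCard t₀))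
  have hv2 := mul_self_of_two hvo
  have hy1 : y ≠ 1 := fun e => Nat.not_prime_one (by rwa [e, orderOf_one] at hyp)
  have hyX : y ∉ X := fun e => hvN (P.mem_normalizer_of_conj ht₀1 hy1 e (by rw [hvy]; exact inv_mem e))
  -- such an element has no fixed point in `X`
  have hfree : ∀ x ∈ X, Commute x y → x = 1 := by
    intro x hx hxy
    by_contra hx1
    set C := centralizer ({y} : Set G) with hC
    have hvC : v ∈ normalizer (C : Set G) := by
      have key : ∀ c, c ∈ C → v * c * v⁻¹ ∈ C := fun c hc => by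
        rw [hC, mem_centralizer_singleton_iff] at hc ⊢
        have h := (show Commute c y⁻¹ from (show Commute c y from hc).inv_right).map (MulAut.conj v).toMonoidHom
        simp only [MulEquiv.coe_toMonoidHom, MulAut.conj_apply] at h
        rw [show v * y⁻¹ * v⁻¹ = y by rw [← conj_inv, hvy, inv_inv]] at h
        exact h
      refine mem_normalizer_iff.2 fun c => ⟨key c, fun h => ?_⟩
      have := key _ h
      rw [← (eq_inv_of_mul_eq_one_left hv2)] at this
      simpa [mul_assoc, hv2, ← mul_assoc v v] using this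
    by_cases hfix : ∀ c ∈ C, Commute v c → c = 1
    · refine hvN (P.mem_normalizer_of_conj ht₀1 hx1 hx ?_)
      rw [inverts_of_no_fixed hv2 hvC hfix (mem_centralizer_singleton_iff.2 hxy.eq)]
      exact inv_mem hx
    · push Not at hfix
      obtain ⟨c, hc, hvc, hc1⟩ := hfix
      have hv1 := ne_one_of_orderOf_prime Nat.prime_two hvo
      have hcY : c ∈ P.comp v := hBall v hvo c hvc.symm
      have hyNv : y ∈ normalizer (P.comp v : Set G) :=
        P.mem_normalizer_of_commute hv1 hc1 hcY (mem_centralizer_singleton_iff.1 hc).symm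
      have hy2 : y * y ∈ P.comp v := by
        have h := mul_mem ((mem_normalizer_iff.1 hyNv v).1 (P.mem v)) (inv_mem (P.mem v))
        have e : y * v * y⁻¹ * v⁻¹ = y * (v * y⁻¹ * v⁻¹) := by group
        rwa [e, show v * y⁻¹ * v⁻¹ = y by rw [← conj_inv, hvy, inv_inv]] at h
      have hyodd : orderOf y ≠ 2 := fun e => hvN (by
        exfalso
        exact hyX (hN2 y hyN ⟨1, by rw [pow_one, ← e, pow_orderOf_eq_one]⟩))
      have hy2v : y ∈ P.comp v := by
        obtain ⟨i, hi⟩ := exists_pow_eq_self_of_coprime (x := y) (n := 2)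
          ((Nat.coprime_primes Nat.prime_two hyp).2 (Ne.symm hyodd))
        rw [← hi, sq]
        exact pow_mem hy2 i
      have hcm : Commute v y := (H41.commute_of_coprime_of_isNilpotent (hnil v hv1) (P.mem v) hy2v (by
        rw [hvo]; exact (Nat.coprime_primes Nat.prime_two hyp).2 (Ne.symm hyodd)))
      rw [hcm.eq, mul_inv_cancel_right] at hvy
      exact hyodd (orderOf_two (by nth_rw 1 [hvy]; exact inv_mul_cancel y) hy1)
  -- elements commuting with nontrivial elements of `X` lie in `X`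
  have hcc : ∀ x ∈ X, x ≠ 1 → ∀ g, Commute g x → g ∈ X := by
    intro x hx hx1 g hgx
    by_contra hgX
    have hg1 : g ≠ 1 := fun e => hgX (e ▸ one_mem _)
    obtain ⟨hqp, hxo⟩ := P.prime_of_ne hg1 hx1 hgx fun e => hgX (by
      rw [hXdef, ← P.eq_of_mem ht₀1 hx1 hx, ← e]; exact P.mem g)
    set q := orderOf g with hq
    haveI := Fact.mk hqp
    have hgN : g ∈ N := P.mem_normalizer_of_commute ht₀1 hx1 hx hgx
    obtain ⟨W, hW, -, hWX, hWo, -, hWN⟩ :=
      exists_central_prime hXnil hqp (hxo ▸ Subgroup.orderOf_dvd_natCard X hx)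
    have hWp : IsPGroup q ↥W := fun x => ⟨1, by
      rcases eq_or_ne (x : G) 1 with e | e
      · exact Subtype.ext (by simp [e])
      · exact Subtype.ext (by rw [pow_one, SubgroupClass.coe_pow, ← hWo x x.2 e, pow_orderOf_eq_one]; rfl)⟩
    -- every element of order a power of `q` fixes something
    have hqfix : ∀ b ∈ N, ∀ k : ℕ, b ^ q ^ k = 1 → ∃ w ∈ X, w ≠ 1 ∧ Commute b w := fun b hb k hk => by
      obtain ⟨w, hw, hw1, hbw⟩ := exists_fixed (q := q) hW hWp (hWN b hb) hk
      exact ⟨w, hWX hw, hw1, hbw⟩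
    have hyq : orderOf y ≠ q := fun e => by
      obtain ⟨w, hw, hw1, hyw⟩ := hqfix y hyN 1 (by rw [pow_one, ← e, pow_orderOf_eq_one])
      exact hw1 (hfree w hw hyw.symm)
    -- `N / X` acts without fixed points on `Z`
    haveI : (X.subgroupOf N).Normal := normal_subgroupOf_of_le_normalizer le_rfl
    letI : CommGroup Z := { (inferInstance : Group Z) with mul_comm := hZc.is_comm.comm }
    haveI : Nontrivial Z := (nontrivial_iff_ne_bot _).2 hZ
    let ψ : ↥N →* MulAut Z := Z.normalizerMonoidHom.comp (inclusion fun n hn => hZN n hn)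
    have hker : X.subgroupOf N ≤ ψ.ker := by
      intro a ha
      refine MulEquiv.ext fun w => Subtype.ext ?_
      show (a : G) * (w : G) * (a : G)⁻¹ = w
      rw [(hZcen w w.2 a ha).eq, mul_inv_cancel_right]
    let φ : (↥N ⧸ X.subgroupOf N) →* MulAut Z := QuotientGroup.lift _ ψ hker
    have hfpf : Frobenius.IsFPF φ := by
      intro c hc w hw
      obtain ⟨⟨a, haN⟩, rfl⟩ := QuotientGroup.mk_surjective c
      by_contra hw1
      refine hc ((QuotientGroup.eq_one_iff _).2 (show a ∈ X from ?_))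
      have e : a * (w : G) * a⁻¹ = w := congrArg Subtype.val hw
      exact hcinv w (hZX w.2) (hZo w w.2 fun e' => hw1 (Subtype.ext e')) a (mul_inv_eq_iff_eq_mul.1 e)
    set Qt := ↥N ⧸ X.subgroupOf N with hQt
    have horder : ∀ a : ↥N, (a : G) ∉ X → orderOf (a : Qt) = orderOf (a : G) := by
      intro a ha
      refine Nat.dvd_antisymm ?_ (orderOf_dvd_of_pow_eq_one ?_)
      · rw [Subgroup.orderOf_coe]; exact orderOf_map_dvd (QuotientGroup.mk' _) a
      · refine P.pow_out ht₀1 ha ?_
        have h := pow_orderOf_eq_one (a : Qt)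
        rw [← QuotientGroup.mk_pow, QuotientGroup.eq_one_iff] at h
        exact h
    have hodd : Odd (Nat.card Qt) := by
      rw [← Nat.not_even_iff_odd, even_iff_two_dvd]
      intro h
      obtain ⟨c, hc⟩ := exists_prime_orderOf_dvd_card' (G := Qt) 2 h
      obtain ⟨a, rfl⟩ := QuotientGroup.mk_surjective c
      have haX : (a : G) ∉ X := fun e => by
        rw [(QuotientGroup.eq_one_iff a).2 e, orderOf_one] at hc; omega
      rw [horder a haX] at hc
      exact haX (hN2 _ a.2 ⟨1, by rw [pow_one, ← hc, pow_orderOf_eq_one]⟩)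
    haveI := S0205.result hodd
    set gb : Qt := QuotientGroup.mk ⟨g, hgN⟩
    set yb : Qt := QuotientGroup.mk ⟨y, hyN⟩
    have hgb : orderOf gb = q := horder ⟨g, hgN⟩ hgX
    have hyb : orderOf yb = orderOf y := horder ⟨y, hyN⟩ hyX
    haveI : Nontrivial Qt := nontrivial_of_ne gb 1 fun e => hqp.ne_one (by rw [← hgb, e, orderOf_one])
    obtain ⟨l, A, hl, hAn, hA, hAc, hAe⟩ := H35.Berger.exists_normal_elementary (Q := Qt)
    haveI := Fact.mk hl
    obtain ⟨c, hcA, hc1⟩ := (bot_or_exists_ne_one A).resolve_left hA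
    have hco : orderOf c = l := orderOf_eq_prime (hAe c hcA) hc1
    -- `A` is cyclic
    have hAz : ∀ d ∈ A, d ∈ zpowers c := by
      intro d hd
      by_contra hdc
      have hd1 : d ≠ 1 := fun e => hdc (e ▸ one_mem _)
      have hcomm : Commute c d := hAc c hcA d hd
      have hdo : orderOf d = l := orderOf_eq_prime (hAe d hd) hd1
      have hd' : zpowers c ⊓ zpowers d = ⊥ := by
        rw [eq_bot_iff]
        intro w hw
        rw [mem_bot]
        by_contra hw1
        refine hdc (zpowers_le.2 (mem_inf.1 hw).1 ?_)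
        exact OddOrder.BG16.mem_zpowers_of_prime (hdo.symm ▸ hl) (mem_inf.1 hw).2 hw1
      have hcc' : ∀ x ∈ zpowers c, ∀ y ∈ zpowers d, x * y = y * x := by
        intro x hx y hy
        obtain ⟨i, rfl⟩ := mem_zpowers_iff.1 hx
        obtain ⟨j, rfl⟩ := mem_zpowers_iff.1 hy
        exact (hcomm.zpow_zpow i j).eq
      set E := zpowers c ⊔ zpowers d
      have hEc : Nat.card ↥E = l ^ 2 := by
        rw [H41.card_sup_of_commute _ _ hcc' hd', Nat.card_zpowers, Nat.card_zpowers, hco, hdo, sq]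
      haveI := Frobenius.isCyclic_of_card_sq (hφ := hfpf.comp (f := E.subtype) E.subtype_injective) l hEc
      obtain ⟨e, he⟩ := IsCyclic.exists_generator (α := ↥E)
      have hel : e ^ l = 1 := Subtype.ext (hAe e ((sup_le (zpowers_le.2 hcA) (zpowers_le.2 hd) : E ≤ A) e.2))
      have h := orderOf_dvd_of_pow_eq_one hel
      rw [orderOf_eq_card_of_forall_mem_zpowers he, hEc] at h
      have := Nat.le_of_dvd hl.pos h
      have := hl.two_le
      nlinarith
    have hcomm : ∀ b : Qt, (orderOf b).Prime → Commute c b := fun b hb =>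
      commute_of_fpf hfpf (hco.symm ▸ hl) hb (hAz _ (hAn.conj_mem c hcA b))
    -- an element of order a product of two primes, one of them `q`
    obtain ⟨p, hp, hpq, e, he⟩ : ∃ p, p.Prime ∧ p ≠ q ∧ ∃ e : Qt, orderOf e = q * p := by
      by_cases hlq : l = q
      · refine ⟨_, hyp, hyq, c * yb, ?_⟩
        rw [(hcomm yb (hyb ▸ hyp)).orderOf_mul_eq_mul_orderOf_of_coprime, hco, hyb, hlq]
        rw [hco, hyb, hlq]; exact (Nat.coprime_primes hqp hyp).2 (Ne.symm hyq)
      · refine ⟨l, hl, hlq, gb * c, ?_⟩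
        rw [(hcomm gb (hgb ▸ hqp)).symm.orderOf_mul_eq_mul_orderOf_of_coprime, hco, hgb]
        rw [hco, hgb]; exact (Nat.coprime_primes hqp hl).2 (Ne.symm hlq)
    obtain ⟨⟨b, hbN⟩, rfl⟩ := QuotientGroup.mk_surjective e
    have hbX : b ∉ X := fun h => by
      rw [(QuotientGroup.eq_one_iff (⟨b, hbN⟩ : ↥N)).2 h, orderOf_one] at he
      have := hqp.two_le; have := hp.two_le; nlinarith
    rw [horder ⟨b, hbN⟩ hbX] at he
    have he' : orderOf b = q * p := he
    have hb1 : b ≠ 1 := fun h => hbX (h ▸ one_mem _)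
    have hbp : orderOf (b ^ p) = q := by
      rw [orderOf_pow' b hp.ne_zero, he', Nat.gcd_eq_right (dvd_mul_left p q), Nat.mul_div_cancel q hp.pos]
    obtain ⟨w, hw, hw1, hbw⟩ := hqfix (b ^ p) (pow_mem hbN p) 1 (by rw [pow_one, ← hbp, pow_orderOf_eq_one])
    set Y := P.comp b
    have hbpY : b ^ p ∈ Y := pow_mem (P.mem b) p
    have hwN : w ∈ normalizer (Y : Set G) := P.mem_normalizer_of_commute hb1
      (ne_one_of_orderOf_prime hqp hbp) hbpY hbw.symm
    have h1 : w * b * w⁻¹ * b⁻¹ ∈ Y :=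
      mul_mem ((mem_normalizer_iff.1 hwN b).1 (P.mem b)) (inv_mem (P.mem b))
    have h2 : w * b * w⁻¹ * b⁻¹ ∈ X := by
      have := mul_mem hw ((mem_normalizer_iff.1 hbN w⁻¹).1 (inv_mem hw))
      simpa [mul_assoc] using this
    have h3 := P.eq_one_of_mem_inter ht₀1 hb1 hbX h2 h1
    rw [mul_inv_eq_one, mul_inv_eq_iff_eq_mul] at h3
    have hwY : P.comp b = P.comp w := P.eq_of_commute' hb1 hw1 h3.symm (by
      rw [he']; exact Nat.not_prime_mul hqp.ne_one hp.ne_one)
    exact hw1 (P.eq_one_of_mem_inter ht₀1 hb1 hbX hw (show w ∈ P.comp b by rw [hwY]; exact P.mem w))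
  let F : H65.CIT.Frame G :=
    { z := w₀
      hz := hw₀o
      hS := ⟨S, hM.symm ▸ hSX⟩
      cc := fun x hx hx1 g hg => by
        rw [hM] at hx ⊢
        exact hcc x hx hx1 g (mem_centralizer_singleton_iff.1 hg)
      ti := fun x hx hx1 g hg => by
        rw [hM] at hx hg ⊢
        exact P.mem_normalizer_of_conj ht₀1 hx1 hx hg
      not_normal := by
        rw [hM]
        exact fun e => hXn (normalizer_eq_top_iff.1 e)
      invol_le := fun u hu huN => by
        rw [hM] at huN ⊢
        exact hN2 u huN ⟨1, by rw [pow_one, ← hu, pow_orderOf_eq_one]⟩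
      odd_core := fun K hK hKodd => (hK.eq_bot_or_eq_top).resolve_right fun h => by
        rw [h, Subgroup.card_top] at hKodd
        exact Nat.not_even_iff_odd.2 hKodd (even_iff_two_dvd.2 (hw₀o ▸ orderOf_dvd_natCard w₀)) }
  have hp := F.isPGroup_M
  obtain ⟨k, hk⟩ := hp ⟨z₁, show z₁ ∈ centralizer ({w₀} : Set G) by rw [hM]; exact hz₁X⟩
  exact hz₁2 k (congrArg Subtype.val hk)

end Part

end Cfsg.Agent.H84.Partition
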