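import Cfsg.Agent.H84.Partition.Lemmas

/-!
# Groups with a partition: a normal part whose order is not a prime power
-/

namespace Cfsg.Agent.H84.Partition

open Subgroup

universe u

variable {G : Type u} [Group G] [Finite G] (P : Part G)

namespace Part

theorem orderOf_of_commute_normal {a : G} (ha : a ≠ 1) {g z : G} (hg : g ∉ P.comp a)
    (hz : z ∈ P.comp a) (hz1 : z ≠ 1) (hc : Commute g z) :
    (orderOf g).Prime ∧ orderOf z = orderOf g :=
  P.prime_of_ne (fun h => hg (h ▸ one_mem _)) hz1 hc fun he =>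
    hg (P.eq_of_mem ha hz1 hz ▸ he ▸ P.mem g)

/-- Outside a normal part of non-prime-power order all elements have prime order. -/
theorem prime_order_out (hNS : P.NoSelfNormalizing) {a : G} (ha : a ≠ 1) [(P.comp a).Normal]
    {l₁ l₂ : ℕ} (h₁ : l₁.Prime) (h₂ : l₂.Prime) (hne : l₁ ≠ l₂) (hd₁ : l₁ ∣ Nat.card ↥(P.comp a))
    (hd₂ : l₂ ∣ Nat.card ↥(P.comp a)) {g : G} (hg : g ∉ P.comp a) : (orderOf g).Prime := by
  by_contra hnp
  have hg1 : g ≠ 1 := fun h => hg (h ▸ one_mem _)
  set X := P.comp a with hX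
  set Y := P.comp g with hY
  have hXY : ∀ z, z ∈ X → z ∈ Y → z = 1 := fun z => P.eq_one_of_mem_inter ha hg1 hg
  have hNX : ∀ w, w ∈ normalizer (Y : Set G) → w ∈ X → w = 1 := by
    intro w hwN hwX
    by_contra hw1
    have h1 : w * g * w⁻¹ * g⁻¹ ∈ Y :=
      mul_mem ((mem_normalizer_iff.1 hwN g).1 (P.mem g)) (inv_mem (P.mem g))
    have h2 : w * g * w⁻¹ * g⁻¹ ∈ X := by
      have h := mul_mem hwX ((inferInstance : X.Normal).conj_mem _ (inv_mem hwX) g)
      simpa [mul_assoc] using h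
    have hc : Commute g w := by
      have h := hXY _ h2 h1
      rw [mul_inv_eq_one, mul_inv_eq_iff_eq_mul] at h
      exact h.symm
    exact hnp (P.orderOf_of_commute_normal ha hg hwX hw1 hc).1
  obtain ⟨h, hhN, hhY, hq⟩ := hNS.exists_out hg1
  set q := orderOf h with hqdef
  haveI : Fact q.Prime := ⟨hq⟩
  have hh1 : h ≠ 1 := fun e => hhY (e ▸ one_mem _)
  have hhX : h ∉ X := fun e => hh1 (hNX h hhN e)
  have hYnil := hNS.isNilpotent hg1
  have hmemN : ∀ w, w ∈ Y → w ∈ normalizer (Y : Set G) := fun w hw => le_normalizer hw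
  obtain ⟨l, hl, hld, hlq⟩ : ∃ l, l.Prime ∧ l ∣ Nat.card ↥X ∧ l ≠ q := by
    by_cases h' : l₁ = q
    · exact ⟨l₂, h₂, hd₂, fun e => hne (h'.trans e.symm)⟩
    · exact ⟨l₁, h₁, hd₁, h'⟩
  have hXnil := hNS.isNilpotent ha
  -- the prime `q` does not divide the order of `Y`
  have hqY : ∀ z, z ∈ Y → orderOf z ≠ q := by
    intro z hz hzq
    have hdvd : q ∣ Nat.card ↥Y := hzq ▸ Subgroup.orderOf_dvd_natCard Y hz
    obtain ⟨Z, hZ, -, hZY, hZo, -, hZN⟩ := exists_central_prime hYnil hq hdvd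
    obtain ⟨c, hcZ, hc1, hcomm⟩ := exists_fixed (q := q) hZ
      (fun x => ⟨1, by
        rcases eq_or_ne (x : G) 1 with e | e
        · exact Subtype.ext (by simp [e])
        · exact Subtype.ext (by rw [pow_one, SubgroupClass.coe_pow, ← hZo x x.2 e, pow_orderOf_eq_one]; rfl)⟩)
      (hZN h hhN) (k := 1) (by rw [pow_one, hqdef, pow_orderOf_eq_one])
    obtain ⟨W, hW, hWc, hWX, hWo, -, hWN⟩ := exists_central_prime hXnil hl hld
    haveI := hWc
    have hnorm : ∀ x : G, x ∈ normalizer (W : Set G) := fun x => hWN x (by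
      rw [normalizer_eq_top_iff.2 (inferInstance : X.Normal)]; exact mem_top x)
    refine false_of_fpf_square hW hq (hZo c hcZ hc1) rfl hcomm.symm (fun e => hhY ?_) (hnorm c) (hnorm h)
      fun w hw1 hw z hz hwz => ?_
    · exact (zpowers_le.2 (hZY hcZ)) e
    by_contra hz1
    have hwN : w ∈ normalizer (Y : Set G) :=
      (sup_le (zpowers_le.2 (hmemN c (hZY hcZ))) (zpowers_le.2 hhN) : pairSub c h ≤ _) hw
    have hwX : w ∉ X := fun e => hw1 (hNX w hwN e)
    have hwq : orderOf w = q := by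
      obtain ⟨i, j, rfl⟩ := mem_pairSub hcomm.symm hw
      refine orderOf_eq_prime ?_ hw1
      rw [(hcomm.symm.zpow_zpow i j).mul_pow, ← zpow_natCast, ← zpow_natCast, zpow_comm c,
        zpow_comm h, zpow_natCast, zpow_natCast, hqdef, pow_orderOf_eq_one, ← hqdef,
        ← hZo c hcZ hc1, pow_orderOf_eq_one, one_zpow, one_zpow, mul_one]
    have := (P.orderOf_of_commute_normal ha hwX (hWX hz) hz1 hwz).2
    rw [hwq, hWo z hz hz1] at this
    exact hlq this
  -- for each prime `s` of `Y` the primes of `X` are `s` or `q`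
  have key : ∀ s, s.Prime → s ∣ Nat.card ↥Y →
      ∀ m, m.Prime → m ∣ Nat.card ↥X → m = s ∨ m = q := by
    intro s hs hsd m hm hmd
    by_contra hcon
    push Not at hcon
    obtain ⟨Z, hZ, hZc, hZY, hZo, -, hZN⟩ := exists_central_prime hYnil hs hsd
    obtain ⟨y, hy, hy1⟩ := (bot_or_exists_ne_one Z).resolve_left hZ
    obtain ⟨W, hW, hWc, hWX, hWo, -, hWN⟩ := exists_central_prime hXnil hm hmd
    haveI := hWc
    have hnorm : ∀ x : G, x ∈ normalizer (W : Set G) := fun x => hWN x (by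
      rw [normalizer_eq_top_iff.2 (inferInstance : X.Normal)]; exact mem_top x)
    have hfix : ∀ w : G, w ∉ X → ∀ z ∈ W, Commute w z → orderOf w ≠ m → z = 1 := by
      intro w hw z hz hc ho
      by_contra hz1
      exact ho ((P.orderOf_of_commute_normal ha hw (hWX hz) hz1 hc).2.symm.trans (hWo z hz hz1))
    have hYX : ∀ w, w ∈ Y → w ≠ 1 → w ∉ X := fun w hw hw1 hwX => hw1 (hXY w hwX hw)
    have hall : ∀ b ∈ Z, b ∈ zpowers y := by
      intro b hb
      by_contra hby
      have hb1 : b ≠ 1 := fun e => hby (e ▸ one_mem _)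
      haveI := hZc
      have hyb : Commute y b := congrArg Subtype.val (hZc.is_comm.comm ⟨y, hy⟩ ⟨b, hb⟩)
      refine false_of_fpf_square hW hs (hZo y hy hy1) (hZo b hb hb1) hyb hby (hnorm y) (hnorm b)
        fun w hw1 hw z hz hc => ?_
      have hwZ : w ∈ Z := (sup_le (zpowers_le.2 hy) (zpowers_le.2 hb) : pairSub y b ≤ Z) hw
      exact hfix w (hYX w (hZY hwZ) hw1) z hz hc (by rw [hZo w hwZ hw1]; exact hcon.1.symm)
    have hyh : h * y * h⁻¹ ∈ zpowers y :=
      hall _ ((mem_normalizer_iff.1 (hZN h hhN) y).1 hy)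
    have hnc : ¬ Commute y h := fun hc => hhY
      (P.mem_of_commute hg1 hy1 (hZY hy) hc (fun e => hqY y (hZY hy) (e.symm)))
    refine hW (OddOrder.BG16.eq_bot_of_fpf_metacyclic (hnorm y) (hnorm h) ?_ hq hyh hnc
      (fun v hv hc => hfix y (hYX y (hZY hy) hy1) v hv hc ?_) fun v hv hc => hfix h hhX v hv hc ?_)
    · rw [hZo y hy hy1]; exact hs
    · rw [hZo y hy hy1]; exact hcon.1.symm
    · exact hcon.2.symm
  -- hence `Y` is an `s`-group
  obtain ⟨s, hs, hsd⟩ := Nat.exists_prime_and_dvd (n := orderOf g)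
    fun e => hg1 (orderOf_eq_one_iff.1 e)
  have hgY : orderOf g ∣ Nat.card ↥Y := Subgroup.orderOf_dvd_natCard Y (P.mem g)
  have hone : ∀ s', s'.Prime → s' ∣ orderOf g → s' = s := by
    intro s' hs' hd'
    rcases key s hs (hsd.trans hgY) l hl hld with e | e
    · rcases key s' hs' (hd'.trans hgY) l hl hld with e' | e'
      · exact e'.symm.trans e
      · exact absurd e' hlq
    · exact absurd e hlq
  have hls : l = s := (key s hs (hsd.trans hgY) l hl hld).resolve_right hlq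
  subst hls
  haveI : Fact l.Prime := ⟨hl⟩
  obtain ⟨W, hW, -, hWX, hWo, -, hWN⟩ := exists_central_prime hXnil hl hld
  obtain ⟨k, hk⟩ := exists_pow_eq_one hone
  obtain ⟨z, hz, hz1, hc⟩ := exists_fixed (q := l) hW
    (fun x => ⟨1, by
      rcases eq_or_ne (x : G) 1 with e | e
      · exact Subtype.ext (by simp [e])
      · exact Subtype.ext (by rw [pow_one, SubgroupClass.coe_pow, ← hWo x x.2 e, pow_orderOf_eq_one]; rfl)⟩)
    (hWN g (by rw [normalizer_eq_top_iff.2 (inferInstance : X.Normal)]; exact mem_top g)) hk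
  exact hnp (P.orderOf_of_commute_normal ha hg (hWX hz) hz1 hc).1

/-- There is no normal part of non-prime-power order. -/
theorem false_of_two_primes (hNS : P.NoSelfNormalizing) (hNH : NoHughes G) {a : G} (ha : a ≠ 1)
    [(P.comp a).Normal] {l₁ l₂ : ℕ} (h₁ : l₁.Prime) (h₂ : l₂.Prime) (hne : l₁ ≠ l₂)
    (hd₁ : l₁ ∣ Nat.card ↥(P.comp a)) (hd₂ : l₂ ∣ Nat.card ↥(P.comp a)) : False := by
  classical
  set X := P.comp a with hX
  have hout : ∀ g, g ∉ X → (orderOf g).Prime := fun g =>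
    P.prime_order_out hNS ha h₁ h₂ hne hd₁ hd₂
  have hXnil := hNS.isNilpotent ha
  haveI : IsZGroup (G ⧸ X) := by
    refine ⟨fun p hp S => ?_⟩
    haveI := Fact.mk hp
    obtain ⟨m, hm, hmd, hmp⟩ : ∃ m, m.Prime ∧ m ∣ Nat.card ↥X ∧ m ≠ p := by
      by_cases h' : l₁ = p
      · exact ⟨l₂, h₂, hd₂, fun e => hne (h'.trans e.symm)⟩
      · exact ⟨l₁, h₁, hd₁, h'⟩
    obtain ⟨W, hW, hWc, hWX, hWo, hWZ, hWN⟩ := exists_central_prime hXnil hm hmd
    letI : CommGroup W :=
      { (inferInstance : Group W) with mul_comm := hWc.is_comm.comm }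
    haveI : Nontrivial W := (nontrivial_iff_ne_bot _).2 hW
    have hnorm : ∀ x : G, x ∈ normalizer (W : Set G) := fun x => hWN x (by
      rw [normalizer_eq_top_iff.2 (inferInstance : X.Normal)]; exact mem_top x)
    let ψ : G →* MulAut W := W.normalizerMonoidHom.comp
      ((MonoidHom.id G).codRestrict _ hnorm)
    have hker : X ≤ ψ.ker := by
      intro x hx
      refine MulEquiv.ext fun w => Subtype.ext ?_
      show x * (w : G) * x⁻¹ = w
      rw [(hWZ w w.2 x hx).eq, mul_inv_cancel_right]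
    let φ : ↥(S : Subgroup (G ⧸ X)) →* MulAut W :=
      (QuotientGroup.lift X ψ hker).comp (S : Subgroup (G ⧸ X)).subtype
    have hfpf : Frobenius.IsFPF φ := by
      rintro ⟨c, hc⟩ hc1 w hw
      obtain ⟨g, rfl⟩ := QuotientGroup.mk_surjective c
      by_contra hw1
      have hgX : g ∉ X := fun e => hc1 (Subtype.ext ((QuotientGroup.eq_one_iff g).2 e))
      have hgw : g * (w : G) * g⁻¹ = w := congrArg Subtype.val hw
      have ho := (P.orderOf_of_commute_normal ha hgX (hWX w.2)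
        (fun e => hw1 (Subtype.ext e)) (mul_inv_eq_iff_eq_mul.1 hgw)).2
      rw [hWo w w.2 (fun e => hw1 (Subtype.ext e))] at ho
      obtain ⟨k, hk⟩ := S.2 ⟨_, hc⟩
      have hdvd : orderOf (QuotientGroup.mk' X g) ∣ p ^ k :=
        orderOf_dvd_of_pow_eq_one (congrArg Subtype.val hk)
      have hd2 : orderOf (QuotientGroup.mk' X g) ∣ m := ho ▸ orderOf_map_dvd _ g
      rcases (Nat.dvd_prime hm).1 hd2 with e | e
      · exact hgX ((QuotientGroup.eq_one_iff g).1 (orderOf_eq_one_iff.1 e))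
      · exact hmp ((Nat.prime_dvd_prime_iff_eq hm hp).1 (hm.dvd_of_dvd_pow (e ▸ hdvd)))
    rcases H76.cyclic_or_quaternion_of_fpf hfpf p S.2 with hc | ⟨-, n, ⟨e⟩⟩
    · exact hc
    · exfalso
      obtain ⟨g, hg⟩ := QuotientGroup.mk_surjective
        ((e.symm (QuaternionGroup.xa 0) : ↥(S : Subgroup (G ⧸ X))) : G ⧸ X)
      have h4 : orderOf (g : G ⧸ X) = 4 := by
        rw [hg, Subgroup.orderOf_coe, e.symm.orderOf_eq, QuaternionGroup.orderOf_xa]
      have hgX : g ∉ X := fun e' => by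
        rw [(QuotientGroup.eq_one_iff g).2 e', orderOf_one] at h4
        omega
      have hd : 4 ∣ orderOf g := h4 ▸ orderOf_map_dvd (QuotientGroup.mk' X) g
      have h24 : (2 : ℕ) ∣ orderOf g := (show (2 : ℕ) ∣ 4 by norm_num).trans hd
      rw [← (Nat.prime_dvd_prime_iff_eq Nat.prime_two (hout g hgX)).1 h24] at hd
      omega
  exact hNH.false_of_solvable_quotient X (P.ne_top ha) hout

end Part

end Cfsg.Agent.H84.Partition
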